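import Cfsg.Agent.Lib.U34Rec.BlockSearch

/-!
The lists of units of the principal blocks of the type of `U₃(4)`.
-/

namespace Cfsg.Agent.U34Block

/-- Units of a block. -/
def units00 : List Un :=
  [⟨1, 1, 4, (-3), 0⟩,
    ⟨2, 1, 2, (-1), 0⟩,
    ⟨4, 1, 4, 1, 0⟩,
    ⟨1, 0, 4, 0, 0⟩,
    ⟨1, 0, 4, 0, 0⟩,
    ⟨1, 0, 4, 0, 0⟩,
    ⟨2, 2, 6, 0, 0⟩]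

/-- Units of a block. -/
def units01 : List Un :=
  [⟨1, 1, 4, (-3), 0⟩,
    ⟨1, 2, 8, 2, 0⟩,
    ⟨2, 1, 2, (-1), 0⟩,
    ⟨1, 0, 4, 0, 0⟩,
    ⟨1, 0, 4, 0, 0⟩,
    ⟨1, 0, 4, 0, 0⟩,
    ⟨2, 2, 6, 0, 0⟩]

/-- Units of a block. -/
def units02 : List Un :=
  [⟨1, 1, 4, (-3), 0⟩,
    ⟨4, 0, 1, 1, 0⟩,
    ⟨1, 1, 0, 1, 0⟩,
    ⟨1, 1, 8, 1, 0⟩,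
    ⟨1, 0, 4, 0, 0⟩,
    ⟨4, 1, 3, 0, 0⟩,
    ⟨4, 1, 3, 0, 0⟩,
    ⟨4, 1, 3, 0, 0⟩]

/-- Units of a block. -/
def units03 : List Un :=
  [⟨1, 1, 4, (-3), 0⟩,
    ⟨4, 0, 1, 1, 0⟩,
    ⟨1, 1, 4, 1, 0⟩,
    ⟨1, 1, 4, 1, 0⟩,
    ⟨1, 0, 4, 0, 0⟩,
    ⟨1, 0, 4, 0, 0⟩,
    ⟨1, 0, 4, 0, 0⟩,
    ⟨4, 1, 3, 0, 0⟩,
    ⟨4, 1, 3, 0, 0⟩,
    ⟨4, 1, 3, 0, 0⟩]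

/-- Units of a block. -/
def units04 : List Un :=
  [⟨1, 1, 4, (-3), 0⟩,
    ⟨1, 1, 0, 1, 0⟩,
    ⟨2, 1, 2, (-1), 0⟩,
    ⟨1, 1, 4, 1, 0⟩,
    ⟨1, 1, 4, 1, 0⟩,
    ⟨1, 1, 8, 1, 0⟩,
    ⟨1, 0, 4, 0, 0⟩,
    ⟨2, 2, 6, 0, 0⟩]

/-- Units of a block. -/
def units05 : List Un :=
  [⟨1, 1, 4, (-3), 0⟩,
    ⟨2, 1, 2, (-1), 0⟩,
    ⟨1, 1, 4, 1, 0⟩,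
    ⟨1, 1, 4, 1, 0⟩,
    ⟨1, 1, 4, 1, 0⟩,
    ⟨1, 1, 4, 1, 0⟩,
    ⟨1, 0, 4, 0, 0⟩,
    ⟨1, 0, 4, 0, 0⟩,
    ⟨1, 0, 4, 0, 0⟩,
    ⟨2, 2, 6, 0, 0⟩]

/-- Units of a block. -/
def units06 : List Un :=
  [⟨1, 1, 0, (-3), 0⟩,
    ⟨1, 1, 0, 1, 0⟩,
    ⟨1, 1, 4, 1, 0⟩,
    ⟨1, 1, 4, 1, 0⟩,
    ⟨1, 1, 4, 1, 0⟩,
    ⟨2, 1, 6, (-1), 0⟩,
    ⟨1, 0, 4, 0, 0⟩,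
    ⟨2, 2, 6, 0, 0⟩]

/-- Units of a block. -/
def units07 : List Un :=
  [⟨2, 0, 2, 2, 0⟩,
    ⟨1, 2, 8, (-2), 0⟩,
    ⟨1, 1, 0, 1, 0⟩,
    ⟨1, 1, 0, 1, 0⟩,
    ⟨1, 1, 8, 1, 0⟩,
    ⟨2, 2, 6, 0, 0⟩]

/-- Units of a block. -/
def units08 : List Un :=
  [⟨2, 0, 2, 2, 0⟩,
    ⟨1, 2, 8, (-2), 0⟩,
    ⟨1, 1, 0, 1, 0⟩,
    ⟨1, 1, 4, 1, 0⟩,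
    ⟨1, 1, 4, 1, 0⟩,
    ⟨1, 0, 4, 0, 0⟩,
    ⟨1, 0, 4, 0, 0⟩,
    ⟨2, 2, 6, 0, 0⟩]

/-- Units of a block. -/
def units09 : List Un :=
  [⟨2, 0, 2, 2, 0⟩,
    ⟨1, 2, 4, 2, 0⟩,
    ⟨2, 1, 2, (-1), 0⟩,
    ⟨1, 3, 12, (-1), 0⟩,
    ⟨1, 0, 4, 0, 0⟩,
    ⟨1, 0, 4, 0, 0⟩]

/-- Units of a block. -/
def units10 : List Un :=
  [⟨2, 0, 2, 2, 0⟩,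
    ⟨1, 1, 0, 1, 0⟩,
    ⟨1, 1, 4, 1, 0⟩,
    ⟨1, 1, 4, 1, 0⟩,
    ⟨1, 1, 4, 1, 0⟩,
    ⟨2, 1, 6, (-1), 0⟩,
    ⟨1, 3, 8, (-1), 0⟩,
    ⟨1, 0, 4, 0, 0⟩]

/-- Units of a block. -/
def units11 : List Un :=
  [⟨2, 0, 2, 2, 0⟩,
    ⟨1, 1, 0, 1, 0⟩,
    ⟨1, 1, 0, 1, 0⟩,
    ⟨2, 1, 2, (-1), 0⟩,
    ⟨1, 1, 4, 1, 0⟩,
    ⟨1, 1, 4, 1, 0⟩,
    ⟨1, 3, 12, (-1), 0⟩,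
    ⟨1, 0, 4, 0, 0⟩]

/-- Units of a block. -/
def units12 : List Un :=
  [⟨2, 0, 2, (-2), 0⟩,
    ⟨4, 1, 2, (-1), 0⟩,
    ⟨1, 1, 4, 1, 0⟩,
    ⟨1, 1, 4, 1, 0⟩,
    ⟨1, 1, 8, 1, 0⟩,
    ⟨1, 0, 4, 0, 0⟩,
    ⟨4, 1, 3, 0, 0⟩,
    ⟨4, 1, 3, 0, 0⟩]

/-- Units of a block. -/
def units13 : List Un :=
  [⟨2, 0, 2, (-2), 0⟩,
    ⟨1, 2, 4, (-2), 0⟩,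
    ⟨1, 1, 4, 1, 0⟩,
    ⟨1, 1, 4, 1, 0⟩,
    ⟨1, 1, 8, 1, 0⟩,
    ⟨1, 0, 4, 0, 0⟩,
    ⟨2, 2, 6, 0, 0⟩]

/-- Units of a block. -/
def units14 : List Un :=
  [⟨2, 0, 2, (-2), 0⟩,
    ⟨2, 1, 2, (-1), 0⟩,
    ⟨1, 1, 4, 1, 0⟩,
    ⟨1, 1, 4, 1, 0⟩,
    ⟨1, 1, 4, 1, 0⟩,
    ⟨1, 1, 8, 1, 0⟩,
    ⟨1, 3, 8, (-1), 0⟩,
    ⟨1, 0, 4, 0, 0⟩]

/-- Units of a block. -/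
def units15 : List Un :=
  [⟨1, 2, 8, (-2), 0⟩,
    ⟨1, 1, 0, 1, 0⟩,
    ⟨1, 1, 0, 1, 0⟩,
    ⟨4, 1, 2, (-1), 0⟩,
    ⟨4, 1, 4, 1, 0⟩,
    ⟨1, 1, 8, 1, 0⟩]

/-- Units of a block. -/
def units16 : List Un :=
  [⟨1, 2, 8, (-2), 0⟩,
    ⟨1, 1, 0, 1, 0⟩,
    ⟨4, 1, 2, (-1), 0⟩,
    ⟨4, 1, 4, 1, 0⟩,
    ⟨1, 1, 4, 1, 0⟩,
    ⟨1, 1, 4, 1, 0⟩,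
    ⟨1, 0, 4, 0, 0⟩,
    ⟨1, 0, 4, 0, 0⟩]

/-- Units of a block. -/
def units17 : List Un :=
  [⟨1, 2, 8, (-2), 0⟩,
    ⟨1, 1, 0, 1, 0⟩,
    ⟨1, 1, 0, 1, 0⟩,
    ⟨2, 1, 2, (-1), 0⟩,
    ⟨2, 1, 2, (-1), 0⟩,
    ⟨4, 1, 4, 1, 0⟩,
    ⟨1, 1, 8, 1, 0⟩]

/-- Units of a block. -/
def units18 : List Un :=
  [⟨1, 2, 8, (-2), 0⟩,
    ⟨1, 1, 0, 1, 0⟩,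
    ⟨2, 1, 2, (-1), 0⟩,
    ⟨2, 1, 2, (-1), 0⟩,
    ⟨4, 1, 4, 1, 0⟩,
    ⟨1, 1, 4, 1, 0⟩,
    ⟨1, 1, 4, 1, 0⟩,
    ⟨1, 0, 4, 0, 0⟩,
    ⟨1, 0, 4, 0, 0⟩]

/-- Units of a block. -/
def units19 : List Un :=
  [⟨1, 2, 4, (-2), 0⟩,
    ⟨1, 1, 0, 1, 0⟩,
    ⟨2, 1, 2, (-1), 0⟩,
    ⟨4, 1, 4, 1, 0⟩,
    ⟨1, 1, 4, 1, 0⟩,
    ⟨1, 1, 4, 1, 0⟩,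
    ⟨2, 1, 6, (-1), 0⟩,
    ⟨1, 0, 4, 0, 0⟩]

/-- Units of a block. -/
def units22 : List Un :=
  [⟨1, 2, 8, (-2), 0⟩,
    ⟨1, 2, 8, 2, 0⟩,
    ⟨1, 1, 0, 1, 0⟩,
    ⟨1, 1, 0, 1, 0⟩,
    ⟨4, 1, 2, (-1), 0⟩,
    ⟨1, 1, 8, 1, 0⟩]

/-- Units of a block. -/
def units23 : List Un :=
  [⟨1, 2, 8, (-2), 0⟩,
    ⟨1, 2, 8, 2, 0⟩,
    ⟨1, 1, 0, 1, 0⟩,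
    ⟨4, 1, 2, (-1), 0⟩,
    ⟨1, 1, 4, 1, 0⟩,
    ⟨1, 1, 4, 1, 0⟩,
    ⟨1, 0, 4, 0, 0⟩,
    ⟨1, 0, 4, 0, 0⟩]

/-- Units of a block. -/
def units24 : List Un :=
  [⟨1, 2, 4, 2, 0⟩,
    ⟨1, 2, 8, (-2), 0⟩,
    ⟨4, 1, 2, (-1), 0⟩,
    ⟨1, 1, 4, 1, 0⟩,
    ⟨1, 1, 4, 1, 0⟩,
    ⟨1, 1, 8, 1, 0⟩,
    ⟨1, 0, 4, 0, 0⟩]

/-- Units of a block. -/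
def units25 : List Un :=
  [⟨1, 2, 8, (-2), 0⟩,
    ⟨1, 1, 0, 1, 0⟩,
    ⟨1, 1, 0, 1, 0⟩,
    ⟨4, 1, 2, (-1), 0⟩,
    ⟨1, 1, 4, 1, 0⟩,
    ⟨1, 1, 4, 1, 0⟩,
    ⟨1, 1, 4, 1, 0⟩,
    ⟨1, 1, 4, 1, 0⟩,
    ⟨1, 1, 8, 1, 0⟩]

/-- Units of a block. -/
def units26 : List Un :=
  [⟨1, 2, 8, (-2), 0⟩,
    ⟨1, 1, 0, 1, 0⟩,
    ⟨4, 1, 2, (-1), 0⟩,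
    ⟨1, 1, 4, 1, 0⟩,
    ⟨1, 1, 4, 1, 0⟩,
    ⟨1, 1, 4, 1, 0⟩,
    ⟨1, 1, 4, 1, 0⟩,
    ⟨1, 1, 4, 1, 0⟩,
    ⟨1, 1, 4, 1, 0⟩,
    ⟨1, 0, 4, 0, 0⟩,
    ⟨1, 0, 4, 0, 0⟩]

/-- Units of a block. -/
def units34 : List Un :=
  [⟨1, 2, 8, 2, 0⟩,
    ⟨4, 0, 1, 1, 0⟩,
    ⟨1, 1, 0, 1, 0⟩,
    ⟨4, 1, 2, (-1), 0⟩,
    ⟨2, 1, 6, (-1), 0⟩,
    ⟨1, 0, 4, 0, 0⟩,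
    ⟨4, 1, 3, 0, 0⟩]

/-- Units of a block. -/
def units38 : List Un :=
  [⟨1, 2, 4, 2, 0⟩,
    ⟨4, 0, 1, 1, 0⟩,
    ⟨4, 1, 2, (-1), 0⟩,
    ⟨2, 1, 6, (-1), 0⟩,
    ⟨1, 1, 8, 1, 0⟩,
    ⟨4, 1, 3, 0, 0⟩]

/-- Units of a block. -/
def units39 : List Un :=
  [⟨4, 0, 1, 1, 0⟩,
    ⟨1, 1, 0, 1, 0⟩,
    ⟨4, 1, 2, (-1), 0⟩,
    ⟨1, 1, 4, 1, 0⟩,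
    ⟨1, 1, 4, 1, 0⟩,
    ⟨1, 1, 4, 1, 0⟩,
    ⟨1, 1, 4, 1, 0⟩,
    ⟨2, 1, 6, (-1), 0⟩,
    ⟨1, 0, 4, 0, 0⟩,
    ⟨4, 1, 3, 0, 0⟩]

/-- Units of a block. -/
def units40 : List Un :=
  [⟨1, 2, 8, (-2), 0⟩,
    ⟨1, 2, 8, 2, 0⟩,
    ⟨1, 1, 0, 1, 0⟩,
    ⟨1, 1, 0, 1, 0⟩,
    ⟨2, 1, 2, (-1), 0⟩,
    ⟨2, 1, 2, (-1), 0⟩,
    ⟨1, 1, 8, 1, 0⟩]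

/-- Units of a block. -/
def units41 : List Un :=
  [⟨1, 2, 8, (-2), 0⟩,
    ⟨1, 2, 8, 2, 0⟩,
    ⟨1, 1, 0, 1, 0⟩,
    ⟨2, 1, 2, (-1), 0⟩,
    ⟨2, 1, 2, (-1), 0⟩,
    ⟨1, 1, 4, 1, 0⟩,
    ⟨1, 1, 4, 1, 0⟩,
    ⟨1, 0, 4, 0, 0⟩,
    ⟨1, 0, 4, 0, 0⟩]

/-- Units of a block. -/
def units42 : List Un :=
  [⟨1, 2, 4, (-2), 0⟩,
    ⟨1, 2, 8, 2, 0⟩,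
    ⟨1, 1, 0, 1, 0⟩,
    ⟨2, 1, 2, (-1), 0⟩,
    ⟨1, 1, 4, 1, 0⟩,
    ⟨1, 1, 4, 1, 0⟩,
    ⟨2, 1, 6, (-1), 0⟩,
    ⟨1, 0, 4, 0, 0⟩]

/-- Units of a block. -/
def units43 : List Un :=
  [⟨1, 2, 4, 2, 0⟩,
    ⟨1, 2, 8, (-2), 0⟩,
    ⟨2, 1, 2, (-1), 0⟩,
    ⟨2, 1, 2, (-1), 0⟩,
    ⟨1, 1, 4, 1, 0⟩,
    ⟨1, 1, 4, 1, 0⟩,
    ⟨1, 1, 8, 1, 0⟩,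
    ⟨1, 0, 4, 0, 0⟩]

/-- Units of a block. -/
def units44 : List Un :=
  [⟨1, 2, 8, (-2), 0⟩,
    ⟨4, 0, 1, 1, 0⟩,
    ⟨4, 0, 1, 1, 0⟩,
    ⟨1, 1, 0, 1, 0⟩,
    ⟨1, 1, 0, 1, 0⟩,
    ⟨1, 1, 8, 1, 0⟩,
    ⟨4, 1, 3, 0, 0⟩,
    ⟨4, 1, 3, 0, 0⟩]

/-- Units of a block. -/
def units45 : List Un :=
  [⟨1, 2, 8, (-2), 0⟩,
    ⟨4, 0, 1, 1, 0⟩,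
    ⟨4, 0, 1, 1, 0⟩,
    ⟨1, 1, 0, 1, 0⟩,
    ⟨1, 1, 4, 1, 0⟩,
    ⟨1, 1, 4, 1, 0⟩,
    ⟨1, 0, 4, 0, 0⟩,
    ⟨1, 0, 4, 0, 0⟩,
    ⟨4, 1, 3, 0, 0⟩,
    ⟨4, 1, 3, 0, 0⟩]

/-- Units of a block. -/
def units46 : List Un :=
  [⟨1, 2, 8, (-2), 0⟩,
    ⟨1, 1, 0, 1, 0⟩,
    ⟨1, 1, 0, 1, 0⟩,
    ⟨2, 1, 2, (-1), 0⟩,
    ⟨2, 1, 2, (-1), 0⟩,
    ⟨1, 1, 4, 1, 0⟩,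
    ⟨1, 1, 4, 1, 0⟩,
    ⟨1, 1, 4, 1, 0⟩,
    ⟨1, 1, 4, 1, 0⟩,
    ⟨1, 1, 8, 1, 0⟩]

/-- Units of a block. -/
def units47 : List Un :=
  [⟨1, 2, 8, (-2), 0⟩,
    ⟨1, 1, 0, 1, 0⟩,
    ⟨2, 1, 2, (-1), 0⟩,
    ⟨2, 1, 2, (-1), 0⟩,
    ⟨1, 1, 4, 1, 0⟩,
    ⟨1, 1, 4, 1, 0⟩,
    ⟨1, 1, 4, 1, 0⟩,
    ⟨1, 1, 4, 1, 0⟩,
    ⟨1, 1, 4, 1, 0⟩,
    ⟨1, 1, 4, 1, 0⟩,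
    ⟨1, 0, 4, 0, 0⟩,
    ⟨1, 0, 4, 0, 0⟩]

/-- Units of a block. -/
def units48 : List Un :=
  [⟨1, 2, 4, (-2), 0⟩,
    ⟨1, 2, 4, 2, 0⟩,
    ⟨2, 1, 2, (-1), 0⟩,
    ⟨1, 1, 4, 1, 0⟩,
    ⟨1, 1, 4, 1, 0⟩,
    ⟨2, 1, 6, (-1), 0⟩,
    ⟨1, 1, 8, 1, 0⟩]

/-- Units of a block. -/
def units49 : List Un :=
  [⟨1, 2, 4, (-2), 0⟩,
    ⟨1, 1, 0, 1, 0⟩,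
    ⟨2, 1, 2, (-1), 0⟩,
    ⟨1, 1, 4, 1, 0⟩,
    ⟨1, 1, 4, 1, 0⟩,
    ⟨1, 1, 4, 1, 0⟩,
    ⟨1, 1, 4, 1, 0⟩,
    ⟨1, 1, 4, 1, 0⟩,
    ⟨1, 1, 4, 1, 0⟩,
    ⟨2, 1, 6, (-1), 0⟩,
    ⟨1, 0, 4, 0, 0⟩]

/-- Units of a block. -/
def units50 : List Un :=
  [⟨4, 0, 1, 1, 0⟩,
    ⟨4, 0, 1, 1, 0⟩,
    ⟨4, 0, 1, 1, 0⟩,
    ⟨1, 1, 0, 1, 0⟩,
    ⟨1, 1, 0, 1, 0⟩,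
    ⟨1, 3, 12, (-1), 0⟩,
    ⟨1, 0, 4, 0, 0⟩,
    ⟨4, 1, 3, 0, 0⟩]

/-- All of them. -/
def allUnits : List (List Un) :=
  [units00, units01, units02, units03, units04, units05, units06, units07, units08, units09, units10, units11, units12, units13, units14, units15, units16, units17, units18, units19, units22, units23, units24, units25, units26, units34, units38, units39, units40, units41, units42, units43, units44, units45, units46, units47, units48, units49, units50]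

end Cfsg.Agent.U34Block
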