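import Cfsg.Agent.Lib.U34Rec.BlockTree
import Cfsg.Agent.Lib.U34Rec.BlockLists

/-!
Every list of units has a certificate.
-/

set_option maxRecDepth 100000

namespace Cfsg.Agent.U34Block

/-- A part of a certificate. -/
def part001 : Tree :=
  (.split (-1) 0 [(3, 28), (3, 137), (0, 3)] (.cons (.cong 14 2 ⟨(-3968), 0, 0, 2, 0⟩ [(0, 14890), (2, 0)]) (.cons (.cong 12 2 ⟨(-1984), 0, 0, 1, 0⟩ [(0, 3349), (2, 0)]) (.cons (.solve 0 0 1 0 (.cons (.cong 14 2 ⟨0, 0, 0, 1, 0⟩ [(2, 0)]) .nil)) (.cons (.cong 12 2 ⟨(-1984), 0, 0, 1, 0⟩ [(0, 3349), (2, 0)]) (.cons (.cong 14 2 ⟨(-3968), 0, 0, 2, 0⟩ [(0, 14890), (2, 0)]) (.cons (.cong 12 2 ⟨(-1984), 0, 0, 1, 0⟩ [(0, 3349), (2, 0)]) (.cons (.solve 0 0 1 0 (.cons (.cong 16 2 ⟨0, 0, 0, 1, 0⟩ [(2, 0)]) .nil)) (.cons (.cong 12 2 ⟨(-1984), 0,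 0, 1, 0⟩ [(0, 3349), (2, 0)]) (.cons (.cong 14 2 ⟨(-3968), 0, 0, 2, 0⟩ [(0, 14890), (2, 0)]) (.cons (.cong 12 2 ⟨(-1984), 0, 0, 1, 0⟩ [(0, 3349), (2, 0)]) (.cons (.solve 0 0 1 0 (.cons (.cong 14 2 ⟨0, 0, 0, 1, 0⟩ [(2, 0)]) .nil)) (.cons (.cong 12 2 ⟨(-1984), 0, 0, 1, 0⟩ [(0, 3349), (2, 0)]) (.cons (.cong 14 2 ⟨(-3968), 0, 0, 2, 0⟩ [(0, 14890), (2, 0)]) (.cons (.cong 12 2 ⟨(-1984), 0, 0, 1, 0⟩ [(0, 3349), (2, 0)]) (.cons (.solve 0 0 1 0 (.cons (.cong 16 2 ⟨0, 0, 0, 1, 0⟩ [(2, 0)]) .nil)) (.cons (.cong 12 2 ⟨(-1984), 0, 0, 1, 0⟩ [(0, 3349), (2, 0)]) (.cons (.cong 14 2 ⟨(-3968), 0, 0, 2, 0⟩ [(0, 14890), (2, 0)]) (.cons (.cong 12 2 ⟨(-1984), 0, 0, 1, 0⟩ [(0, 3349), (2, 0)]) (.cons (.solve 0 0 1 0 (.cons (.cong 14 2 ⟨0, 0, 0, 1, 0⟩ [(2, 0)]) .nil)) (.cons (.cong 12 2 ⟨(-1984),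 0, 0, 1, 0⟩ [(0, 3349), (2, 0)]) (.cons (.cong 14 2 ⟨(-3968), 0, 0, 2, 0⟩ [(0, 14890), (2, 0)]) (.cons (.cong 12 2 ⟨(-1984), 0, 0, 1, 0⟩ [(0, 3349), (2, 0)]) (.cons (.solve 0 0 1 0 (.cons (.solve 0 1 0 0 (.cons (.split (-1) 0 [] .nil) .nil)) .nil)) (.cons (.cong 12 2 ⟨(-1984), 0, 0, 1, 0⟩ [(0, 3349), (2, 0)]) (.cons (.cong 14 2 ⟨(-3968), 0, 0, 2, 0⟩ [(0, 14890), (2, 0)]) (.cons (.cong 12 2 ⟨(-1984), 0, 0, 1, 0⟩ [(0, 3349), (2, 0)]) (.cons (.solve 0 0 1 0 (.cons (.cong 14 2 ⟨0, 0, 0, 1, 0⟩ [(2, 0)]) .nil)) (.cons (.cong 14 2 ⟨(-8064), 0, 0, 2, 0⟩ [(0, 2), (2, 0)]) (.cons (.cong 12 2 ⟨64, 0, 0, 1, 0⟩ [(0, 1), (2, 0)]) (.cons (.solve 0 0 1 0 (.cons (.cong 16 2 ⟨0, 0, 0, 1, 0⟩ [(2, 0)]) .nil)) (.cons (.cong 12 2 ⟨64, 0, 0, 1, 0⟩ [(0, 1), (2, 0)]) (.cons (.cong 14 2 ⟨(-8064),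 0, 0, 2, 0⟩ [(0, 2), (2, 0)]) (.cons (.cong 12 2 ⟨64, 0, 0, 1, 0⟩ [(0, 1), (2, 0)]) (.cons (.solve 0 0 1 0 (.cons (.cong 14 2 ⟨0, 0, 0, 1, 0⟩ [(2, 0)]) .nil)) (.cons (.cong 12 2 ⟨64, 0, 0, 1, 0⟩ [(0, 1), (2, 0)]) (.cons (.cong 14 2 ⟨(-8064), 0, 0, 2, 0⟩ [(0, 2), (2, 0)]) (.cons (.cong 12 2 ⟨64, 0, 0, 1, 0⟩ [(0, 1), (2, 0)]) (.cons (.solve 0 0 1 0 (.cons (.cong 16 2 ⟨0, 0, 0, 1, 0⟩ [(2, 0)]) .nil)) (.cons (.cong 12 2 ⟨64, 0, 0, 1, 0⟩ [(0, 1), (2, 0)]) (.cons (.cong 14 2 ⟨(-8064), 0, 0, 2, 0⟩ [(0, 2), (2, 0)]) (.cons (.cong 12 2 ⟨64, 0, 0, 1, 0⟩ [(0, 1), (2, 0)]) (.cons (.solve 0 0 1 0 (.cons (.cong 14 2 ⟨0, 0, 0, 1, 0⟩ [(2, 0)]) .nil)) (.cons (.cong 12 2 ⟨64, 0, 0, 1, 0⟩ [(0, 1), (2, 0)]) (.cons (.cong 14 2 ⟨(-8064), 0, 0, 2, 0⟩ [(0, 2), (2, 0)]) (.cons (.cong 12 2 ⟨64, 0,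 0, 1, 0⟩ [(0, 1), (2, 0)]) (.cons (.solve 0 0 1 0 (.cons (.cong 16 2 ⟨0, 0, 0, 1, 0⟩ [(2, 0)]) .nil)) (.cons (.cong 12 2 ⟨64, 0, 0, 1, 0⟩ [(0, 1), (2, 0)]) (.cons (.cong 14 2 ⟨(-8064), 0, 0, 2, 0⟩ [(0, 2), (2, 0)]) (.cons (.cong 12 2 ⟨64, 0, 0, 1, 0⟩ [(0, 1), (2, 0)]) (.cons (.solve 0 0 1 0 (.cons (.cong 14 2 ⟨0, 0, 0, 1, 0⟩ [(2, 0)]) .nil)) (.cons (.cong 12 2 ⟨64, 0, 0, 1, 0⟩ [(0, 1), (2, 0)]) (.cons (.cong 14 2 ⟨(-8064), 0, 0, 2, 0⟩ [(0, 2), (2, 0)]) (.cons (.cong 12 2 ⟨64, 0, 0, 1, 0⟩ [(0, 1), (2, 0)]) (.cons (.solve 0 0 1 0 (.cons (.solve 0 1 0 0 (.cons (.split 1 0 [] .nil) .nil)) .nil)) (.cons (.cong 12 2 ⟨64, 0, 0, 1, 0⟩ [(0, 1), (2, 0)]) (.cons (.cong 14 2 ⟨(-8064), 0, 0, 2, 0⟩ [(0, 2), (2, 0)]) (.cons (.cong 12 2 ⟨64, 0, 0, 1, 0⟩ [(0, 1), (2, 0)]) (.cons (.solve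 0 0 1 0 (.cons (.cong 14 2 ⟨0, 0, 0, 1, 0⟩ [(2, 0)]) .nil)) (.cons (.cong 12 2 ⟨64, 0, 0, 1, 0⟩ [(0, 1), (2, 0)]) (.cons (.cong 14 2 ⟨(-8064), 0, 0, 2, 0⟩ [(0, 2), (2, 0)]) (.cons (.cong 12 2 ⟨64, 0, 0, 1, 0⟩ [(0, 1), (2, 0)]) (.cons (.solve 0 0 1 0 (.cons (.cong 16 2 ⟨0, 0, 0, 1, 0⟩ [(2, 0)]) .nil)) (.cons (.cong 12 2 ⟨64, 0, 0, 1, 0⟩ [(0, 1), (2, 0)]) (.cons (.cong 14 2 ⟨(-8064), 0, 0, 2, 0⟩ [(0, 2), (2, 0)]) (.cons (.cong 12 2 ⟨64, 0, 0, 1, 0⟩ [(0, 1), (2, 0)]) (.cons (.solve 0 0 1 0 (.cons (.cong 14 2 ⟨0, 0, 0, 1, 0⟩ [(2, 0)]) .nil)) (.cons (.cong 12 2 ⟨64, 0, 0, 1, 0⟩ [(0, 1), (2, 0)]) (.cons (.cong 14 2 ⟨(-8064), 0, 0, 2, 0⟩ [(0, 2), (2, 0)]) (.cons (.cong 12 2 ⟨64, 0, 0, 1, 0⟩ [(0, 1), (2, 0)]) (.cons (.solve 0 0 1 0 (.cons (.cong 16 2 ⟨0, 0, 0, 1, 0⟩ [(2, 0)]) .nil))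 (.cons (.cong 12 2 ⟨64, 0, 0, 1, 0⟩ [(0, 1), (2, 0)]) (.cons (.cong 14 2 ⟨(-8064), 0, 0, 2, 0⟩ [(0, 2), (2, 0)]) (.cons (.cong 12 2 ⟨64, 0, 0, 1, 0⟩ [(0, 1), (2, 0)]) (.cons (.solve 0 0 1 0 (.cons (.cong 14 2 ⟨0, 0, 0, 1, 0⟩ [(2, 0)]) .nil)) (.cons (.cong 12 2 ⟨64, 0, 0, 1, 0⟩ [(0, 1), (2, 0)]) (.cons (.cong 14 2 ⟨(-8064), 0, 0, 2, 0⟩ [(0, 2), (2, 0)]) (.cons (.cong 12 2 ⟨64, 0, 0, 1, 0⟩ [(0, 1), (2, 0)]) (.cons (.solve 0 0 1 0 (.cons (.cong 16 2 ⟨0, 0, 0, 1, 0⟩ [(2, 0)]) .nil)) (.cons (.cong 12 2 ⟨64, 0, 0, 1, 0⟩ [(0, 1), (2, 0)]) (.cons (.cong 14 2 ⟨(-8064), 0, 0, 2, 0⟩ [(0, 2), (2, 0)]) (.cons (.cong 12 2 ⟨64, 0, 0, 1, 0⟩ [(0, 1), (2, 0)]) (.cons (.solve 0 0 1 0 (.cons (.cong 14 2 ⟨0, 0, 0, 1, 0⟩ [(2, 0)]) .nil)) (.cons (.cong 12 2 ⟨64, 0, 0, 1, 0⟩ [(0, 1), (2, 0)]) (.cons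 (.cong 14 2 ⟨(-8064), 0, 0, 2, 0⟩ [(0, 2), (2, 0)]) (.cons (.cong 12 2 ⟨64, 0, 0, 1, 0⟩ [(0, 1), (2, 0)]) (.cons (.solve 0 0 1 0 (.cons (.solve 0 1 0 0 (.cons (.split 1 0 [] .nil) .nil)) .nil)) (.cons (.cong 12 2 ⟨64, 0, 0, 1, 0⟩ [(0, 1), (2, 0)]) (.cons (.cong 14 2 ⟨(-8064), 0, 0, 2, 0⟩ [(0, 2), (2, 0)]) (.cons (.cong 12 2 ⟨64, 0, 0, 1, 0⟩ [(0, 1), (2, 0)]) (.cons (.solve 0 0 1 0 (.cons (.cong 14 2 ⟨0, 0, 0, 1, 0⟩ [(2, 0)]) .nil)) (.cons (.cong 12 2 ⟨64, 0, 0, 1, 0⟩ [(0, 1), (2, 0)]) (.cons (.cong 14 2 ⟨(-8064), 0, 0, 2, 0⟩ [(0, 2), (2, 0)]) (.cons (.cong 12 2 ⟨64, 0, 0, 1, 0⟩ [(0, 1), (2, 0)]) (.cons (.solve 0 0 1 0 (.cons (.cong 16 2 ⟨0, 0, 0, 1, 0⟩ [(2, 0)]) .nil)) (.cons (.cong 12 2 ⟨64, 0, 0, 1, 0⟩ [(0, 1), (2, 0)]) (.cons (.cong 14 2 ⟨(-8064), 0, 0, 2, 0⟩ [(0, 2),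 (2, 0)]) (.cons (.cong 12 2 ⟨64, 0, 0, 1, 0⟩ [(0, 1), (2, 0)]) (.cons (.solve 0 0 1 0 (.cons (.cong 14 2 ⟨0, 0, 0, 1, 0⟩ [(2, 0)]) .nil)) (.cons (.cong 12 2 ⟨64, 0, 0, 1, 0⟩ [(0, 1), (2, 0)]) (.cons (.cong 14 2 ⟨(-8064), 0, 0, 2, 0⟩ [(0, 2), (2, 0)]) (.cons (.cong 12 2 ⟨64, 0, 0, 1, 0⟩ [(0, 1), (2, 0)]) (.cons (.solve 0 0 1 0 (.cons (.cong 16 2 ⟨0, 0, 0, 1, 0⟩ [(2, 0)]) .nil)) (.cons (.cong 12 2 ⟨64, 0, 0, 1, 0⟩ [(0, 1), (2, 0)]) (.cons (.cong 14 2 ⟨(-8064), 0, 0, 2, 0⟩ [(0, 2), (2, 0)]) (.cons (.cong 12 2 ⟨64, 0, 0, 1, 0⟩ [(0, 1), (2, 0)]) (.cons (.solve 0 0 1 0 (.cons (.cong 14 2 ⟨0, 0, 0, 1, 0⟩ [(2, 0)]) .nil)) (.cons (.cong 12 2 ⟨64, 0, 0, 1, 0⟩ [(0, 1), (2, 0)]) (.cons (.cong 14 2 ⟨(-8064), 0, 0, 2, 0⟩ [(0, 2), (2, 0)]) (.cons (.cong 12 2 ⟨64, 0, 0, 1, 0⟩ [(0, 1), (2,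 0)]) (.cons (.solve 0 0 1 0 (.cons (.cong 16 2 ⟨0, 0, 0, 1, 0⟩ [(2, 0)]) .nil)) (.cons (.cong 12 2 ⟨64, 0, 0, 1, 0⟩ [(0, 1), (2, 0)]) (.cons (.cong 14 2 ⟨(-8064), 0, 0, 2, 0⟩ [(0, 2), (2, 0)]) (.cons (.cong 12 2 ⟨64, 0, 0, 1, 0⟩ [(0, 1), (2, 0)]) (.cons (.solve 0 0 1 0 (.cons (.cong 14 2 ⟨0, 0, 0, 1, 0⟩ [(2, 0)]) .nil)) (.cons (.cong 12 2 ⟨64, 0, 0, 1, 0⟩ [(0, 1), (2, 0)]) (.cons (.cong 14 2 ⟨(-8064), 0, 0, 2, 0⟩ [(0, 2), (2, 0)]) (.cons (.cong 12 2 ⟨64, 0, 0, 1, 0⟩ [(0, 1), (2, 0)]) (.cons (.solve 0 0 1 0 (.cons (.solve 0 1 0 0 (.cons (.split 1 0 [] .nil) .nil)) .nil)) (.cons (.cong 12 2 ⟨64, 0, 0, 1, 0⟩ [(0, 1), (2, 0)]) (.cons (.cong 14 2 ⟨(-8064), 0, 0, 2, 0⟩ [(0, 2), (2, 0)]) (.cons (.cong 12 2 ⟨64, 0, 0, 1, 0⟩ [(0, 1), (2, 0)]) (.cons (.solve 0 0 1 0 (.cons (.cong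 14 2 ⟨0, 0, 0, 1, 0⟩ [(2, 0)]) .nil)) (.cons (.cong 12 2 ⟨64, 0, 0, 1, 0⟩ [(0, 1), (2, 0)]) (.cons (.cong 14 2 ⟨(-8064), 0, 0, 2, 0⟩ [(0, 2), (2, 0)]) (.cons (.cong 12 2 ⟨64, 0, 0, 1, 0⟩ [(0, 1), (2, 0)]) (.cons (.solve 0 0 1 0 (.cons (.cong 16 2 ⟨0, 0, 0, 1, 0⟩ [(2, 0)]) .nil)) (.cons (.cong 12 2 ⟨64, 0, 0, 1, 0⟩ [(0, 1), (2, 0)]) (.cons (.cong 14 2 ⟨(-8064), 0, 0, 2, 0⟩ [(0, 2), (2, 0)]) (.cons (.cong 12 2 ⟨64, 0, 0, 1, 0⟩ [(0, 1), (2, 0)]) (.cons (.solve 0 0 1 0 (.cons (.cong 14 2 ⟨0, 0, 0, 1, 0⟩ [(2, 0)]) .nil)) (.cons (.cong 12 2 ⟨64, 0, 0, 1, 0⟩ [(0, 1), (2, 0)]) (.cons (.cong 14 2 ⟨(-8064), 0, 0, 2, 0⟩ [(0, 2), (2, 0)]) (.cons (.cong 12 2 ⟨64, 0, 0, 1, 0⟩ [(0, 1), (2, 0)]) (.cons (.solve 0 0 1 0 (.cons (.cong 16 2 ⟨0, 0, 0, 1, 0⟩ [(2, 0)]) .nil)) (.cons (.cong 12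 2 ⟨64, 0, 0, 1, 0⟩ [(0, 1), (2, 0)]) (.cons (.cong 14 2 ⟨(-8064), 0, 0, 2, 0⟩ [(0, 2), (2, 0)]) (.cons (.cong 12 2 ⟨64, 0, 0, 1, 0⟩ [(0, 1), (2, 0)]) (.cons (.solve 0 0 1 0 (.cons (.cong 14 2 ⟨0, 0, 0, 1, 0⟩ [(2, 0)]) .nil)) (.cons (.cong 12 2 ⟨64, 0, 0, 1, 0⟩ [(0, 1), (2, 0)]) (.cons (.cong 14 2 ⟨(-8064), 0, 0, 2, 0⟩ [(0, 2), (2, 0)]) (.cons (.cong 12 2 ⟨64, 0, 0, 1, 0⟩ [(0, 1), (2, 0)]) (.cons (.solve 0 0 1 0 (.cons (.cong 16 2 ⟨0, 0, 0, 1, 0⟩ [(2, 0)]) .nil)) (.cons (.cong 12 2 ⟨64, 0, 0, 1, 0⟩ [(0, 1), (2, 0)]) (.cons (.cong 14 2 ⟨(-8064), 0, 0, 2, 0⟩ [(0, 2), (2, 0)]) (.cons (.cong 12 2 ⟨64, 0, 0, 1, 0⟩ [(0, 1), (2, 0)]) (.cons (.solve 0 0 1 0 (.cons (.cong 14 2 ⟨0, 0, 0, 1, 0⟩ [(2, 0)]) .nil)) (.cons (.cong 12 2 ⟨64, 0, 0, 1, 0⟩ [(0, 1), (2, 0)]) (.cons (.cong 14 2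 ⟨(-8064), 0, 0, 2, 0⟩ [(0, 2), (2, 0)]) (.cons (.cong 12 2 ⟨64, 0, 0, 1, 0⟩ [(0, 1), (2, 0)]) (.cons (.solve 0 0 1 0 (.cons (.solve 0 1 0 0 (.cons (.split (-1) 0 [] .nil) .nil)) .nil)) (.cons (.cong 12 2 ⟨64, 0, 0, 1, 0⟩ [(0, 1), (2, 0)]) (.cons (.cong 14 2 ⟨(-8064), 0, 0, 2, 0⟩ [(0, 2), (2, 0)]) (.cons (.cong 12 2 ⟨64, 0, 0, 1, 0⟩ [(0, 1), (2, 0)]) (.cons (.solve 0 0 1 0 (.cons (.cong 14 2 ⟨0, 0, 0, 1, 0⟩ [(2, 0)]) .nil)) (.cons (.cong 12 2 ⟨64, 0, 0, 1, 0⟩ [(0, 1), (2, 0)]) (.cons (.cong 14 2 ⟨(-8064), 0, 0, 2, 0⟩ [(0, 2), (2, 0)]) (.cons (.cong 12 2 ⟨64, 0, 0, 1, 0⟩ [(0, 1), (2, 0)]) (.cons (.solve 0 0 1 0 (.cons (.cong 16 2 ⟨0, 0, 0, 1, 0⟩ [(2, 0)]) .nil)) (.cons (.cong 12 2 ⟨64, 0, 0, 1, 0⟩ [(0, 1), (2, 0)]) (.cons (.cong 14 2 ⟨(-8064), 0, 0, 2, 0⟩ [(0, 2), (2, 0)])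 (.cons (.cong 12 2 ⟨64, 0, 0, 1, 0⟩ [(0, 1), (2, 0)]) (.cons (.solve 0 0 1 0 (.cons (.cong 14 2 ⟨0, 0, 0, 1, 0⟩ [(2, 0)]) .nil)) (.cons (.cong 12 2 ⟨64, 0, 0, 1, 0⟩ [(0, 1), (2, 0)]) .nil))))))))))))))))))))))))))))))))))))))))))))))))))))))))))))))))))))))))))))))))))))))))))))))))))))))))))))))))))))))))))))))))))))))))))))))))))))))))))))))))))))

/-- A part of a certificate. -/
def part002 : Tree :=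
  (.split 1 0 [(5, 0), (3, 0), (0, 14), (12, 0), (0, 3)] (.cons (.cong 9 2 ⟨(-64), 0, 64, 0, 0⟩ [(0, 0), (0, 0), (0, 0), (2, 0)]) (.cons (.solve 1 0 (-1) 1 (.cons (.split 1 0 [(1, 0), (3, 0), (0, 3)] .nil) .nil)) (.cons (.cong 9 2 ⟨(-64), 0, 64, 0, 0⟩ [(0, 0), (0, 0), (0, 0), (2, 0)]) (.cons (.split 0 (-1) [(5, 0), (0, 9), (3, 0), (9, 3)] (.cons (.solve 1 0 0 1 (.cons (.cong 16 2 ⟨0, 32768, 24704, 2, 0⟩ [(0, 8), (2, 0)]) .nil)) (.cons (.solve 1 0 0 1 (.cons (.solve 0 0 1 0 (.cons (.solve 0 1 0 0 .nil) .nil)) .nil)) (.cons (.solve 1 0 0 1 (.cons (.cong 16 2 ⟨0, 32768, 24704, 2, 0⟩ [(0, 8), (2, 0)]) .nil)) (.cons (.solve 1 0 0 1 (.cons (.solve 0 0 1 0 (.cons (.solve 0 1 0 0 .nil) .nil)) .nil)) (.cons (.solve 1 0 0 1 (.cons (.cong 16 2 ⟨0, 32768, 24704, 2, 0⟩ [(0, 8), (2, 0)])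 .nil)) (.cons (.solve 1 0 0 1 (.cons (.solve 0 0 1 0 (.cons (.solve 0 1 0 0 .nil) .nil)) .nil)) (.cons (.cong 9 4 ⟨3, (-1), 1, 0, 0⟩ [(0, 0), (0, 0), (0, 0)]) (.cons (.cong 9 4 ⟨3, (-1), 1, 0, 0⟩ [(0, 0), (0, 0), (0, 0)]) (.cons (.cong 9 4 ⟨3, (-1), 1, 0, 0⟩ [(0, 0), (0, 0), (0, 0)]) (.cons (.cong 9 4 ⟨3, (-1), 1, 0, 0⟩ [(0, 0), (0, 0), (0, 0)]) (.cons (.cong 9 4 ⟨3, (-1), 1, 0, 0⟩ [(0, 0), (0, 0), (0, 0)]) (.cons (.cong 9 4 ⟨3, (-1), 1, 0, 0⟩ [(0, 0), (0, 0), (0, 0)]) (.cons (.cong 9 4 ⟨3, (-1), 1, 0, 0⟩ [(0, 0), (0, 0), (0, 0)]) (.cons (.cong 9 4 ⟨3, (-1), 1, 0, 0⟩ [(0, 0), (0, 0), (0, 0)]) .nil))))))))))))))) (.cons (.cong 12 2 ⟨2048, 1024, 64, 1, 0⟩ [(0, 4), (0, 948), (0, 3349), (2, 0)]) (.cons (.solve 1 0 (-1) 0 (.cons (.split 0 1 [(3, 0), (3, 0), (0, 9)] (.cons (.cong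 12 4 ⟨64, (-512), 0, 1, 0⟩ [(0, 1), (0, 3349)]) (.cons (.cong 14 4 ⟨256, (-64), 0, 0, 1⟩ [(0, 4), (0, 0)]) (.cons (.cong 12 4 ⟨64, (-512), 0, 1, 0⟩ [(0, 1), (0, 3349)]) (.cons (.cong 14 4 ⟨(-8064), (-3072), 0, 2, 0⟩ [(0, 2), (0, 14890)]) (.cons (.cong 12 4 ⟨64, (-512), 0, 1, 0⟩ [(0, 1), (0, 3349)]) (.cons (.solve 0 1 0 1 (.cons (.solve 0 0 1 0 (.cons (.cong 16 4 ⟨0, 0, 0, 1, 0⟩ []) .nil)) .nil)) .nil))))))) .nil)) (.cons (.solve 1 0 (-1) 0 (.cons (.split (-1) 0 [(3, 4), (3, 18), (0, 3)] (.cons (.cong 14 2 ⟨(-3968), 0, 0, 2, 0⟩ [(0, 14890), (2, 0)]) (.cons (.cong 12 2 ⟨(-1984), 0, 0, 1, 0⟩ [(0, 3349), (2, 0)]) (.cons (.solve 0 0 1 0 (.cons (.cong 14 2 ⟨0, 0, 0, 1, 0⟩ [(2, 0)]) .nil)) (.cons (.cong 14 2 ⟨(-8064), 0, 0, 2, 0⟩ [(0, 2), (2, 0)]) (.cons (.cong 12 2 ⟨64, 0, 0,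 1, 0⟩ [(0, 1), (2, 0)]) (.cons (.solve 0 0 1 0 (.cons (.cong 14 2 ⟨0, 0, 0, 1, 0⟩ [(2, 0)]) .nil)) (.cons (.cong 12 2 ⟨64, 0, 0, 1, 0⟩ [(0, 1), (2, 0)]) (.cons (.cong 14 2 ⟨(-8064), 0, 0, 2, 0⟩ [(0, 2), (2, 0)]) (.cons (.cong 12 2 ⟨64, 0, 0, 1, 0⟩ [(0, 1), (2, 0)]) (.cons (.solve 0 0 1 0 (.cons (.cong 16 2 ⟨0, 0, 0, 1, 0⟩ [(2, 0)]) .nil)) (.cons (.cong 12 2 ⟨64, 0, 0, 1, 0⟩ [(0, 1), (2, 0)]) (.cons (.cong 14 2 ⟨(-8064), 0, 0, 2, 0⟩ [(0, 2), (2, 0)]) (.cons (.cong 12 2 ⟨64, 0, 0, 1, 0⟩ [(0, 1), (2, 0)]) (.cons (.solve 0 0 1 0 (.cons (.cong 14 2 ⟨0, 0, 0, 1, 0⟩ [(2, 0)]) .nil)) (.cons (.cong 12 2 ⟨64, 0, 0, 1, 0⟩ [(0, 1), (2, 0)]) (.cons (.cong 14 2 ⟨(-8064), 0, 0, 2, 0⟩ [(0, 2), (2, 0)]) (.cons (.cong 12 2 ⟨64, 0, 0, 1, 0⟩ [(0, 1), (2, 0)]) (.cons (.solve 0 0 1 0 (.cons (.cong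 16 2 ⟨0, 0, 0, 1, 0⟩ [(2, 0)]) .nil)) (.cons (.cong 12 2 ⟨64, 0, 0, 1, 0⟩ [(0, 1), (2, 0)]) (.cons (.cong 14 2 ⟨(-8064), 0, 0, 2, 0⟩ [(0, 2), (2, 0)]) .nil))))))))))))))))))))) .nil)) (.cons (.solve 1 0 (-1) 0 (.cons part001 .nil)) (.cons (.solve 1 0 (-1) 0 (.cons (.split 1 0 [(8, 0), (37, 0), (0, 3)] (.cons (.cong 14 2 ⟨(-3968), 0, 0, 2, 0⟩ [(0, 14890), (2, 0)]) (.cons (.cong 12 2 ⟨(-1984), 0, 0, 1, 0⟩ [(0, 3349), (2, 0)]) (.cons (.solve 0 0 1 0 (.cons (.cong 14 2 ⟨0, 0, 0, 1, 0⟩ [(2, 0)]) .nil)) (.cons (.cong 12 2 ⟨(-1984), 0, 0, 1, 0⟩ [(0, 3349), (2, 0)]) (.cons (.cong 14 2 ⟨(-3968), 0, 0, 2, 0⟩ [(0, 14890), (2, 0)]) (.cons (.cong 14 2 ⟨(-8064), 0, 0, 2, 0⟩ [(0, 2), (2, 0)]) (.cons (.cong 12 2 ⟨64, 0, 0, 1, 0⟩ [(0, 1), (2, 0)]) (.cons (.solve 0 0 1 0 (.cons (.cong 14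 2 ⟨0, 0, 0, 1, 0⟩ [(2, 0)]) .nil)) (.cons (.cong 12 2 ⟨64, 0, 0, 1, 0⟩ [(0, 1), (2, 0)]) (.cons (.cong 14 2 ⟨(-8064), 0, 0, 2, 0⟩ [(0, 2), (2, 0)]) (.cons (.cong 12 2 ⟨64, 0, 0, 1, 0⟩ [(0, 1), (2, 0)]) (.cons (.solve 0 0 1 0 (.cons (.cong 16 2 ⟨0, 0, 0, 1, 0⟩ [(2, 0)]) .nil)) (.cons (.cong 12 2 ⟨64, 0, 0, 1, 0⟩ [(0, 1), (2, 0)]) (.cons (.cong 14 2 ⟨(-8064), 0, 0, 2, 0⟩ [(0, 2), (2, 0)]) (.cons (.cong 12 2 ⟨64, 0, 0, 1, 0⟩ [(0, 1), (2, 0)]) (.cons (.solve 0 0 1 0 .nil) (.cons (.cong 12 2 ⟨64, 0, 0, 1, 0⟩ [(0, 1), (2, 0)]) (.cons (.cong 14 2 ⟨(-8064), 0, 0, 2, 0⟩ [(0, 2), (2, 0)]) (.cons (.cong 12 2 ⟨64, 0, 0, 1, 0⟩ [(0, 1), (2, 0)]) (.cons (.solve 0 0 1 0 .nil) (.cons (.cong 12 2 ⟨64, 0, 0, 1, 0⟩ [(0, 1), (2, 0)]) (.cons (.cong 14 2 ⟨(-8064), 0, 0, 2, 0⟩ [(0, 2), (2, 0)])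 (.cons (.cong 12 2 ⟨64, 0, 0, 1, 0⟩ [(0, 1), (2, 0)]) (.cons (.solve 0 0 1 0 (.cons (.cong 14 2 ⟨0, 0, 0, 1, 0⟩ [(2, 0)]) .nil)) (.cons (.cong 12 2 ⟨64, 0, 0, 1, 0⟩ [(0, 1), (2, 0)]) (.cons (.cong 14 2 ⟨(-8064), 0, 0, 2, 0⟩ [(0, 2), (2, 0)]) (.cons (.cong 12 2 ⟨64, 0, 0, 1, 0⟩ [(0, 1), (2, 0)]) (.cons (.solve 0 0 1 0 (.cons (.cong 16 2 ⟨0, 0, 0, 1, 0⟩ [(2, 0)]) .nil)) (.cons (.cong 12 2 ⟨64, 0, 0, 1, 0⟩ [(0, 1), (2, 0)]) (.cons (.cong 14 2 ⟨(-8064), 0, 0, 2, 0⟩ [(0, 2), (2, 0)]) (.cons (.cong 12 2 ⟨64, 0, 0, 1, 0⟩ [(0, 1), (2, 0)]) (.cons (.solve 0 0 1 0 (.cons (.cong 14 2 ⟨0, 0, 0, 1, 0⟩ [(2, 0)]) .nil)) (.cons (.cong 12 2 ⟨64, 0, 0, 1, 0⟩ [(0, 1), (2, 0)]) (.cons (.cong 14 2 ⟨(-8064), 0, 0, 2, 0⟩ [(0, 2), (2, 0)]) (.cons (.cong 12 2 ⟨64, 0, 0, 1, 0⟩ [(0, 1), (2, 0)]) (.cons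 (.solve 0 0 1 0 (.cons (.cong 16 2 ⟨0, 0, 0, 1, 0⟩ [(2, 0)]) .nil)) (.cons (.cong 12 2 ⟨64, 0, 0, 1, 0⟩ [(0, 1), (2, 0)]) (.cons (.cong 14 2 ⟨(-8064), 0, 0, 2, 0⟩ [(0, 2), (2, 0)]) (.cons (.cong 12 2 ⟨64, 0, 0, 1, 0⟩ [(0, 1), (2, 0)]) .nil)))))))))))))))))))))))))))))))))))))))) .nil)) (.cons (.solve 1 0 (-1) 0 (.cons (.split 1 0 [(3, 0), (21, 0), (0, 3)] (.cons (.cong 14 2 ⟨(-8064), 0, 0, 2, 0⟩ [(0, 2), (2, 0)]) (.cons (.cong 12 2 ⟨64, 0, 0, 1, 0⟩ [(0, 1), (2, 0)]) (.cons (.solve 0 0 1 0 (.cons (.cong 16 2 ⟨0, 0, 0, 1, 0⟩ [(2, 0)]) .nil)) (.cons (.cong 12 2 ⟨64, 0, 0, 1, 0⟩ [(0, 1), (2, 0)]) (.cons (.cong 14 2 ⟨(-8064), 0, 0, 2, 0⟩ [(0, 2), (2, 0)]) (.cons (.cong 12 2 ⟨64, 0, 0, 1, 0⟩ [(0, 1), (2, 0)]) (.cons (.solve 0 0 1 0 (.cons (.cong 14 2 ⟨0, 0, 0, 1, 0⟩ [(2, 0)])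 .nil)) (.cons (.cong 12 2 ⟨64, 0, 0, 1, 0⟩ [(0, 1), (2, 0)]) (.cons (.cong 14 2 ⟨(-8064), 0, 0, 2, 0⟩ [(0, 2), (2, 0)]) (.cons (.cong 12 2 ⟨64, 0, 0, 1, 0⟩ [(0, 1), (2, 0)]) (.cons (.solve 0 0 1 0 (.cons (.solve 0 1 0 0 (.cons (.cong 16 4 ⟨0, 0, 0, 0, 1⟩ []) .nil)) .nil)) (.cons (.cong 12 2 ⟨64, 0, 0, 1, 0⟩ [(0, 1), (2, 0)]) (.cons (.cong 14 2 ⟨(-8064), 0, 0, 2, 0⟩ [(0, 2), (2, 0)]) (.cons (.cong 12 2 ⟨64, 0, 0, 1, 0⟩ [(0, 1), (2, 0)]) (.cons (.solve 0 0 1 0 (.cons (.cong 14 2 ⟨0, 0, 0, 1, 0⟩ [(2, 0)]) .nil)) (.cons (.cong 12 2 ⟨64, 0, 0, 1, 0⟩ [(0, 1), (2, 0)]) (.cons (.cong 14 2 ⟨(-8064), 0, 0, 2, 0⟩ [(0, 2), (2, 0)]) (.cons (.cong 12 2 ⟨64, 0, 0, 1, 0⟩ [(0, 1), (2, 0)]) .nil))))))))))))))))))) .nil)) (.cons (.solve 1 0 (-1) 0 (.cons (.split 1 0 [(3, 0), (15, 0), (0, 3)]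 (.cons (.cong 14 2 ⟨(-8064), 0, 0, 2, 0⟩ [(0, 2), (2, 0)]) (.cons (.cong 12 2 ⟨64, 0, 0, 1, 0⟩ [(0, 1), (2, 0)]) (.cons (.solve 0 0 1 0 (.cons (.cong 14 2 ⟨0, 0, 0, 1, 0⟩ [(2, 0)]) .nil)) (.cons (.cong 12 2 ⟨64, 0, 0, 1, 0⟩ [(0, 1), (2, 0)]) (.cons (.cong 14 2 ⟨(-8064), 0, 0, 2, 0⟩ [(0, 2), (2, 0)]) (.cons (.cong 12 2 ⟨64, 0, 0, 1, 0⟩ [(0, 1), (2, 0)]) (.cons (.solve 0 0 1 0 (.cons (.cong 16 2 ⟨0, 0, 0, 1, 0⟩ [(2, 0)]) .nil)) (.cons (.cong 12 2 ⟨64, 0, 0, 1, 0⟩ [(0, 1), (2, 0)]) (.cons (.cong 14 2 ⟨(-8064), 0, 0, 2, 0⟩ [(0, 2), (2, 0)]) (.cons (.cong 12 2 ⟨64, 0, 0, 1, 0⟩ [(0, 1), (2, 0)]) (.cons (.solve 0 0 1 0 (.cons (.cong 14 2 ⟨0, 0, 0, 1, 0⟩ [(2, 0)]) .nil)) (.cons (.cong 12 2 ⟨64, 0, 0, 1, 0⟩ [(0, 1), (2, 0)]) .nil))))))))))))) .nil)) (.cons (.solve 1 0 (-1) 0 (.cons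 (.split 1 0 [(3, 0), (12, 0), (0, 3)] (.cons (.cong 14 2 ⟨(-8064), 0, 0, 2, 0⟩ [(0, 2), (2, 0)]) (.cons (.cong 12 2 ⟨64, 0, 0, 1, 0⟩ [(0, 1), (2, 0)]) (.cons (.solve 0 0 1 0 (.cons (.cong 16 2 ⟨0, 0, 0, 1, 0⟩ [(2, 0)]) .nil)) (.cons (.cong 12 2 ⟨64, 0, 0, 1, 0⟩ [(0, 1), (2, 0)]) (.cons (.cong 14 2 ⟨(-8064), 0, 0, 2, 0⟩ [(0, 2), (2, 0)]) (.cons (.cong 12 2 ⟨64, 0, 0, 1, 0⟩ [(0, 1), (2, 0)]) (.cons (.solve 0 0 1 0 (.cons (.cong 14 2 ⟨0, 0, 0, 1, 0⟩ [(2, 0)]) .nil)) (.cons (.cong 12 2 ⟨64, 0, 0, 1, 0⟩ [(0, 1), (2, 0)]) (.cons (.cong 14 2 ⟨(-8064), 0, 0, 2, 0⟩ [(0, 2), (2, 0)]) .nil)))))))))) .nil)) (.cons (.solve 1 0 (-1) 0 (.cons (.split 1 0 [(3, 0), (10, 0), (0, 3)] (.cons (.cong 14 2 ⟨(-8064), 0, 0, 2, 0⟩ [(0, 2), (2, 0)]) (.cons (.cong 12 2 ⟨64, 0, 0, 1, 0⟩ [(0, 1), (2,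 0)]) (.cons (.solve 0 0 1 0 (.cons (.cong 14 2 ⟨0, 0, 0, 1, 0⟩ [(2, 0)]) .nil)) (.cons (.cong 12 2 ⟨64, 0, 0, 1, 0⟩ [(0, 1), (2, 0)]) (.cons (.cong 14 2 ⟨(-8064), 0, 0, 2, 0⟩ [(0, 2), (2, 0)]) (.cons (.cong 12 2 ⟨64, 0, 0, 1, 0⟩ [(0, 1), (2, 0)]) (.cons (.solve 0 0 1 0 (.cons (.cong 16 2 ⟨0, 0, 0, 1, 0⟩ [(2, 0)]) .nil)) .nil)))))))) .nil)) (.cons (.solve 1 0 (-1) 0 (.cons (.split 1 0 [(3, 0), (9, 0), (0, 3)] (.cons (.cong 14 2 ⟨(-8064), 0, 0, 2, 0⟩ [(0, 2), (2, 0)]) (.cons (.cong 12 2 ⟨64, 0, 0, 1, 0⟩ [(0, 1), (2, 0)]) (.cons (.solve 0 0 1 0 (.cons (.cong 16 2 ⟨0, 0, 0, 1, 0⟩ [(2, 0)]) .nil)) (.cons (.cong 12 2 ⟨64, 0, 0, 1, 0⟩ [(0, 1), (2, 0)]) (.cons (.cong 14 2 ⟨(-8064), 0, 0, 2, 0⟩ [(0, 2), (2, 0)]) (.cons (.cong 12 2 ⟨64, 0, 0, 1, 0⟩ [(0, 1), (2, 0)]) .nil))))))) .nil))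 (.cons (.solve 1 0 (-1) 0 (.cons (.split 1 0 [(3, 0), (9, 0), (0, 3)] (.cons (.cong 14 2 ⟨(-8064), 0, 0, 2, 0⟩ [(0, 2), (2, 0)]) (.cons (.cong 12 2 ⟨64, 0, 0, 1, 0⟩ [(0, 1), (2, 0)]) (.cons (.solve 0 0 1 0 (.cons (.cong 14 2 ⟨0, 0, 0, 1, 0⟩ [(2, 0)]) .nil)) (.cons (.cong 12 2 ⟨64, 0, 0, 1, 0⟩ [(0, 1), (2, 0)]) (.cons (.cong 14 2 ⟨(-8064), 0, 0, 2, 0⟩ [(0, 2), (2, 0)]) (.cons (.cong 12 2 ⟨64, 0, 0, 1, 0⟩ [(0, 1), (2, 0)]) .nil))))))) .nil)) (.cons (.solve 1 0 (-1) 0 (.cons (.split 1 0 [(3, 0), (8, 0), (0, 3)] (.cons (.cong 14 2 ⟨(-8064), 0, 0, 2, 0⟩ [(0, 2), (2, 0)]) (.cons (.cong 12 2 ⟨64, 0, 0, 1, 0⟩ [(0, 1), (2, 0)]) (.cons (.solve 0 0 1 0 (.cons (.solve 0 1 0 0 (.cons (.split (-1) 0 [] .nil) .nil)) .nil)) (.cons (.cong 12 2 ⟨64, 0, 0, 1, 0⟩ [(0, 1), (2, 0)]) (.cons (.cong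 14 2 ⟨(-8064), 0, 0, 2, 0⟩ [(0, 2), (2, 0)]) .nil)))))) .nil)) (.cons (.cong 14 2 ⟨8192, 8192, 128, 2, 0⟩ [(0, 8), (0, 2), (0, 10088), (2, 0)]) (.cons (.cong 12 2 ⟨0, 1024, 64, 1, 0⟩ [(0, 4), (0, 1), (0, 948), (2, 0)]) (.cons (.split (-1) (-1) [(5, 0), (3, 0), (0, 14), (15, 3)] (.cons (.cong 9 4 ⟨(-32), (-32), 32, 0, 0⟩ [(0, 0), (0, 0), (0, 0)]) (.cons (.cong 9 4 ⟨(-32), (-32), 32, 0, 0⟩ [(0, 0), (0, 0), (0, 0)]) (.cons (.cong 9 4 ⟨(-32), (-32), 32, 0, 0⟩ [(0, 0), (0, 0), (0, 0)]) (.cons (.cong 14 4 ⟨256, (-64), 0, 0, 1⟩ [(0, 16380), (0, 4), (0, 6296)]) (.cons (.cong 9 4 ⟨(-32), (-32), 32, 0, 0⟩ [(0, 0), (0, 0), (0, 0)]) (.cons (.cong 9 4 ⟨(-32), (-32), 32, 0, 0⟩ [(0, 0), (0, 0), (0, 0)]) (.cons (.cong 9 4 ⟨(-32), (-32), 32, 0, 0⟩ [(0, 0), (0, 0), (0, 0)]) (.cons (.solve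 1 1 (-1) 2 .nil) (.cons (.cong 9 4 ⟨(-32), (-32), 32, 0, 0⟩ [(0, 0), (0, 0), (0, 0)]) (.cons (.cong 9 4 ⟨(-32), (-32), 32, 0, 0⟩ [(0, 0), (0, 0), (0, 0)]) (.cons (.cong 9 4 ⟨(-32), (-32), 32, 0, 0⟩ [(0, 0), (0, 0), (0, 0)]) (.cons (.cong 14 4 ⟨256, (-64), 0, 0, 1⟩ [(0, 16380), (0, 4), (0, 6296)]) (.cons (.cong 9 4 ⟨(-32), (-32), 32, 0, 0⟩ [(0, 0), (0, 0), (0, 0)]) (.cons (.cong 9 4 ⟨(-32), (-32), 32, 0, 0⟩ [(0, 0), (0, 0), (0, 0)]) .nil))))))))))))))) (.cons (.cong 12 2 ⟨0, 1024, 64, 1, 0⟩ [(0, 4), (0, 1), (0, 948), (2, 0)]) (.cons (.cong 14 2 ⟨8192, 8192, 128, 2, 0⟩ [(0, 8), (0, 2), (0, 10088), (2, 0)]) (.cons (.cong 12 2 ⟨0, 1024, 64, 1, 0⟩ [(0, 4), (0, 1), (0, 948), (2, 0)]) (.cons (.split 1 0 [(5, 0), (3, 0), (0, 16), (0, 3)] (.cons (.solve 1 0 0 1 (.cons (.cong 16 2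 ⟨0, 32768, 24704, 2, 0⟩ [(0, 8), (2, 0)]) .nil)) (.cons (.solve 1 0 0 1 (.cons (.cong 14 2 ⟨0, (-4096), 64, 1, 0⟩ [(0, 4), (2, 0)]) .nil)) .nil))) (.cons (.cong 12 2 ⟨0, 1024, 64, 1, 0⟩ [(0, 4), (0, 1), (0, 948), (2, 0)]) (.cons (.cong 14 2 ⟨8192, 8192, 128, 2, 0⟩ [(0, 8), (0, 2), (0, 10088), (2, 0)]) .nil))))))))))))))))))))))))))

/-- A part of a certificate. -/
def part003 : Tree :=
  (.split 1 0 [(2, 0), (1, 0), (0, 3), (3, 0), (3, 0), (0, 0), (0, 0)] (.cons (.split 1 0 [(1, 0), (0, 3), (3, 0), (3, 0), (0, 0), (0, 0)] (.cons (.solve 1 0 (-1) 4 (.cons (.split 0 1 [(1, 0), (0, 0), (0, 0), (0, 0)] .nil) .nil)) (.cons (.split 2 1 [(1, 0), (0, 3), (3, 0), (0, 3), (3, 0)] (.cons (.split (-1) 0 [(1, 0), (2, 3), (0, 0), (0, 0)] (.cons (.cong 14 0 ⟨(-3584), (-5248), 4096, 0,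 2⟩ [(0, 8), (2, 5472), (2, 10912)]) .nil)) (.cons (.cong 12 0 ⟨0, 0, 64, 1, 0⟩ [(0, 1), (0, 948), (2, 0), (2, 0)]) (.cons (.cong 12 2 ⟨(-512), (-512), 576, 1, 0⟩ [(0, 1), (0, 948), (0, 3349), (2, 0)]) (.cons (.cong 14 2 ⟨1024, (-3072), 7296, 2, 0⟩ [(0, 2), (0, 10088), (0, 14890), (2, 0)]) (.cons (.solve 1 0 (-1) 1 .nil) (.cons (.cong 9 2 ⟨(-64), 0, 64, 0, 0⟩ [(0, 0), (0, 0), (0, 0), (2, 0)]) .nil))))))) (.cons (.split 1 0 [(1, 0), (0, 3), (4, 0), (0, 0), (0, 0)] (.cons (.cong 12 0 ⟨0, 0, 64, 1, 0⟩ [(0, 1), (0, 948), (2, 0), (2, 0)]) (.cons (.cong 14 0 ⟨5120, (-7424), (-8064), 2, 5460⟩ [(0, 5458), (0, 12616), (2, 12736), (2, 3648)]) (.cons (.cong 12 0 ⟨0, 0, 64, 1, 0⟩ [(0, 1), (0, 948), (2, 0), (2, 0)]) .nil)))) .nil)))) (.cons (.split 0 1 [(2, 0), (1, 0), (0, 0), (0, 0),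 (0, 0), (2, 0)] (.cons (.solve 1 0 (-1) 0 (.cons (.split 1 0 [(1, 0), (3, 0), (3, 0), (0, 0)] (.cons (.split (-1) 0 [(1, 0), (0, 4), (0, 0)] (.cons (.cong 14 2 ⟨(-8064), 0, 0, 2, 0⟩ [(0, 2), (2, 0)]) (.cons (.cong 12 2 ⟨64, 0, 0, 1, 0⟩ [(0, 1), (2, 0)]) (.cons (.solve 0 0 1 0 (.cons (.cong 14 2 ⟨0, 0, 0, 1, 0⟩ [(2, 0)]) .nil)) .nil)))) (.cons (.split 1 0 [(1, 0), (4, 0), (0, 0)] (.cons (.cong 12 2 ⟨64, 0, 0, 1, 0⟩ [(0, 1), (2, 0)]) (.cons (.cong 14 2 ⟨(-8064), 0, 0, 2, 0⟩ [(0, 2), (2, 0)]) (.cons (.cong 12 2 ⟨64, 0, 0, 1, 0⟩ [(0, 1), (2, 0)]) .nil)))) .nil))) .nil)) .nil)) (.cons (.split 2 1 [(2, 0), (1, 0), (0, 3), (3, 0), (0, 3), (4, 0)] (.cons (.split (-1) 0 [(2, 0), (1, 0), (3, 3), (0, 0), (0, 0)] (.cons (.split 1 0 [(2, 0), (1, 0), (0, 0), (0, 0)] .nil) (.cons (.split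 (-1) 0 [(2, 2), (1, 0), (0, 0), (0, 0)] (.cons (.cong 14 0 ⟨(-3584), (-5248), 4096, 0, 2⟩ [(0, 8), (2, 5472), (2, 10912)]) .nil)) .nil))) (.cons (.cong 12 0 ⟨0, 1024, 64, 1, 0⟩ [(0, 4), (0, 1), (0, 948), (2, 0), (2, 0)]) (.cons (.cong 12 2 ⟨(-512), 512, 576, 1, 0⟩ [(0, 4), (0, 1), (0, 948), (0, 3349), (2, 0)]) (.cons (.cong 14 2 ⟨(-1024), (-5632), 3200, 2, (-5464)⟩ [(0, 5480), (0, 10914), (0, 15144), (0, 14890), (2, 7296)]) (.cons part002 (.cons (.cong 12 2 ⟨768, (-576), (-576), (-1), 1⟩ [(0, 4088), (0, 3), (0, 1252), (0, 747), (2, 2736)]) (.cons (.cong 14 2 ⟨(-4608), (-5248), (-3200), (-2), 2⟩ [(0, 16368), (0, 6), (0, 2504), (0, 1494), (2, 5472)]) .nil)))))))) (.cons (.split 1 0 [(2, 0), (1, 0), (0, 3), (4, 0), (0, 0), (0, 0)] (.cons (.cong 12 0 ⟨0, 1024, 64, 1, 0⟩ [(0,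 4), (0, 1), (0, 948), (2, 0), (2, 0)]) (.cons (.cong 14 0 ⟨8192, 8192, 128, 2, 0⟩ [(0, 8), (0, 2), (0, 10088), (2, 0), (2, 0)]) (.cons (.cong 12 0 ⟨0, 1024, 64, 1, 0⟩ [(0, 4), (0, 1), (0, 948), (2, 0), (2, 0)]) .nil)))) .nil)))))

/-- A part of a certificate. -/
def part004 : Tree :=
  (.split (-2) (-1) [(0, 0), (0, 0), (0, 0), (0, 0), (0, 0), (0, 0), (0, 0), (6, 0), (0, 0), (0, 0)] (.cons (.split (-1) 0 [(0, 0), (0, 0), (0, 0), (0, 0), (0, 0), (0, 0), (0, 0), (0, 0), (0, 0)] .nil) (.cons (.split 1 0 [(1, 0), (1, 0), (0, 2), (2, 0), (2, 0), (2, 0), (2, 0), (0, 0), (0, 0)] (.cons (.cong 12 0 ⟨256, 448, (-64), (-1), 1⟩ [(0, 3), (0, 1252), (0, 747), (0, 747), (0, 747), (0, 747), (2, 2736), (2, 1360)]) (.cons (.cong 12 0 ⟨2048, 1024, 64, 1, 0⟩ [(0, 4), (0, 948), (0, 3349), (0,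 3349), (0, 3349), (0, 3349), (2, 0), (2, 0)]) (.cons (.split 0 1 [(1, 0), (1, 0), (0, 0), (0, 0), (0, 0), (0, 0), (0, 0), (0, 0)] .nil) (.cons (.split 0 1 [(1, 0), (1, 0), (0, 0), (0, 0), (0, 0), (0, 0), (0, 2), (0, 0)] (.cons (.cong 12 2 ⟨(-512), 512, 576, 1, 0⟩ [(0, 4), (0, 1), (0, 3349), (0, 3349), (0, 3349), (0, 3349), (2, 0)]) .nil)) (.cons (.split 1 0 [(1, 0), (1, 0), (0, 2), (2, 0), (2, 0), (2, 0), (0, 0), (0, 0)] (.cons part003 .nil)) .nil)))))) (.cons (.split 0 (-1) [(1, 0), (0, 0), (0, 2), (0, 0), (0, 0), (0, 0), (0, 0), (2, 0), (0, 2)] (.cons (.split (-1) 0 [(0, 0), (0, 0), (0, 0), (0, 0), (0, 0), (0, 0), (0, 0), (0, 0)] .nil) (.cons (.split (-1) 0 [(1, 0), (0, 0), (0, 0), (0, 0), (0, 0), (0, 0), (0, 0), (0, 0)] .nil) (.cons (.split 0 (-1) [(1, 0), (0, 0), (0,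 0), (0, 0), (0, 0), (0, 0), (6, 0), (0, 0)] (.cons (.cong 12 2 ⟨(-512), 512, 576, 1, 0⟩ [(0, 4), (0, 1), (0, 3349), (0, 3349), (0, 3349), (0, 3349), (2, 0)]) (.cons (.cong 14 2 ⟨(-1024), (-5632), 3200, 2, (-5464)⟩ [(0, 5480), (0, 10914), (0, 14890), (0, 14890), (0, 14890), (0, 14890), (2, 7296)]) (.cons (.cong 12 2 ⟨(-512), 512, 576, 1, 0⟩ [(0, 4), (0, 1), (0, 3349), (0, 3349), (0, 3349), (0, 3349), (2, 0)]) (.cons (.split 0 (-1) [(1, 0), (0, 0), (0, 0), (0, 0), (0, 0), (0, 0), (0, 2)] (.cons (.cong 14 4 ⟨256, (-64), 0, 0, 1⟩ [(0, 16380), (0, 4), (0, 0), (0, 0), (0, 0), (0, 0)]) .nil)) (.cons (.cong 12 2 ⟨(-512), 512, 576, 1, 0⟩ [(0, 4), (0, 1), (0, 3349), (0, 3349), (0, 3349), (0, 3349), (2, 0)]) .nil)))))) (.cons (.cong 12 2 ⟨(-512), 512, 576, 1, 0⟩ [(0, 4), (0, 1), (0,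 948), (0, 3349), (0, 3349), (0, 3349), (0, 3349), (2, 0)]) (.cons (.cong 14 2 ⟨(-4608), (-5248), (-3200), (-2), 2⟩ [(0, 16368), (0, 6), (0, 2504), (0, 1494), (0, 1494), (0, 1494), (0, 1494), (2, 5472)]) .nil)))))) (.cons (.split 0 (-1) [(1, 0), (0, 0), (0, 2), (0, 0), (0, 0), (0, 0), (0, 0), (2, 0), (0, 0)] (.cons (.cong 12 0 ⟨256, 448, (-64), (-1), 1⟩ [(0, 3), (0, 1252), (0, 747), (0, 747), (0, 747), (0, 747), (2, 2736), (2, 1360)]) (.cons (.split (-1) 0 [(1, 0), (0, 0), (0, 0), (0, 0), (0, 0), (0, 0), (0, 0), (0, 0)] .nil) (.cons (.split 0 (-1) [(1, 0), (0, 0), (0, 0), (0, 0), (0, 0), (0, 0), (2, 0), (0, 0)] (.cons (.cong 12 2 ⟨(-512), 512, 576, 1, 0⟩ [(0, 4), (0, 1), (0, 3349), (0, 3349), (0, 3349), (0, 3349), (2, 0)]) .nil)) (.cons (.cong 12 2 ⟨(-512), 512, 576, 1, 0⟩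 [(0, 4), (0, 1), (0, 948), (0, 3349), (0, 3349), (0, 3349), (0, 3349), (2, 0)]) .nil))))) (.cons (.split (-2) (-1) [(0, 0), (0, 0), (0, 0), (0, 0), (0, 0), (0, 0), (0, 0), (2, 0), (0, 0)] (.cons (.cong 12 2 ⟨(-512), 512, 576, 1, 0⟩ [(0, 4), (0, 1), (0, 948), (0, 3349), (0, 3349), (0, 3349), (0, 3349), (2, 0)]) .nil)) (.cons (.split (-1) (-1) [(0, 0), (0, 0), (0, 1), (0, 0), (0, 0), (0, 0), (0, 0), (0, 0), (0, 0)] (.cons (.split (-1) 0 [(0, 0), (0, 0), (0, 0), (0, 0), (0, 0), (0, 0), (0, 0), (0, 0)] .nil) .nil)) .nil)))))))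

/-- A certificate. -/
def cert00 : Tree :=
  (.cong 9 0 ⟨256, 64, 0, 0, 1⟩ [(0, 0), (0, 76), (0, 0), (2, 176), (2, 176), (2, 176), (3, 160)])

theorem checked00 : cert00.check [rootJob units00] = true := by decide +kernel

/-- A certificate. -/
def cert01 : Tree :=
  (.cong 9 0 ⟨256, 64, 0, 0, 1⟩ [(0, 0), (1, 0), (0, 76), (2, 176), (2, 176), (2, 176), (3, 160)])

theorem checked01 : cert01.check [rootJob units01] = true := by decide +kernel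

/-- A certificate. -/
def cert02 : Tree :=
  (.cong 10 0 ⟨256, (-64), 0, 0, 1⟩ [(0, 0), (0, 1020), (0, 4), (0, 860), (2, 688), (2, 336), (2, 336), (2, 336)])

theorem checked02 : cert02.check [rootJob units02] = true := by decide +kernel

/-- A certificate. -/
def cert03 : Tree :=
  (.cong 10 0 ⟨256, 0, (-192), 1, 0⟩ [(0, 913), (0, 4), (0, 277), (0, 277), (2, 0), (2, 0), (2, 0), (2, 0), (2, 0), (2, 0)])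

theorem checked03 : cert03.check [rootJob units03] = true := by decide +kernel

/-- A certificate. -/
def cert04 : Tree :=
  (.cong 9 0 ⟨256, 64, 0, 0, 1⟩ [(0, 0), (0, 4), (0, 76), (0, 0), (0, 0), (0, 348), (2, 176), (3, 160)])

theorem checked04 : cert04.check [rootJob units04] = true := by decide +kernel

/-- A certificate. -/
def cert05 : Tree :=
  (.cong 9 0 ⟨256, 64, 0, 0, 1⟩ [(0, 0), (0, 76), (0, 0), (0, 0), (0, 0), (0, 0), (2, 176), (2, 176), (2, 176), (3, 160)])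

theorem checked05 : cert05.check [rootJob units05] = true := by decide +kernel

/-- A certificate. -/
def cert06 : Tree :=
  (.cong 9 0 ⟨256, (-64), 0, 0, 1⟩ [(0, 68), (0, 4), (0, 0), (0, 0), (0, 0), (0, 356), (2, 176), (3, 160)])

theorem checked06 : cert06.check [rootJob units06] = true := by decide +kernel

/-- A certificate. -/
def cert07 : Tree :=
  (.cong 9 0 ⟨(-128), 128, 192, 1, 0⟩ [(1, 8), (1, 140), (0, 1), (0, 1), (0, 41), (3, 0)])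

theorem checked07 : cert07.check [rootJob units07] = true := by decide +kernel

/-- A certificate. -/
def cert08 : Tree :=
  (.cong 9 0 ⟨(-128), 128, 192, 1, 0⟩ [(1, 8), (1, 140), (0, 1), (0, 277), (0, 277), (2, 0), (2, 0), (3, 0)])

theorem checked08 : cert08.check [rootJob units08] = true := by decide +kernel

/-- A certificate. -/
def cert09 : Tree :=
  (.cong 9 0 ⟨0, 256, 64, 1, 0⟩ [(1, 8), (1, 300), (0, 474), (0, 433), (2, 0), (2, 0)])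

theorem checked09 : cert09.check [rootJob units09] = true := by decide +kernel

/-- A certificate. -/
def cert10 : Tree :=
  (.cong 9 0 ⟨256, (-192), 0, 0, 1⟩ [(1, 504), (0, 4), (0, 0), (0, 0), (0, 0), (0, 356), (0, 236), (2, 176)])

theorem checked10 : cert10.check [rootJob units10] = true := by decide +kernel

/-- A certificate. -/
def cert11 : Tree :=
  (.cong 9 0 ⟨256, (-192), 0, 0, 1⟩ [(1, 504), (0, 4), (0, 4), (0, 76), (0, 0), (0, 0), (0, 0), (2, 176)])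

theorem checked11 : cert11.check [rootJob units11] = true := by decide +kernel

/-- A certificate. -/
def cert12 : Tree :=
  (.cong 9 0 ⟨256, (-192), 0, 0, 1⟩ [(1, 440), (0, 152), (0, 0), (0, 0), (0, 348), (2, 176), (2, 336), (2, 336)])

theorem checked12 : cert12.check [rootJob units12] = true := by decide +kernel

/-- A certificate. -/
def cert13 : Tree :=
  (.cong 9 0 ⟨256, (-192), 0, 0, 1⟩ [(1, 440), (1, 152), (0, 0), (0, 0), (0, 348), (2, 176), (3, 160)])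

theorem checked13 : cert13.check [rootJob units13] = true := by decide +kernel

/-- A certificate. -/
def cert14 : Tree :=
  (.cong 9 0 ⟨256, (-192), 0, 0, 1⟩ [(1, 440), (0, 76), (0, 0), (0, 0), (0, 0), (0, 348), (0, 236), (2, 176)])

theorem checked14 : cert14.check [rootJob units14] = true := by decide +kernel

/-- A certificate. -/
def cert15 : Tree :=
  (.cong 9 0 ⟨(-128), 64, 128, 0, 0⟩ [(1, 0), (0, 0), (0, 0), (0, 0), (0, 0), (0, 0)])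

theorem checked15 : cert15.check [rootJob units15] = true := by decide +kernel

/-- A certificate. -/
def cert16 : Tree :=
  (.cong 9 0 ⟨(-128), 0, 192, 1, 0⟩ [(1, 140), (0, 1), (0, 436), (0, 84), (0, 277), (0, 277), (2, 0), (2, 0)])

theorem checked16 : cert16.check [rootJob units16] = true := by decide +kernel

/-- A certificate. -/
def cert17 : Tree :=
  (.cong 9 0 ⟨(-128), 0, 192, 1, 0⟩ [(1, 140), (0, 1), (0, 1), (0, 474), (0, 474), (0, 84), (0, 41)])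

theorem checked17 : cert17.check [rootJob units17] = true := by decide +kernel

/-- A certificate. -/
def cert18 : Tree :=
  (.cong 9 0 ⟨(-128), 0, 192, 1, 0⟩ [(1, 140), (0, 1), (0, 474), (0, 474), (0, 84), (0, 277), (0, 277), (2, 0), (2, 0)])

theorem checked18 : cert18.check [rootJob units18] = true := by decide +kernel

/-- A certificate. -/
def cert19 : Tree :=
  (.cong 9 0 ⟨256, (-192), 0, 0, 1⟩ [(1, 152), (0, 4), (0, 76), (0, 0), (0, 0), (0, 0), (0, 356), (2, 176)])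

theorem checked19 : cert19.check [rootJob units19] = true := by decide +kernel

/-- A certificate. -/
def cert22 : Tree :=
  (.cong 9 0 ⟨(-128), 64, 128, 0, 0⟩ [(1, 0), (1, 0), (0, 0), (0, 0), (0, 0), (0, 0)])

theorem checked22 : cert22.check [rootJob units22] = true := by decide +kernel

/-- A certificate. -/
def cert23 : Tree :=
  (.cong 9 0 ⟨(-128), 0, 192, 1, 0⟩ [(1, 140), (1, 84), (0, 1), (0, 436), (0, 277), (0, 277), (2, 0), (2, 0)])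

theorem checked23 : cert23.check [rootJob units23] = true := by decide +kernel

/-- A certificate. -/
def cert24 : Tree :=
  (.cong 9 0 ⟨256, 192, 0, 0, 1⟩ [(1, 88), (1, 0), (0, 152), (0, 0), (0, 0), (0, 348), (2, 176)])

theorem checked24 : cert24.check [rootJob units24] = true := by decide +kernel

/-- A certificate. -/
def cert25 : Tree :=
  (.cong 9 0 ⟨(-128), 0, 192, 1, 0⟩ [(1, 140), (0, 1), (0, 1), (0, 436), (0, 277), (0, 277), (0, 277), (0, 277), (0, 41)])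

theorem checked25 : cert25.check [rootJob units25] = true := by decide +kernel

/-- A certificate. -/
def cert26 : Tree :=
  (.cong 9 0 ⟨(-128), 0, 192, 1, 0⟩ [(1, 140), (0, 1), (0, 436), (0, 277), (0, 277), (0, 277), (0, 277), (0, 277), (0, 277), (2, 0), (2, 0)])

theorem checked26 : cert26.check [rootJob units26] = true := by decide +kernel

/-- A certificate. -/
def cert34 : Tree :=
  (.split 0 (-1) [(0, 0), (1, 0), (0, 0), (0, 2), (3, 0), (2, 0), (0, 2)] (.cons (.split (-1) 0 [(0, 1), (0, 0), (0, 0), (0, 0), (0, 0), (0, 0)] .nil) (.cons (.split (-2) 1 [(0, 0), (1, 0), (0, 0), (0, 0), (0, 0), (0, 0)] .nil) (.cons (.split 0 (-1) [(0, 0), (1, 0), (0, 0), (4, 0), (0, 0), (0, 0)] (.cons (.split (-1) 0 [(0, 0), (1, 0), (0, 0), (0, 0), (0, 0)] .nil) (.cons (.split 0 1 [(0,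 0), (1, 0), (1, 0), (0, 0), (2, 0)] (.cons (.cong 9 0 ⟨256, 0, 0, 0, 0⟩ [(1, 0), (0, 0), (2, 0), (2, 0)]) (.cons (.solve 1 0 (-1) 1 (.cons (.split 0 1 [(0, 0), (1, 0), (0, 2)] (.cons (.cong 9 4 ⟨0, 64, 0, 0, 0⟩ [(1, 0), (0, 0)]) .nil)) .nil)) .nil))) (.cons (.split 0 (-1) [(0, 0), (1, 0), (0, 0), (6, 0), (0, 0)] (.cons (.cong 9 2 ⟨(-64), (-64), 64, 0, 0⟩ [(1, 0), (0, 0), (0, 0), (2, 0)]) (.cons (.split 0 (-1) [(0, 0), (1, 0), (0, 0), (0, 2)] (.cons (.cong 14 4 ⟨256, (-64), 0, 0, 1⟩ [(1, 0), (0, 16380), (0, 4)]) .nil)) (.cons (.cong 9 2 ⟨(-64), (-64), 64, 0, 0⟩ [(1, 0), (0, 0), (0, 0), (2, 0)]) (.cons (.split 0 (-1) [(0, 0), (1, 0), (0, 0), (0, 2)] (.cons (.cong 14 4 ⟨256, (-64), 0, 0, 1⟩ [(1, 0), (0, 16380), (0, 4)]) .nil)) (.cons (.cong 9 2 ⟨(-64), (-64), 64, 0, 0⟩ [(1,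 0), (0, 0), (0, 0), (2, 0)]) .nil)))))) (.cons (.split 0 (-1) [(0, 0), (1, 0), (0, 0), (2, 0), (0, 0)] (.cons (.cong 9 2 ⟨(-64), (-64), 64, 0, 0⟩ [(1, 0), (0, 0), (0, 0), (2, 0)]) .nil)) .nil))))) (.cons (.split (-1) 0 [(0, 0), (1, 0), (0, 0), (0, 2), (0, 0), (0, 0)] .nil) (.cons (.split 1 0 [(4, 0), (1, 0), (1, 0), (0, 2), (0, 0), (0, 0)] (.cons (.split (-1) 0 [(1, 0), (0, 0), (0, 2), (0, 0), (0, 0)] .nil) (.cons (.split (-1) 0 [(1, 0), (0, 0), (3, 2), (0, 0), (0, 0)] (.cons (.split 1 0 [(1, 0), (1, 0), (0, 0), (0, 0)] (.cons (.cong 9 1 ⟨0, (-128), 128, 0, 0⟩ [(0, 0), (2, 0), (2, 0)]) .nil)) (.cons (.split (-1) 0 [(1, 2), (0, 0), (0, 0), (0, 0)] (.cons (.cong 14 1 ⟨(-3584), (-5248), 4096, 0, 2⟩ [(0, 8), (2, 5472), (2, 10912)]) .nil)) .nil))) (.cons (.split 1 0 [(1, 0),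 (1, 0), (0, 2), (0, 0), (0, 0)] (.cons (.cong 9 1 ⟨128, 0, 0, 0, 0⟩ [(0, 0), (0, 0), (2, 0), (2, 0)]) .nil)) (.cons (.cong 9 0 ⟨256, 0, 0, 0, 0⟩ [(1, 0), (0, 0), (0, 0), (2, 0), (2, 0)]) .nil))))) (.cons (.split 0 (-1) [(0, 0), (1, 0), (0, 0), (0, 2), (2, 0), (0, 0)] (.cons (.cong 9 2 ⟨(-64), (-64), 64, 0, 0⟩ [(1, 0), (0, 0), (0, 0), (0, 0), (2, 0)]) .nil)) (.cons (.cong 9 2 ⟨(-64), (-64), 64, 0, 0⟩ [(1, 0), (0, 0), (0, 0), (0, 0), (0, 0), (2, 0)]) (.cons (.split 0 (-1) [(0, 0), (1, 0), (0, 0), (0, 2), (3, 0), (2, 0)] .nil) .nil)))))))))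

theorem checked34 : cert34.check [rootJob units34] = true := by decide +kernel

/-- A certificate. -/
def cert38 : Tree :=
  (.cong 9 0 ⟨128, 0, (-64), 1, 0⟩ [(1, 300), (0, 4), (0, 436), (0, 434), (0, 41), (2, 0)])

theorem checked38 : cert38.check [rootJob units38] = true := by decide +kernel

/-- A certificate. -/
def cert39 : Tree :=
  part004

theorem checked39 : cert39.check [rootJob units39] = true := by decide +kernel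

/-- A certificate. -/
def cert40 : Tree :=
  (.cong 9 0 ⟨(-128), 0, 192, 1, 0⟩ [(1, 140), (1, 84), (0, 1), (0, 1), (0, 474), (0, 474), (0, 41)])

theorem checked40 : cert40.check [rootJob units40] = true := by decide +kernel

/-- A certificate. -/
def cert41 : Tree :=
  (.cong 9 0 ⟨(-128), 0, 192, 1, 0⟩ [(1, 140), (1, 84), (0, 1), (0, 474), (0, 474), (0, 277), (0, 277), (2, 0), (2, 0)])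

theorem checked41 : cert41.check [rootJob units41] = true := by decide +kernel

/-- A certificate. -/
def cert42 : Tree :=
  (.cong 9 0 ⟨256, (-192), 0, 0, 1⟩ [(1, 152), (1, 0), (0, 4), (0, 76), (0, 0), (0, 0), (0, 356), (2, 176)])

theorem checked42 : cert42.check [rootJob units42] = true := by decide +kernel

/-- A certificate. -/
def cert43 : Tree :=
  (.cong 9 0 ⟨256, 192, 0, 0, 1⟩ [(1, 88), (1, 0), (0, 76), (0, 76), (0, 0), (0, 0), (0, 348), (2, 176)])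

theorem checked43 : cert43.check [rootJob units43] = true := by decide +kernel

/-- A certificate. -/
def cert44 : Tree :=
  (.cong 9 0 ⟨(-128), 0, 192, 1, 0⟩ [(1, 140), (0, 4), (0, 4), (0, 1), (0, 1), (0, 41), (2, 0), (2, 0)])

theorem checked44 : cert44.check [rootJob units44] = true := by decide +kernel

/-- A certificate. -/
def cert45 : Tree :=
  (.cong 9 0 ⟨(-128), 0, 192, 1, 0⟩ [(1, 140), (0, 4), (0, 4), (0, 1), (0, 277), (0, 277), (2, 0), (2, 0), (2, 0), (2, 0)])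

theorem checked45 : cert45.check [rootJob units45] = true := by decide +kernel

/-- A certificate. -/
def cert46 : Tree :=
  (.cong 9 0 ⟨(-128), 0, 192, 1, 0⟩ [(1, 140), (0, 1), (0, 1), (0, 474), (0, 474), (0, 277), (0, 277), (0, 277), (0, 277), (0, 41)])

theorem checked46 : cert46.check [rootJob units46] = true := by decide +kernel

/-- A certificate. -/
def cert47 : Tree :=
  (.cong 9 0 ⟨(-128), 0, 192, 1, 0⟩ [(1, 140), (0, 1), (0, 474), (0, 474), (0, 277), (0, 277), (0, 277), (0, 277), (0, 277), (0, 277), (2, 0), (2, 0)])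

theorem checked47 : cert47.check [rootJob units47] = true := by decide +kernel

/-- A certificate. -/
def cert48 : Tree :=
  (.cong 9 0 ⟨128, 256, (-64), 1, 0⟩ [(1, 436), (1, 300), (0, 474), (0, 277), (0, 277), (0, 434), (0, 41)])

theorem checked48 : cert48.check [rootJob units48] = true := by decide +kernel

/-- A certificate. -/
def cert49 : Tree :=
  (.cong 9 0 ⟨256, (-192), 0, 0, 1⟩ [(1, 152), (0, 4), (0, 76), (0, 0), (0, 0), (0, 0), (0, 0), (0, 0), (0, 0), (0, 356), (2, 176)])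

theorem checked49 : cert49.check [rootJob units49] = true := by decide +kernel

/-- A certificate. -/
def cert50 : Tree :=
  (.split 0 (-1) [(1, 0), (1, 0), (1, 0), (0, 0), (0, 0), (0, 0), (0, 0), (0, 0)] (.cons (.split (-1) 0 [(0, 0), (0, 0), (0, 0), (0, 0), (2, 0), (0, 0), (0, 0)] (.cons (.split (-1) 0 [(0, 0), (0, 0), (0, 0), (0, 0), (0, 0), (0, 0)] .nil) (.cons (.split 1 0 [(1, 0), (0, 0), (0, 0), (0, 0), (0, 0), (0, 0)] (.cons (.split 1 0 [(1, 0), (0, 0), (0, 0), (0, 0), (0, 0)] (.cons (.solve 1 0 (-1) 3 .nil) .nil)) .nil)) .nil))) .nil))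

theorem checked50 : cert50.check [rootJob units50] = true := by decide +kernel

/-- All lists are excluded. -/
theorem allUnits_checked : ∀ us ∈ allUnits, ∃ t : Tree, t.check [rootJob us] = true := by
  intro us h
  simp only [allUnits, List.mem_cons, List.not_mem_nil, or_false] at h
  rcases h with rfl | rfl | rfl | rfl | rfl | rfl | rfl | rfl | rfl | rfl | rfl | rfl | rfl | rfl | rfl | rfl | rfl | rfl | rfl | rfl | rfl | rfl | rfl | rfl | rfl | rfl | rfl | rfl | rfl | rfl | rfl | rfl | rfl | rfl | rfl | rfl | rfl | rfl | rfl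
  exacts [⟨_, checked00⟩, ⟨_, checked01⟩, ⟨_, checked02⟩, ⟨_, checked03⟩, ⟨_, checked04⟩, ⟨_, checked05⟩, ⟨_, checked06⟩, ⟨_, checked07⟩, ⟨_, checked08⟩, ⟨_, checked09⟩, ⟨_, checked10⟩, ⟨_, checked11⟩, ⟨_, checked12⟩, ⟨_, checked13⟩, ⟨_, checked14⟩, ⟨_, checked15⟩, ⟨_, checked16⟩, ⟨_, checked17⟩, ⟨_, checked18⟩, ⟨_, checked19⟩, ⟨_, checked22⟩, ⟨_, checked23⟩, ⟨_, checked24⟩, ⟨_, checked25⟩, ⟨_, checked26⟩, ⟨_, checked34⟩, ⟨_, checked38⟩, ⟨_, checked39⟩, ⟨_, checked40⟩, ⟨_, checked41⟩, ⟨_, checked42⟩, ⟨_, checked43⟩, ⟨_, checked44⟩, ⟨_, checked45⟩, ⟨_, checked46⟩, ⟨_, checked47⟩, ⟨_, checked48⟩, ⟨_, checked49⟩, ⟨_, checked50⟩]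

end Cfsg.Agent.U34Block
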