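import Cfsg.Agent.Lib.U34Rec.BlockEnumBase

/-!
Soundness of the search for the combinations of orbits.
-/

namespace Cfsg.Agent.U34Block

attribute [ext] Res

/-- Nothing left. -/
def Res.zero : Res := ⟨0, 0, 0, 0, 0, 0, 0, 0⟩

theorem Res.isZero_iff {R : Res} : R.isZero = true ↔ R = Res.zero := by
  simp only [Res.isZero, Bool.and_eq_true, decide_eq_true_eq, Res.ext_iff, Res.zero]
  tauto

instance : RightCommutative Res.sub :=
  ⟨fun R u v => by ext <;> simp only [Res.sub] <;> ring⟩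

/-- The orbits reach exactly what is left. -/
def Fits (l : List Orb) (R : Res) : Prop := l.foldl Res.sub R = Res.zero

theorem Fits.perm {l l' : List Orb} {R : Res} (h : Fits l R) (hp : l.Perm l') : Fits l' R :=
  (hp.foldl_eq R).symm.trans h

theorem orbs_spec {u : Orb} (h : u ∈ orbs) :
    0 ≤ u.A ∧ 0 ≤ u.B ∧ ¬ (u.A = 0 ∧ u.B = 0 ∧ u.r0 = 0 ∧ u.e = 0 ∧ u.S = 0) := by
  have := List.all_eq_true.1 orbs_nonneg u h
  simp only [Bool.and_eq_true, decide_eq_true_eq, Bool.not_eq_true', Bool.and_eq_false_iff,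
    decide_eq_false_iff_not] at this
  refine ⟨this.1.1, this.1.2, ?_⟩
  tauto

theorem orbs_pos {u : Orb} (h : u ∈ orbs) : 0 < u.n := by
  have key : orbs.all (fun u => Nat.blt 0 u.n) = true := by decide +kernel
  exact Nat.le_of_ble_eq_true (List.all_eq_true.1 key u h)

theorem quad_sub (R : Res) (u : Orb) (x : ℤ × ℤ × ℤ) :
    R.quad x = (R.sub u).quad x + u.n * (x.1 * u.r0 + x.2.1 * u.S + x.2.2 * u.e) ^ 2 := by
  obtain ⟨p, r, t⟩ := x
  simp only [Res.quad, Res.sub]
  ring

theorem Fits.nonneg : ∀ {l : List Orb} {R : Res}, Fits l R → (∀ v ∈ l, 0 ≤ v.A ∧ 0 ≤ v.B) →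
    (∀ x, 0 ≤ R.quad x) ∧ 0 ≤ R.gA ∧ 0 ≤ R.gB
  | [], R, h, _ => by
    simp only [Fits, List.foldl_nil] at h
    subst h
    simp [Res.quad, Res.zero]
  | u :: l, R, h, hl => by
    obtain ⟨hq, hA, hB⟩ := Fits.nonneg (l := l) (R := R.sub u) h fun v hv => hl v (List.mem_cons_of_mem _ hv)
    obtain ⟨uA, uB⟩ := hl u List.mem_cons_self
    simp only [Res.sub] at hA hB
    refine ⟨fun x => ?_, by linarith, by linarith⟩
    have := hq x
    rw [quad_sub R u x]
    positivity

theorem Fits.ok {l : List Orb} {R : Res} (h : Fits l R) (hl : ∀ v ∈ l, 0 ≤ v.A ∧ 0 ≤ v.B) :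
    R.ok = true := by
  obtain ⟨hq, hA, hB⟩ := h.nonneg hl
  have h0 := hq (1, 0, 0)
  have h1 := hq (0, 1, 0)
  have h2 := hq (0, 0, 1)
  simp only [Res.quad] at h0 h1 h2
  ring_nf at h0 h1 h2
  simp only [Res.ok, Bool.and_eq_true, decide_eq_true_eq, List.all_eq_true]
  exact ⟨⟨⟨⟨⟨h0, h1⟩, h2⟩, hA⟩, hB⟩, fun x _ => hq x⟩

theorem Fits.eq_nil {l : List Orb} (h : Fits l Res.zero) (hl : ∀ v ∈ l, v ∈ orbs) : l = [] := by
  rcases l with _ | ⟨u, l⟩
  · rfl
  exfalso
  have hl' : ∀ v ∈ l, v ∈ orbs := fun v hv => hl v (List.mem_cons_of_mem _ hv)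
  obtain ⟨hq, hA, hB⟩ := Fits.nonneg (l := l) (R := Res.zero.sub u) h fun v hv =>
    ⟨(orbs_spec (hl' v hv)).1, (orbs_spec (hl' v hv)).2.1⟩
  obtain ⟨uA, uB, hne⟩ := orbs_spec (hl u List.mem_cons_self)
  have hn : (0 : ℤ) < u.n := by exact_mod_cast orbs_pos (hl u List.mem_cons_self)
  have z : ∀ x : ℤ × ℤ × ℤ, x.1 * u.r0 + x.2.1 * u.S + x.2.2 * u.e = 0 := fun x => by
    have h0 : Res.zero.quad x = 0 := by simp [Res.quad, Res.zero]
    have := hq x
    have e := quad_sub Res.zero u x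
    have : (x.1 * u.r0 + x.2.1 * u.S + x.2.2 * u.e) ^ 2 ≤ 0 :=
      nonpos_of_mul_nonpos_right (a := (u.n : ℤ)) (by linarith) hn
    exact pow_eq_zero_iff (two_ne_zero) |>.1 (le_antisymm this (sq_nonneg _))
  simp only [Res.sub, Res.zero] at hA hB
  exact hne ⟨by linarith, by linarith, by simpa using z (1, 0, 0), by simpa using z (0, 0, 1),
    by simpa using z (0, 1, 0)⟩

theorem Fits.all_zero (f : Orb → ℤ) (g : Res → ℤ) (hg : ∀ R u, g (Res.sub R u) = g R - f u)
    (h0 : g Res.zero = 0) : ∀ {l : List Orb} {R : Res}, Fits l R → (∀ v ∈ l, f v = 0) → g R = 0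
  | [], R, h, _ => by
    simp only [Fits, List.foldl_nil] at h
    rw [h, h0]
  | u :: l, R, h, hl => by
    have := Fits.all_zero f g hg h0 (l := l) (R := R.sub u) h fun v hv => hl v (List.mem_cons_of_mem _ hv)
    rw [hg, hl u List.mem_cons_self] at this
    linarith

theorem cut_false {us l : List Orb} {R : Res} (h : Fits l R) (hl : ∀ v ∈ l, v ∈ us) : cut us R = false := by
  rw [← Bool.not_eq_true]
  intro hc
  simp only [cut, Bool.or_eq_true, Bool.and_eq_true, Bool.not_eq_true', decide_eq_false_iff_not,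
    List.all_eq_true, decide_eq_true_eq] at hc
  rcases hc with ((⟨hne, hz⟩ | ⟨hne, hz⟩) | ⟨hne, hz⟩) | ⟨hne, hz⟩
  · exact hne (h.all_zero (fun u => u.B) (fun R => R.gB) (fun _ _ => rfl) rfl fun v hv => hz v (hl v hv))
  · exact hne (h.all_zero (fun u => u.A) (fun R => R.gA) (fun _ _ => rfl) rfl fun v hv => hz v (hl v hv))
  · exact hne (h.all_zero (fun u => u.n * (u.e * u.e)) (fun R => R.gee) (fun _ _ => rfl) rfl
      fun v hv => by simp [hz v (hl v hv)])
  · exact hne (h.all_zero (fun u => u.n * (u.r0 * u.r0)) (fun R => R.g00) (fun _ _ => rfl) rfl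
      fun v hv => by simp [hz v (hl v hv)])

/-- The conclusion of the search. -/
def IsListed (l : List Orb) : Prop :=
  ∃ t ∈ allUnits, ((l.filter Orb.live).map Orb.key).Perm (t.map Un.key)

theorem IsListed.perm {l l' : List Orb} (h : IsListed l) (hp : l.Perm l') : IsListed l' := by
  obtain ⟨t, ht, hperm⟩ := h
  exact ⟨t, ht, (((hp.filter _).map _).symm).trans hperm⟩

theorem good_spec {acc : List Orb} (h : good acc = true) : IsListed acc := by
  simp only [good, List.any_eq_true] at h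
  obtain ⟨t, ht, hp⟩ := h
  exact ⟨t, ht, List.isPerm_iff.1 hp⟩

theorem enum_sound : ∀ (fuel : ℕ) {us : List Orb} {R : Res} {acc : List Orb}, enum fuel us R acc = true →
    (∀ v ∈ us, v ∈ orbs) → ∀ {l : List Orb}, (∀ v ∈ l, v ∈ us) → Fits l R → IsListed (acc ++ l)
  | 0, _, _, _, h, _, _, _, _ => by simp [enum] at h
  | fuel + 1, us, R, acc, h, hus, l, hl, hf => by
    have hlo : ∀ v ∈ l, v ∈ orbs := fun v hv => hus v (hl v hv)
    simp only [enum] at h
    split at h
    · rename_i hz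
      rw [Res.isZero_iff] at hz
      subst hz
      rw [hf.eq_nil hlo, List.append_nil]
      exact good_spec h
    rename_i hz
    rcases us with _ | ⟨u, us'⟩
    · have : l = [] := List.eq_nil_iff_forall_not_mem.2 fun v hv => by simpa using hl v hv
      subst this
      exact absurd (Res.isZero_iff.2 hf) hz
    simp only [cut_false hf hl, Bool.false_or, Bool.and_eq_true, Bool.or_eq_true, Bool.not_eq_true'] at h
    by_cases hu : u ∈ l
    · obtain ⟨l1, l2, rfl⟩ := List.append_of_mem hu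
      have hp : (l1 ++ u :: l2).Perm (u :: (l1 ++ l2)) := List.perm_middle
      have hf' : Fits (l1 ++ l2) (R.sub u) := hf.perm hp
      have hl' : ∀ v ∈ l1 ++ l2, v ∈ u :: us' := fun v hv => hl v (hp.mem_iff.2 (List.mem_cons_of_mem _ hv))
      rcases h.2 with hok | hrec
      · rw [hf'.ok fun v hv => ⟨(orbs_spec (hus v (hl' v hv))).1, (orbs_spec (hus v (hl' v hv))).2.1⟩] at hok
        simp at hok
      refine (enum_sound fuel hrec hus hl' hf').perm ?_
      exact (List.Perm.trans List.perm_middle.symm (List.Perm.append_left acc hp.symm))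
    · exact enum_sound fuel h.1 (fun v hv => hus v (List.mem_cons_of_mem _ hv))
        (fun v hv => (List.mem_cons.1 (hl v hv)).resolve_left fun e => hu (e ▸ hv)) hf

/-- Every combination of the orbits with the target is one of the lists of units. -/
theorem isListed_of_fits {l : List Orb} (hl : ∀ v ∈ l, v ∈ orbs) (hf : Fits l Res.target) : IsListed l := by
  simpa using enum_sound 200 orbs_enum (fun v hv => hv) hl hf

end Cfsg.Agent.U34Block
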