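import Cfsg.Agent.Lib.U34Rec.BlockTree

/-!
A checked certificate excludes solutions.
-/

namespace Cfsg.Agent.U34Block

/-- The values meet what is to be met. -/
structure Meets (l : List (Slot × ℤ)) (s : Goal3) : Prop where
  ok : ∀ q ∈ l, q.1.ok q.2 = true
  pos : 0 < s.D
  L0 : (l.map fun q => (q.1.u.n : ℤ) * q.1.u.r0 * q.2).sum = s.L0
  L1 : (l.map fun q => (q.1.u.n : ℤ) * q.1.u.S * q.2).sum = s.L1
  L2 : (l.map fun q => (q.1.u.n : ℤ) * q.1.u.e * q.2).sum = s.L2
  q0 : (l.map fun q => (q.1.u.c0 : ℚ) / (q.1.u.F q.2 : ℚ)).sum = (s.p0 : ℚ) / s.D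
  q1 : (l.map fun q => (q.1.u.c1 : ℚ) / (q.1.u.F q.2 : ℚ)).sum = (s.p1 : ℚ) / s.D

/-- A job with a solution. -/
def Solvable (j : Job) : Prop := ∃ l : List (Slot × ℤ), l.map Prod.fst = j.1 ∧ Meets l j.2

theorem slot_ok {w : Slot} {M : ℤ} (h : w.ok M = true) :
    w.u.ok M = true ∧ (0 ≤ M → (w.lp : ℤ) ≤ M) ∧ (M ≤ 0 → (w.ln : ℤ) ≤ -M) := by
  obtain ⟨k⟩ | ⟨k⟩ := M
  · simp only [Slot.ok, Bool.and_eq_true, Bool.or_eq_true, Bool.not_eq_true', Nat.ble_eq, Nat.beq_eq] at h
    refine ⟨h.1, fun _ => by simpa using h.2.1, fun hk => ?_⟩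
    have hk0 : k = 0 := by simpa using hk
    subst hk0
    rcases h.2.2 with e | e
    · simp at e
    · simp [e]
  · simp only [Slot.ok, Bool.and_eq_true, Nat.ble_eq] at h
    refine ⟨h.1, fun hk => absurd hk (by omega), fun _ => ?_⟩
    omega

theorem slot_ok_iff {w : Slot} {M : ℤ} : w.ok M = true ↔
    w.u.ok M = true ∧ (0 ≤ M → (w.lp : ℤ) ≤ M) ∧ (M ≤ 0 → (w.ln : ℤ) ≤ -M) := by
  refine ⟨slot_ok, fun ⟨h0, hp, hn⟩ => ?_⟩
  obtain ⟨k⟩ | ⟨k⟩ := M
  · simp only [Slot.ok, h0, Bool.true_and, Bool.and_eq_true, Bool.or_eq_true, Nat.ble_eq]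
    refine ⟨by simpa using hp (by simp), ?_⟩
    rcases Nat.eq_zero_or_pos k with rfl | hk
    · right; simpa using hn (by simp)
    · left; exact Bool.not_eq_true' _ ▸ (Bool.eq_false_iff.2 fun e => hk.ne' (Nat.eq_of_beq_eq_true e))
  · simp only [Slot.ok, h0, Bool.true_and, Nat.ble_eq]
    have := hn (by omega)
    omega

theorem unit_ok {u : Un} {M : ℤ} (h : u.ok M = true) :
    u.F M ≠ 0 ∧ (0 < u.F M → 0 ≤ M) ∧ (u.F M < 0 → M ≤ 0) := by
  simp only [Un.ok, Bool.and_eq_true, Bool.not_eq_true'] at h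
  obtain ⟨⟨⟨_, h3⟩, _⟩, h5⟩ := h
  have hF : u.F M ≠ 0 := fun e => by rw [e] at h3; simp at h3
  obtain ⟨k, hk⟩ | ⟨k, hk⟩ : (∃ k, u.F M = Int.ofNat k) ∨ ∃ k, u.F M = Int.negSucc k := by
    rcases u.F M with k | k
    exacts [Or.inl ⟨k, rfl⟩, Or.inr ⟨k, rfl⟩]
  · rw [hk] at h5
    simp only [Bool.and_eq_true, decide_eq_true_eq] at h5
    exact ⟨hF, fun _ => h5.1, fun hneg => absurd hneg (by rw [hk]; simp)⟩
  · rw [hk] at h5
    simp only [Bool.and_eq_true, decide_eq_true_eq] at h5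
    exact ⟨hF, fun hpos => absurd hpos (by rw [hk]; simp), fun _ => h5.1⟩

theorem Meets.perm {l l' : List (Slot × ℤ)} {s : Goal3} (h : Meets l s) (hp : l.Perm l') : Meets l' s :=
  ⟨fun q hq => h.ok q (hp.mem_iff.2 hq), h.pos, by rw [← (hp.map _).sum_eq]; exact h.L0,
    by rw [← (hp.map _).sum_eq]; exact h.L1, by rw [← (hp.map _).sum_eq]; exact h.L2,
    by rw [← (hp.map _).sum_eq]; exact h.q0, by rw [← (hp.map _).sum_eq]; exact h.q1⟩

theorem Meets.step {l1 l2 : List (Slot × ℤ)} {w : Slot} {M : ℤ} {s : Goal3}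
    (h : Meets (l1 ++ (w, M) :: l2) s) : Meets (l1 ++ l2) (s.step w.u M) := by
  have hF : w.u.F M ≠ 0 := (unit_ok (slot_ok (h.ok (w, M) (by simp))).1).1
  have e0 := h.L0
  have e1 := h.L1
  have e2 := h.L2
  have f0 := h.q0
  have f1 := h.q1
  simp only [List.map_append, List.map_cons, List.sum_append, List.sum_cons] at e0 e1 e2 f0 f1
  have hD : (s.D : ℚ) ≠ 0 := Nat.cast_ne_zero.2 h.pos.ne'
  have hFq : (w.u.F M : ℚ) ≠ 0 := Int.cast_ne_zero.2 hF
  have habs : (((w.u.F M).natAbs : ℕ) : ℚ) = ((w.u.F M).sign : ℚ) * (w.u.F M : ℚ) := by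
    rw [← Int.cast_natCast (R := ℚ) (w.u.F M).natAbs, ← Int.sign_mul_self_eq_natAbs, Int.cast_mul]
  have hs : ((w.u.F M).sign : ℚ) ≠ 0 :=
    Int.cast_ne_zero.2 fun e => hF (Int.sign_eq_zero_iff_zero.1 e)
  refine ⟨fun q hq => h.ok q ?_, Nat.mul_pos h.pos (Int.natAbs_pos.2 hF), ?_, ?_, ?_, ?_, ?_⟩
  · simp only [List.mem_append, List.mem_cons] at hq ⊢
    tauto
  all_goals simp only [Goal3.step, List.map_append, List.sum_append]
  · linarith
  · linarith
  · linarith
  · push_cast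
    simp only [← Int.cast_abs, Int.abs_eq_natAbs, Int.cast_natCast]
    rw [habs, eq_div_iff (mul_ne_zero hD (mul_ne_zero hs hFq))]
    have := (eq_div_iff hD).1 f0
    field_simp at this ⊢
    linear_combination this
  · push_cast
    simp only [← Int.cast_abs, Int.abs_eq_natAbs, Int.cast_natCast]
    rw [habs, eq_div_iff (mul_ne_zero hD (mul_ne_zero hs hFq))]
    have := (eq_div_iff hD).1 f1
    field_simp at this ⊢
    linear_combination this

theorem sum_lin (a b c : ℤ) : ∀ l : List (Slot × ℤ), (l.map fun q => q.1.u.lin a b c * q.2).sum =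
    a * (l.map fun q => (q.1.u.n : ℤ) * q.1.u.r0 * q.2).sum +
      b * (l.map fun q => (q.1.u.n : ℤ) * q.1.u.S * q.2).sum +
      c * (l.map fun q => (q.1.u.n : ℤ) * q.1.u.e * q.2).sum
  | [] => by simp
  | q :: l => by
    simp only [List.map_cons, List.sum_cons]
    rw [sum_lin a b c l]
    simp only [Un.lin]
    ring

theorem sum_comb (x y : ℤ) : ∀ l : List (Slot × ℤ),
    (l.map fun q => (q.1.u.comb x y : ℚ) / (q.1.u.F q.2 : ℚ)).sum =
      (x : ℚ) * (l.map fun q => (q.1.u.c0 : ℚ) / (q.1.u.F q.2 : ℚ)).sum +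
        (y : ℚ) * (l.map fun q => (q.1.u.c1 : ℚ) / (q.1.u.F q.2 : ℚ)).sum
  | [] => by simp
  | q :: l => by
    simp only [List.map_cons, List.sum_cons]
    rw [sum_comb x y l]
    simp only [Un.comb]
    push_cast
    ring

theorem Meets.comb {l : List (Slot × ℤ)} {s : Goal3} (h : Meets l s) (x y : ℤ) :
    (l.map fun q => (q.1.u.comb x y : ℚ) / (q.1.u.F q.2 : ℚ)).sum = ((x * s.p0 + y * s.p1 : ℤ) : ℚ) / s.D := by
  rw [sum_comb, h.q0, h.q1]
  push_cast
  ring

/-- The rational `r` is `k` modulo `2 ^ P`. -/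
def CongTwo (P : ℕ) (r : ℚ) (k : ℤ) : Prop :=
  ∃ num den : ℤ, Odd den ∧ (r - (k : ℚ)) * (den : ℚ) = ((2 : ℤ) ^ P : ℤ) * (num : ℚ)

theorem CongTwo.add {P : ℕ} {r r' : ℚ} {k k' : ℤ} (h : CongTwo P r k) (h' : CongTwo P r' k') :
    CongTwo P (r + r') (k + k') := by
  obtain ⟨n, d, hd, e⟩ := h
  obtain ⟨n', d', hd', e'⟩ := h'
  refine ⟨n * d' + n' * d, d * d', hd.mul hd', ?_⟩
  push_cast at e e' ⊢
  linear_combination (d' : ℚ) * e + (d : ℚ) * e'

theorem unitCong_spec {P : ℕ} {v : Comb5} {u : Un} {t : ℕ} {k M : ℤ} (h : unitCong P v u (t, k) = true) :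
    CongTwo P ((u.lin v.a v.b v.c * M : ℤ) + (u.comb v.x v.y : ℚ) / (u.F M : ℚ)) k := by
  simp only [unitCong, Bool.and_eq_true, decide_eq_true_eq, Nat.ble_eq] at h
  obtain ⟨⟨⟨⟨⟨⟨ht, hK⟩, hK'⟩, hw⟩, hA⟩, hB⟩, hC⟩ := h
  push_cast at hK hK' hw hA hB hC
  set T : ℤ := 2 ^ t with hT
  set q : ℤ := 2 ^ (6 - t) with hq
  set K' := u.K / T
  set w' := u.comb v.x v.y / T
  set l := u.lin v.a v.b v.c
  have eK : u.K = T * K' := (Int.mul_ediv_cancel' (Int.dvd_of_emod_eq_zero hK)).symm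
  have ew : u.comb v.x v.y = T * w' := (Int.mul_ediv_cancel' (Int.dvd_of_emod_eq_zero hw)).symm
  have hTq : T * q = 64 := by
    rw [hT, hq, ← pow_add, Nat.add_sub_cancel' (by omega : t ≤ 6)]; norm_num
  have eF : u.F M = T * (K' + q * M) := by
    rw [Un.F, eK, ← hTq]; ring
  have hodd : Odd (K' + q * M) := by
    refine Odd.add_even (Int.odd_iff.2 hK') (Even.mul_right ?_ _)
    rw [hq]
    exact (Int.even_pow' (by omega)).2 even_two
  obtain ⟨r, hr⟩ : ∃ r : ℤ, M * (M - 1) = 2 * r :=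
    ⟨M * (M - 1) / 2, (Int.mul_ediv_cancel' (Int.even_mul_pred_self M).two_dvd).symm⟩
  obtain ⟨A', hA'⟩ := Int.dvd_of_emod_eq_zero hA
  obtain ⟨B', hB'⟩ := Int.dvd_of_emod_eq_zero hB
  obtain ⟨C', hC'⟩ := Int.dvd_of_emod_eq_zero hC
  refine ⟨A' * r + B' * M + C', K' + q * M, hodd, ?_⟩
  have hf : ((K' + q * M : ℤ) : ℚ) ≠ 0 := Int.cast_ne_zero.2 (by
    obtain ⟨j, hj⟩ := hodd; omega)
  have hTne : (T : ℚ) ≠ 0 := Int.cast_ne_zero.2 (by rw [hT]; positivity)
  have key : (l * M - k) * (K' + q * M) + w' = 2 ^ P * (A' * r + B' * M + C') := by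
    linear_combination M * hB' + hC' + r * hA' + q * l * hr
  have key' : (((l * M - k) * (K' + q * M) + w' : ℤ) : ℚ) = ((2 ^ P * (A' * r + B' * M + C') : ℤ) : ℚ) := by
    rw [key]
  rw [ew, eF, Int.cast_mul T, Int.cast_mul T, mul_div_mul_left _ _ hTne]
  push_cast at key' hf ⊢
  rw [← key']
  rw [sub_mul, add_mul, div_mul_cancel₀ _ hf]
  ring

theorem congList_spec {P : ℕ} {v : Comb5} : ∀ {l : List (Slot × ℤ)} {per : List (ℕ × ℤ)},
    congList P v (l.map Prod.fst) per = true →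
      CongTwo P (((l.map fun q => q.1.u.lin v.a v.b v.c * q.2).sum : ℤ) +
        (l.map fun q => (q.1.u.comb v.x v.y : ℚ) / (q.1.u.F q.2 : ℚ)).sum) (per.map Prod.snd).sum
  | [], [], _ => ⟨0, 1, odd_one, by simp⟩
  | [], _ :: _, h => by simp [congList] at h
  | _ :: _, [], h => by simp [congList] at h
  | q :: l, tk :: per, h => by
    simp only [List.map_cons, congList, Bool.and_eq_true] at h
    have := (unitCong_spec (M := q.2) (t := tk.1) (k := tk.2) h.1).add (congList_spec h.2)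
    simp only [List.map_cons, List.sum_cons]
    convert this using 1
    push_cast
    ring

theorem congTest_sound {P s : ℕ} {v : Comb5} {per : List (ℕ × ℤ)} {j : Job}
    (h : congTest P s v per j = true) : ¬ Solvable j := by
  rintro ⟨l, hl, hm⟩
  simp only [congTest, Bool.and_eq_true, decide_eq_true_eq, Bool.not_eq_true', decide_eq_false_iff_not] at h
  obtain ⟨⟨h1, h2⟩, h3⟩ := h
  rw [← hl] at h1
  obtain ⟨num, den, hden, e⟩ := congList_spec h1
  rw [hm.comb, sum_lin, hm.L0, hm.L1, hm.L2] at e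
  set Z : ℤ := v.a * j.2.L0 + v.b * j.2.L1 + v.c * j.2.L2
  set X : ℤ := v.x * j.2.p0 + v.y * j.2.p1
  set k : ℤ := (per.map Prod.snd).sum
  have hD : ((j.2.D : ℕ) : ℚ) ≠ 0 := Nat.cast_ne_zero.2 hm.pos.ne'
  have e2 : ((((Z - k) * j.2.D + X) * den : ℤ) : ℚ) = ((2 ^ P * num * j.2.D : ℤ) : ℚ) := by
    push_cast at e ⊢
    field_simp at e
    linear_combination e
  have e3 := Int.cast_injective (α := ℚ) e2
  obtain ⟨D', hD'⟩ := Int.dvd_of_emod_eq_zero h2
  push_cast at hD' h3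
  have hdvd : (2 : ℤ) ^ (P + s) ∣ ((Z - k) * j.2.D + X) * den :=
    ⟨num * D', by rw [e3, pow_add]; linear_combination (2 : ℤ) ^ P * num * hD'⟩
  obtain ⟨i, hi⟩ := hden
  have hcop : IsCoprime ((2 : ℤ) ^ (P + s)) den := IsCoprime.pow_left ⟨-i, 1, by rw [hi]; ring⟩
  exact h3 (Int.emod_eq_zero_of_dvd (hcop.dvd_of_dvd_mul_right hdvd))

theorem least_pos (w : Slot) (b : Bool) : 0 < w.least b := by
  cases b <;> simp only [Slot.least] <;> split
  · rename_i h
    simp only [Bool.and_eq_true, decide_eq_true_eq] at h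
    omega
  · exact lt_of_lt_of_le one_pos (le_max_left _ _)
  · rename_i h
    simp only [Bool.and_eq_true, decide_eq_true_eq] at h
    omega
  · exact lt_of_lt_of_le one_pos (le_max_left _ _)

theorem least_pos_le {w : Slot} {M : ℤ} (h : w.ok M = true) (hF : 0 < w.u.F M) :
    (w.least true : ℤ) ≤ w.u.F M := by
  obtain ⟨hu, hp, -⟩ := slot_ok h
  have hM := hp ((unit_ok hu).2.1 hF)
  simp only [Slot.least]
  rcases eq_or_lt_of_le hM with e | e
  · subst e
    rw [if_pos (by simp [hu, hF])]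
    omega
  · have hstep : w.u.F (w.lp + 1) ≤ w.u.F M := by simp only [Un.F]; omega
    have hmono : w.u.F w.lp ≤ w.u.F M := by simp only [Un.F]; omega
    split
    · rename_i hc
      simp only [Bool.and_eq_true, decide_eq_true_eq] at hc
      omega
    · change ((max 1 (w.u.F (↑w.lp + 1)).toNat : ℕ) : ℤ) ≤ _
      omega

theorem least_neg_le {w : Slot} {M : ℤ} (h : w.ok M = true) (hF : w.u.F M < 0) :
    (w.least false : ℤ) ≤ -w.u.F M := by
  obtain ⟨hu, -, hn⟩ := slot_ok h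
  have hM := hn ((unit_ok hu).2.2 hF)
  simp only [Slot.least]
  rcases eq_or_lt_of_le hM with e | e
  · obtain rfl : M = -(w.ln : ℤ) := by omega
    rw [if_pos (by simp [hu, hF])]
    omega
  · have hstep : w.u.F M ≤ w.u.F (-(w.ln : ℤ) - 1) := by simp only [Un.F]; omega
    have hmono : w.u.F M ≤ w.u.F (-(w.ln : ℤ)) := by simp only [Un.F]; omega
    split
    · rename_i hc
      simp only [Bool.and_eq_true, decide_eq_true_eq] at hc
      omega
    · change ((max 1 (-(w.u.F (-(w.ln : ℤ) - 1))).toNat : ℕ) : ℤ) ≤ _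
      omega

theorem top_spec (la mu : ℤ) : ∀ {l : List (Slot × ℤ)}, (∀ q ∈ l, q.1.ok q.2 = true) →
    0 < (top la mu (l.map Prod.fst)).2 ∧
      (l.map fun q => (q.1.u.comb la mu : ℚ) / (q.1.u.F q.2 : ℚ)).sum ≤
        ((top la mu (l.map Prod.fst)).1 : ℚ) / (top la mu (l.map Prod.fst)).2
  | [], _ => by simp [top]
  | (w, M) :: l, h => by
    obtain ⟨hD, hle⟩ := top_spec la mu (l := l) fun q hq => h q (List.mem_cons_of_mem _ hq)
    have hw : w.ok M = true := h _ List.mem_cons_self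
    have hF := (unit_ok (slot_ok hw).1).1
    simp only [List.map_cons, List.sum_cons, top]
    obtain ⟨N, D, hND⟩ : ∃ N D, top la mu (l.map Prod.fst) = (N, D) := ⟨_, _, rfl⟩
    rw [hND] at hD hle ⊢
    obtain ⟨c, hc⟩ | ⟨c, hc⟩ : (∃ c, w.u.comb la mu = Int.ofNat c) ∨ ∃ c, w.u.comb la mu = Int.negSucc c := by
      rcases w.u.comb la mu with c | c
      exacts [Or.inl ⟨c, rfl⟩, Or.inr ⟨c, rfl⟩]
    · rw [hc]
      dsimp only
      by_cases h0 : c = 0
      · subst h0
        simpa using ⟨hD, hle⟩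
      rw [if_neg (by simpa using h0)]
      simp only [forceN_eq']
      have hl := least_pos w true
      refine ⟨Nat.mul_pos hD hl, ?_⟩
      have h1 : ((Int.ofNat c : ℤ) : ℚ) / (w.u.F M : ℚ) ≤ (c : ℚ) / (w.least true : ℕ) := by
        rcases lt_or_gt_of_ne hF with hneg | hpos
        · exact (div_nonpos_of_nonneg_of_nonpos (by simp) (by exact_mod_cast hneg.le)).trans (by positivity)
        · rw [Int.ofNat_eq_natCast, Int.cast_natCast]
          exact div_le_div_of_nonneg_left (by positivity) (by exact_mod_cast hl)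
            (by exact_mod_cast least_pos_le hw hpos)
      refine (add_le_add h1 hle).trans (le_of_eq ?_)
      have hDq : (D : ℚ) ≠ 0 := Nat.cast_ne_zero.2 hD.ne'
      have hlq : ((w.least true : ℕ) : ℚ) ≠ 0 := Nat.cast_ne_zero.2 hl.ne'
      push_cast
      field_simp
      ring
    · rw [hc]
      simp only [forceN_eq']
      have hl := least_pos w false
      refine ⟨Nat.mul_pos hD hl, ?_⟩
      have h1 : ((Int.negSucc c : ℤ) : ℚ) / (w.u.F M : ℚ) ≤ ((c + 1 : ℕ) : ℚ) / (w.least false : ℕ) := by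
        rw [Int.negSucc_eq]
        rcases lt_or_gt_of_ne hF with hneg | hpos
        · rw [show ((-(↑c + 1) : ℤ) : ℚ) / (w.u.F M : ℚ) = ((c + 1 : ℕ) : ℚ) / ((-w.u.F M : ℤ) : ℚ) by
            push_cast; rw [div_neg, neg_div]]
          exact div_le_div_of_nonneg_left (by positivity) (by exact_mod_cast hl)
            (by exact_mod_cast least_neg_le hw hneg)
        · refine (div_nonpos_of_nonpos_of_nonneg ?_ (by exact_mod_cast hpos.le)).trans (by positivity)
          exact_mod_cast (by omega : -((c : ℤ) + 1) ≤ 0)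
      refine (add_le_add h1 hle).trans (le_of_eq ?_)
      have hDq : (D : ℚ) ≠ 0 := Nat.cast_ne_zero.2 hD.ne'
      have hlq : ((w.least false : ℕ) : ℚ) ≠ 0 := Nat.cast_ne_zero.2 hl.ne'
      push_cast
      field_simp
      ring
where
  forceN_eq' {α : Type} {n : ℕ} {k : ℕ → α} : forceN n k = k n := by cases n <;> rfl

theorem sameSlot_eq {x y : Slot × (ℕ × ℕ)} (h : sameSlot x y = true) : x = y := by
  obtain ⟨⟨⟨n, r0, S, e, m⟩, lp, ln⟩, b1, b2⟩ := x
  obtain ⟨⟨⟨n', r0', S', e', m'⟩, lp', ln'⟩, b1', b2'⟩ := y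
  simp only [sameSlot, Un.same, Bool.and_eq_true, Nat.beq_eq, decide_eq_true_eq] at h
  obtain ⟨⟨⟨⟨⟨⟨⟨⟨rfl, rfl⟩, rfl⟩, rfl⟩, rfl⟩, rfl⟩, rfl⟩, rfl⟩, rfl⟩ := h
  rfl

/-- A value within the new bounds. -/
def inBounds (z : (Slot × (ℕ × ℕ)) × ℤ) : Prop :=
  (0 ≤ z.2 → (z.1.2.1 : ℤ) ≤ z.2) ∧ (z.2 ≤ 0 → (z.1.2.2 : ℤ) ≤ -z.2)

theorem raise_ok {z : (Slot × (ℕ × ℕ)) × ℤ} (h : z.1.1.ok z.2 = true) (hin : inBounds z) :
    (z.1.1.raise z.1.2).ok z.2 = true := by
  obtain ⟨h0, hp, hn⟩ := slot_ok h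
  refine slot_ok_iff.2 ⟨h0, fun hM => ?_, fun hM => ?_⟩
  · have := hp hM; have := hin.1 hM
    simp only [Slot.raise]; push_cast; omega
  · have := hn hM; have := hin.2 hM
    simp only [Slot.raise]; push_cast; omega

theorem mem_outside {z : (Slot × (ℕ × ℕ)) × ℤ} (h : z.1.1.ok z.2 = true) (hout : ¬ inBounds z) :
    z.2 ∈ outside z.1.1 z.1.2 := by
  obtain ⟨⟨w, b⟩, M⟩ := z
  obtain ⟨-, hp, hn⟩ := slot_ok h
  simp only [inBounds, not_and_or, Classical.not_imp, not_le] at hout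
  simp only at hp hn hout ⊢
  have left : 0 ≤ M → M < b.1 → M ∈ outside w b := fun h1 h2 => by
    have := hp h1
    refine List.mem_append_left _ (List.mem_map.2 ⟨M.toNat - w.lp, List.mem_range.2 (by omega), ?_⟩)
    rw [Int.ofNat_eq_natCast]; omega
  rcases hout with ⟨h1, h2⟩ | ⟨h1, h2⟩
  · exact left h1 h2
  by_cases hz : M = 0 ∧ 0 < b.1
  · exact left (by omega) (by omega)
  have := hn h1
  refine List.mem_append_right _ (List.mem_filterMap.2 ⟨(-M).toNat - w.ln, List.mem_range.2 (by omega), ?_⟩)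
  rw [if_neg, Option.some_inj]
  · have hnn : ∀ x : ℕ, Int.negOfNat x = -(x : ℤ) := fun x => by cases x <;> rfl
    rw [hnn]; omega
  · simp only [Bool.and_eq_true, Nat.beq_eq, Nat.blt_eq, not_and]
    intro h0
    omega

theorem raiseAll_map (Z : List ((Slot × (ℕ × ℕ)) × ℤ)) :
    raiseAll (Z.map fun z => z.1.1) (Z.map fun z => z.1.2) = Z.map fun z => z.1.1.raise z.1.2 := by
  induction Z with
  | nil => rfl
  | cons z Z ih => simp only [List.map_cons, raiseAll, ih]

theorem mem_kidsOf (s : Goal3) : ∀ (Z1 : List ((Slot × (ℕ × ℕ)) × ℤ)) (orig : List (Slot × (ℕ × ℕ)))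
    (pre : List Slot) (q : (Slot × (ℕ × ℕ)) × ℤ) (Z2 : List ((Slot × (ℕ × ℕ)) × ℤ)),
    q.1.1.ok q.2 = true → ¬ inBounds q → (∀ o ∈ orig, sameSlot o q.1 = false) →
    (∀ x ∈ Z1, sameSlot x.1 q.1 = false) →
      ((pre.reverse ++ Z1.map fun z => z.1.1.raise z.1.2) ++ Z2.map (fun z => z.1.1), s.step q.1.1.u q.2) ∈
        kidsOf s orig pre ((Z1 ++ q :: Z2).map fun z => z.1.1) ((Z1 ++ q :: Z2).map fun z => z.1.2)
  | [], orig, pre, q, Z2, hok, hout, ho, _ => by
    simp only [List.nil_append, List.map_cons, kidsOf, List.map_nil, List.append_nil]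
    refine List.mem_append_left _ ?_
    rw [if_neg (by simpa using ho), List.reverseAux_eq]
    exact List.mem_map.2 ⟨q.2, List.mem_filter.2 ⟨mem_outside hok hout, hok⟩, rfl⟩
  | x :: Z1, orig, pre, q, Z2, hok, hout, ho, hz => by
    simp only [List.cons_append, List.map_cons, kidsOf]
    refine List.mem_append_right _ ?_
    have := mem_kidsOf s Z1 (x.1 :: orig) (x.1.1.raise x.1.2 :: pre) q Z2 hok hout
      (fun o ho' => by
        rcases List.mem_cons.1 ho' with rfl | ho'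
        exacts [hz x List.mem_cons_self, ho o ho'])
      fun y hy => hz y (List.mem_cons_of_mem _ hy)
    simpa using this

/-- The first unit outside the new bounds may be taken without an equal one before it. -/
theorem exists_first_out {s : Goal3} {ws : List Slot} {bs : List (ℕ × ℕ)} :
    ∀ (n : ℕ) (Z : List ((Slot × (ℕ × ℕ)) × ℤ)), Meets (Z.map fun z => (z.1.1, z.2)) s →
      Z.map (fun z => z.1.1) = ws → Z.map (fun z => z.1.2) = bs →
      (∃ Z1 q Z2, Z = Z1 ++ q :: Z2 ∧ Z1.length = n ∧ ¬ inBounds q) →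
      ∃ Z1 q Z2, Meets ((Z1 ++ q :: Z2).map fun z => (z.1.1, z.2)) s ∧
        (Z1 ++ q :: Z2).map (fun z => z.1.1) = ws ∧ (Z1 ++ q :: Z2).map (fun z => z.1.2) = bs ∧
        ¬ inBounds q ∧ ∀ x ∈ Z1, inBounds x ∧ sameSlot x.1 q.1 = false := by
  intro n
  induction n using Nat.strong_induction_on with
  | _ n ih =>
    rintro Z hS hw hb ⟨Z1, q, Z2, rfl, hn, hq⟩
    by_cases hsmall : ∃ x ∈ Z1, ¬ inBounds x
    · obtain ⟨x, hx, hxo⟩ := hsmall
      obtain ⟨a, b, rfl⟩ := List.append_of_mem hx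
      exact ih a.length (by simp at hn; omega) _ hS hw hb ⟨a, x, b ++ q :: Z2, by simp, rfl, hxo⟩
    push Not at hsmall
    by_cases hdup : ∃ x ∈ Z1, sameSlot x.1 q.1 = true
    · obtain ⟨⟨v, N⟩, hx, hxs⟩ := hdup
      obtain ⟨u, M⟩ := q
      have huv : v = u := sameSlot_eq hxs
      subst huv
      obtain ⟨a, b, rfl⟩ := List.append_of_mem hx
      have hperm : ((a ++ (v, N) :: b) ++ (v, M) :: Z2).Perm ((a ++ (v, M) :: b) ++ (v, N) :: Z2) := by
        simp only [List.append_assoc, List.cons_append]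
        refine List.Perm.append_left a ?_
        refine (List.Perm.cons _ List.perm_middle).trans ?_
        exact (List.Perm.swap _ _ _).trans (List.Perm.cons _ List.perm_middle.symm)
      exact ih a.length (by simp at hn; omega) _ (hS.perm (hperm.map _)) (by rw [← hw]; simp)
        (by rw [← hb]; simp) ⟨a, (v, M), b ++ (v, N) :: Z2, by simp, rfl, hq⟩
    push Not at hdup
    exact ⟨Z1, q, Z2, hS, hw, hb, hq, fun x hx => ⟨hsmall x hx, by simpa using hdup x hx⟩⟩

theorem exists_zip : ∀ (l : List (Slot × ℤ)) (bs : List (ℕ × ℕ)), bs.length = l.length →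
    ∃ Z : List ((Slot × (ℕ × ℕ)) × ℤ), Z.map (fun z => (z.1.1, z.2)) = l ∧ Z.map (fun z => z.1.2) = bs
  | [], [], _ => ⟨[], rfl, rfl⟩
  | q :: l, b :: bs, h => by
    obtain ⟨Z, h1, h2⟩ := exists_zip l bs (by simpa using h)
    exact ⟨((q.1, b), q.2) :: Z, by simp [h1], by simp [h2]⟩
  | [], _ :: _, h => by simp at h
  | _ :: _, [], h => by simp at h

theorem split_sound {la mu : ℤ} {bounds : List (ℕ × ℕ)} {j : Job} (h : splitTest la mu bounds j = true)
    (hk : ∀ k ∈ kidsOf j.2 [] [] j.1 bounds, ¬ Solvable k) : ¬ Solvable j := by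
  rintro ⟨l, hl, hm⟩
  simp only [splitTest, Bool.and_eq_true, Nat.beq_eq, decide_eq_true_eq] at h
  obtain ⟨hlen, hlt⟩ := h
  obtain ⟨Z, hZ1, hZ2⟩ := exists_zip l bounds (by rw [hlen, ← hl, List.length_map])
  subst hZ1
  have hw : Z.map (fun z => z.1.1) = j.1 := by
    rw [← hl, List.map_map]
    exact List.map_congr_left fun z _ => rfl
  by_cases hall : ∀ z ∈ Z, inBounds z
  · have hok : ∀ q ∈ Z.map (fun z => (z.1.1.raise z.1.2, z.2)), q.1.ok q.2 = true := fun q hq => by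
      obtain ⟨z, hz, rfl⟩ := List.mem_map.1 hq
      exact raise_ok (hm.ok _ (List.mem_map.2 ⟨z, hz, rfl⟩)) (hall z hz)
    obtain ⟨hD, hle⟩ := top_spec la mu hok
    have e1 : (Z.map fun z => (z.1.1.raise z.1.2, z.2)).map Prod.fst = raiseAll j.1 bounds := by
      rw [← hw, ← hZ2, raiseAll_map, List.map_map]; exact List.map_congr_left fun z _ => rfl
    have e2 := hm.comb la mu
    rw [List.map_map] at e2 hle
    rw [List.map_congr_left (f := (fun q : Slot × ℤ => (q.1.u.comb la mu : ℚ) / (q.1.u.F q.2 : ℚ)) ∘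
      fun z : (Slot × (ℕ × ℕ)) × ℤ => (z.1.1.raise z.1.2, z.2)) (g := (fun q : Slot × ℤ => (q.1.u.comb la mu : ℚ) / (q.1.u.F q.2 : ℚ)) ∘
      fun z : (Slot × (ℕ × ℕ)) × ℤ => (z.1.1, z.2)) fun z _ => rfl, e2] at hle
    rw [e1] at hle hD
    set N := (top la mu (raiseAll j.1 bounds)).1
    set D := (top la mu (raiseAll j.1 bounds)).2
    rw [div_le_div_iff₀ (by exact_mod_cast hm.pos) (by exact_mod_cast hD)] at hle
    have : (la * j.2.p0 + mu * j.2.p1) * (D : ℤ) ≤ (N : ℤ) * j.2.D := by exact_mod_cast hle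
    omega
  · push Not at hall
    obtain ⟨q, hq, hqo⟩ := hall
    obtain ⟨a, b, hab⟩ := List.append_of_mem hq
    obtain ⟨Z1, q, Z2, hS, hw', hb', hout, hbefore⟩ :=
      exists_first_out a.length Z hm hw hZ2 ⟨a, q, b, hab, rfl, hqo⟩
    have hqok : q.1.1.ok q.2 = true := hS.ok (q.1.1, q.2) (by simp)
    have hmem := mem_kidsOf j.2 Z1 [] [] q Z2 hqok hout (by simp) fun x hx => (hbefore x hx).2
    rw [hw', hb'] at hmem
    refine hk _ hmem ⟨(Z1.map fun z => (z.1.1.raise z.1.2, z.2)) ++ Z2.map fun z => (z.1.1, z.2), ?_, ?_⟩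
    · simp [List.map_map, Function.comp_def]
    · rw [List.map_append, List.map_cons] at hS
      have hstep := hS.step
      refine ⟨fun x hx => ?_, hstep.pos, ?_, ?_, ?_, ?_, ?_⟩
      · rcases List.mem_append.1 hx with hx | hx
        · obtain ⟨y, hy, rfl⟩ := List.mem_map.1 hx
          exact raise_ok (hS.ok _ (List.mem_append_left _ (List.mem_map.2 ⟨y, hy, rfl⟩))) (hbefore y hy).1
        · exact hstep.ok x (List.mem_append_right _ hx)
      · rw [← hstep.L0]; simp [List.map_map, Function.comp_def, Slot.raise]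
      · rw [← hstep.L1]; simp [List.map_map, Function.comp_def, Slot.raise]
      · rw [← hstep.L2]; simp [List.map_map, Function.comp_def, Slot.raise]
      · rw [← hstep.q0]; simp [List.map_map, Function.comp_def, Slot.raise]
      · rw [← hstep.q1]; simp [List.map_map, Function.comp_def, Slot.raise]

theorem solve_sound {a b c : ℤ} {i : ℕ} {j : Job} {ks : List Job} (h : solveKids a b c i j = some ks)
    (hk : ∀ k ∈ ks, ¬ Solvable k) : ¬ Solvable j := by
  rintro ⟨l, hl, hm⟩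
  simp only [solveKids, List.splitAt_eq] at h
  split at h
  · rename_i pre w post hsplit
    simp only [Prod.mk.injEq] at hsplit
    obtain ⟨rfl, hdrop⟩ := hsplit
    split at h
    · rename_i hc
      simp only [Bool.and_eq_true, Bool.not_eq_true', decide_eq_false_iff_not, List.all_eq_true,
        decide_eq_true_eq] at hc
      have e : l.map Prod.fst = j.1.take i ++ w :: post := by rw [hl, ← hdrop, List.take_append_drop]
      obtain ⟨l1, l', rfl, h1, e'⟩ := List.map_eq_append_iff.1 e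
      obtain ⟨⟨w', M⟩, l2, rfl, hw', h2⟩ := List.map_eq_cons_iff.1 e'
      simp only at hw'
      subst hw'
      have hform := sum_lin a b c (l1 ++ (w', M) :: l2)
      rw [hm.L0, hm.L1, hm.L2] at hform
      have z : ∀ r : List (Slot × ℤ), (∀ x ∈ r, x.1.u.lin a b c = 0) →
          (r.map fun x => x.1.u.lin a b c * x.2).sum = 0 := fun r hr => List.sum_eq_zero fun y hy => by
        obtain ⟨x, hx, rfl⟩ := List.mem_map.1 hy; rw [hr x hx, zero_mul]
      rw [List.map_append, List.sum_append, List.map_cons, List.sum_cons,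
        z l1 (fun x hx => hc.2 _ (List.mem_append_left _ (h1 ▸ List.mem_map_of_mem hx))),
        z l2 (fun x hx => hc.2 _ (List.mem_append_right _ (h2 ▸ List.mem_map_of_mem hx))), zero_add,
        add_zero] at hform
      have hM : (a * j.2.L0 + b * j.2.L1 + c * j.2.L2) / w'.u.lin a b c = M := by
        rw [← hform, Int.mul_ediv_cancel_left _ hc.1]
      simp only [← hform, Int.mul_ediv_cancel_left _ hc.1, Int.mul_emod_right, decide_true, Bool.true_and, hm.ok (w', M) (by simp),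
        if_true, Option.some.injEq] at h
      rw [← h] at hk
      exact hk _ List.mem_cons_self ⟨l1 ++ l2, by simp [h1, h2], hm.step⟩
    · simp at h
  · simp at h

/-- A checked certificate excludes solutions of its jobs. -/
theorem Tree.sound : ∀ (t : Tree) {js : List Job}, t.check js = true → ∀ j ∈ js, ¬ Solvable j := by
  intro t
  induction t with
  | nil => intro js h; simp [Tree.check] at h; simp [h]
  | cons hd tl ih1 ih2 =>
    intro js h j hj
    cases js with
    | nil => simp at hj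
    | cons x xs =>
      simp only [Tree.check, Bool.and_eq_true] at h
      rcases List.mem_cons.1 hj with rfl | hj
      exacts [ih1 h.1 _ List.mem_cons_self, ih2 h.2 j hj]
  | cong P s v per =>
    intro js h j hj
    rcases js with _ | ⟨x, _ | ⟨y, ys⟩⟩ <;> simp only [Tree.check, Bool.false_eq_true] at h
    rw [List.mem_singleton] at hj
    subst hj
    exact congTest_sound h
  | solve a b c i kid ih =>
    intro js h j hj
    rcases js with _ | ⟨x, _ | ⟨y, ys⟩⟩ <;> simp only [Tree.check, Bool.false_eq_true] at h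
    rw [List.mem_singleton] at hj
    subst hj
    split at h
    · rename_i ks hks
      exact solve_sound hks (ih h)
    · simp at h
  | split la mu bounds kids ih =>
    intro js h j hj
    rcases js with _ | ⟨x, _ | ⟨y, ys⟩⟩ <;> simp only [Tree.check, Bool.false_eq_true, Bool.and_eq_true] at h
    rw [List.mem_singleton] at hj
    subst hj
    exact split_sound h.1 (ih h.2)

end Cfsg.Agent.U34Block
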