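import Cfsg.Agent.Lib.U34Rec.BlockData
import Cfsg.Agent.Lib.U34Rec.BlockEnum
import Cfsg.Agent.Lib.U34Rec.BlockCert
import Cfsg.Agent.Lib.U34Rec.BlockTreeSound

/-!
There are no data of a principal 2-block of the type of `U₃(4)` without a nontrivial character `χ` with
`χ 1 + 3 χ z = 0`.

The rows are grouped into orbits of the Galois action; the orbits with their entries up to sign are among
finitely many, their combinations are the lists of units, and for these the certificates exclude solutions.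
-/

namespace Cfsg.Agent.U34Block

/-- A sum over a finite set stable under a permutation is a sum over representatives of pieces of orbits. -/
theorem exists_pieces {ι : Type*} [Fintype ι] (σ : Equiv.Perm ι) (per : ι → ℕ)
    (hdvd : ∀ i L, σ^[L] i = i → per i ∣ L) :
    ∀ s : Finset ι, (∀ x ∈ s, σ x ∈ s) →
      ∃ l : List ι, ∀ {α : Type} [AddCommMonoid α] (f : ι → α), (∀ i, f (σ i) = f i) →
        ∑ i ∈ s, f i = (l.map fun i => per i • f i).sum := by
  classical
  intro s
  induction s using Finset.strongInduction with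
  | _ s ih =>
    intro hs
    rcases s.eq_empty_or_nonempty with rfl | ⟨i, hi⟩
    · exact ⟨[], fun f _ => by simp⟩
    set L := Function.minimalPeriod σ i with hL
    have hLpos : 0 < L := Function.minimalPeriod_pos_of_mem_periodicPts (σ.injective.mem_periodicPts i)
    set O := (Finset.range L).image fun k => σ^[k] i with hO
    have hmem : ∀ k, σ^[k] i ∈ s := fun k => by
      induction k with
      | zero => exact hi
      | succ k ihk => rw [Function.iterate_succ_apply']; exact hs _ ihk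
    have hOs : O ⊆ s := fun x hx => by
      obtain ⟨k, -, rfl⟩ := Finset.mem_image.1 hx
      exact hmem k
    have hin : ∀ k, σ^[k] i ∈ O := fun k => Finset.mem_image.2
      ⟨k % L, Finset.mem_range.2 (Nat.mod_lt _ hLpos), Function.iterate_mod_minimalPeriod_eq⟩
    have hiO : i ∈ O := hin 0
    have hss : s \ O ⊂ s := Finset.sdiff_ssubset hOs ⟨i, hiO⟩
    have hclosed : ∀ x ∈ s \ O, σ x ∈ s \ O := fun x hx => by
      rw [Finset.mem_sdiff] at hx ⊢
      refine ⟨hs x hx.1, fun hxO => hx.2 ?_⟩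
      obtain ⟨k, -, hk⟩ := Finset.mem_image.1 hxO
      have e : σ (σ^[k + L - 1] i) = σ x := by
        rw [← Function.iterate_succ_apply' σ (k + L - 1), Nat.succ_eq_add_one,
          Nat.sub_add_cancel (by omega), Function.iterate_add_apply, Function.iterate_minimalPeriod, hk]
      exact σ.injective e ▸ hin _
    obtain ⟨l, hl⟩ := ih (s \ O) hss hclosed
    obtain ⟨q, hq⟩ := hdvd i L Function.iterate_minimalPeriod
    refine ⟨List.replicate q i ++ l, fun {α} _ f hf => ?_⟩
    have hfk : ∀ k, f (σ^[k] i) = f i := fun k => by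
      induction k with
      | zero => rfl
      | succ k ihk => rw [Function.iterate_succ_apply', hf, ihk]
    have hcard : O.card = L := by
      rw [Finset.card_image_of_injOn, Finset.card_range]
      exact Function.iterate_injOn_Iio_minimalPeriod.mono fun k hk => by simpa using hk
    have hsum : ∑ x ∈ O, f x = (q * per i) • f i := by
      rw [Finset.sum_eq_card_nsmul (b := f i), hcard, hq, mul_comm]
      intro x hx
      obtain ⟨k, -, rfl⟩ := Finset.mem_image.1 hx
      exact hfk k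
    rw [← Finset.sum_sdiff hOs, hsum, hl f hf, List.map_append, List.sum_append, List.map_replicate,
      List.sum_replicate, mul_smul, add_comm]

theorem exists_perm_map {α β : Type*} (f : α → β) : ∀ {t : List β} {l : List α}, (l.map f).Perm t →
    ∃ q, l.Perm q ∧ q.map f = t
  | [], l, h => ⟨[], by simpa using h, rfl⟩
  | b :: t, l, h => by
    obtain ⟨x, hx, rfl⟩ := List.mem_map.1 (h.symm.mem_iff.1 List.mem_cons_self)
    obtain ⟨l1, l2, rfl⟩ := List.append_of_mem hx
    have hp : (l1 ++ x :: l2).Perm (x :: (l1 ++ l2)) := List.perm_middle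
    obtain ⟨q, hq, hq'⟩ := exists_perm_map f (t := t) (l := l1 ++ l2) (List.Perm.cons_inv (hp.map f |>.symm.trans h))
    exact ⟨x :: q, hp.trans (hq.cons x), by simp [hq']⟩

theorem sum_filter_of_zero {α β : Type*} [AddCommMonoid β] (p : α → Bool) (g : α → β) :
    ∀ (l : List α), (∀ x, p x = false → g x = 0) → ((l.filter p).map g).sum = (l.map g).sum
  | [], _ => rfl
  | x :: l, h => by
    rcases hp : p x with _ | _
    · simp [hp, sum_filter_of_zero p g l h, h x hp]
    · simp [hp, sum_filter_of_zero p g l h]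

theorem foldl_sub : ∀ (l : List Orb) (R : Res), l.foldl Res.sub R =
    ⟨R.g00 - (l.map fun u : Orb => (u.n : ℤ) * (u.r0 * u.r0)).sum, R.g0S - (l.map fun u : Orb => (u.n : ℤ) * (u.r0 * u.S)).sum,
      R.g0e - (l.map fun u : Orb => (u.n : ℤ) * (u.r0 * u.e)).sum, R.gSS - (l.map fun u : Orb => (u.n : ℤ) * (u.S * u.S)).sum,
      R.gSe - (l.map fun u : Orb => (u.n : ℤ) * (u.S * u.e)).sum, R.gee - (l.map fun u : Orb => (u.n : ℤ) * (u.e * u.e)).sum,
      R.gA - (l.map fun u => u.A).sum, R.gB - (l.map fun u => u.B).sum⟩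
  | [], R => by simp
  | u :: l, R => by
    rw [List.foldl_cons, foldl_sub l]
    ext <;> simp only [Res.sub, List.map_cons, List.sum_cons] <;> ring

theorem quadPer_cases (a b c d : ℤ) : quadPer a b c d ∣ 4 ∧ 0 < quadPer a b c d ∧
    (a = d → b = c → quadPer a b c d ∣ 2) ∧ (a = b → a = c → a = d → quadPer a b c d = 1) := by
  unfold quadPer
  split_ifs with h1 h2
  · exact ⟨one_dvd _, Nat.one_pos, fun _ _ => one_dvd _, fun _ _ _ => rfl⟩
  · refine ⟨by norm_num, by norm_num, fun _ _ => dvd_rfl, fun e1 e2 e3 => ?_⟩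
    subst e1 e2 e3
    simp at h1
  · refine ⟨dvd_rfl, by norm_num, fun e1 e2 => ?_, fun e1 e2 e3 => ?_⟩
    · subst e1 e2
      simp at h2
    · subst e1 e2 e3
      simp at h1

theorem quadPer_shift (a b c d : ℤ) : quadPer b d a c = quadPer a b c d := by
  unfold quadPer
  split_ifs <;> simp_all <;> omega

theorem allUnits_m : ∀ t ∈ allUnits, ∀ u ∈ t, u.m = 0 := by
  have key : allUnits.all (fun t => t.all fun u => Nat.beq u.m 0) = true := by decide +kernel
  exact fun t ht u hu => Nat.eq_of_beq_eq_true (List.all_eq_true.1 (List.all_eq_true.1 key t ht) u hu)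

namespace BlockData

variable {ι : Type*} [Fintype ι] (D : BlockData ι)

/-- The length assigned to a row. -/
def per (i : ι) : ℕ := quadPer (D.r i 1) (D.r i 2) (D.r i 3) (D.r i 4)

/-- The sum of the four conjugate entries. -/
def tot (i : ι) : ℤ := D.r i 1 + D.r i 2 + D.r i 3 + D.r i 4

/-- The square of the alternating sum. -/
def altSq (i : ι) : ℤ := (D.r i 1 - D.r i 2 - D.r i 3 + D.r i 4) * (D.r i 1 - D.r i 2 - D.r i 3 + D.r i 4)

/-- The squares of the differences. -/
def diffSq (i : ι) : ℤ := (D.r i 1 - D.r i 4) * (D.r i 1 - D.r i 4) + (D.r i 2 - D.r i 3) * (D.r i 2 - D.r i 3)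

/-- The orientation of a row. -/
def sgn (i : ι) : ℤ := if negTriple (D.r i 0) (D.tot i) (D.r i 5) then -1 else 1

/-- The orbit piece of a row. -/
def orb (i : ι) : Orb :=
  ⟨D.per i, D.sgn i * D.r i 0, D.sgn i * D.tot i, D.sgn i * D.r i 5, D.per i * D.altSq i, D.per i * D.diffSq i⟩

/-- The unit of a row. -/
def unit (i : ι) : Un := ⟨D.per i, D.sgn i * D.r i 0, D.sgn i * D.tot i, D.sgn i * D.r i 5, 0⟩

theorem sgn_cases (i : ι) : D.sgn i = 1 ∨ D.sgn i = -1 := by
  unfold sgn; split <;> simp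

theorem gal_0 (i : ι) : D.r (D.gal i) 0 = D.r i 0 := D.gal_row i 0
theorem gal_5 (i : ι) : D.r (D.gal i) 5 = D.r i 5 := D.gal_row i 5
theorem gal_1 (i : ι) : D.r (D.gal i) 1 = D.r i 2 := D.gal_row i 1
theorem gal_2 (i : ι) : D.r (D.gal i) 2 = D.r i 4 := D.gal_row i 2
theorem gal_3 (i : ι) : D.r (D.gal i) 3 = D.r i 1 := D.gal_row i 3
theorem gal_4 (i : ι) : D.r (D.gal i) 4 = D.r i 3 := D.gal_row i 4

theorem gal_tot (i : ι) : D.tot (D.gal i) = D.tot i := by
  simp only [tot, gal_1, gal_2, gal_3, gal_4]; ring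

theorem gal_altSq (i : ι) : D.altSq (D.gal i) = D.altSq i := by
  simp only [altSq, gal_1, gal_2, gal_3, gal_4]; ring

theorem gal_diffSq (i : ι) : D.diffSq (D.gal i) = D.diffSq i := by
  simp only [diffSq, gal_1, gal_2, gal_3, gal_4]; ring

theorem gal_rowUnit (i : ι) : rowUnit (D.r (D.gal i)) = rowUnit (D.r i) := by
  have := D.gal_tot i
  simp only [tot] at this
  simp only [rowUnit, this, gal_0, gal_5]

theorem iterate_row (i : ι) : ∀ (L : ℕ) (k : Fin 6), D.r (D.gal^[L] i) k = D.r i (rot^[L] k)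
  | 0, _ => rfl
  | L + 1, k => by
    rw [Function.iterate_succ_apply', D.gal_row, iterate_row i L, ← Function.iterate_succ_apply]

theorem per_dvd (i : ι) (L : ℕ) (h : D.gal^[L] i = i) : D.per i ∣ L := by
  have h4 : rot^[4] = id := by decide
  have e : ∀ k, D.r i (rot^[L % 4] k) = D.r i k := fun k => by
    have hk : rot^[L % 4] k = rot^[L] k := by
      conv_rhs => rw [← Nat.mod_add_div L 4, Function.iterate_add, Function.iterate_mul, h4,
        Function.iterate_id, Function.comp_id]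
    rw [hk, ← D.iterate_row, h]
  obtain ⟨h4', -, h2, h1⟩ := quadPer_cases (D.r i 1) (D.r i 2) (D.r i 3) (D.r i 4)
  have e1 := e 1
  have e2 := e 2
  have e3 := e 3
  have e4' := e 4
  obtain hr | hr | hr | hr : L % 4 = 0 ∨ L % 4 = 1 ∨ L % 4 = 2 ∨ L % 4 = 3 := by omega
  · exact h4'.trans (Nat.dvd_of_mod_eq_zero hr)
  all_goals rw [hr] at e1 e2 e3 e4'
  · change D.r i 2 = _ at e1
    change D.r i 4 = _ at e2
    change D.r i 1 = _ at e3
    rw [per, h1 e1.symm e3 (e2.trans e1).symm]
    exact one_dvd _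
  · change D.r i 4 = _ at e1
    change D.r i 3 = _ at e2
    exact (h2 e1.symm e2.symm).trans (by omega)
  · change D.r i 3 = _ at e1
    change D.r i 1 = _ at e2
    change D.r i 2 = _ at e4'
    rw [per, h1 e2 e1.symm (e2.trans e4')]
    exact one_dvd _

theorem gram_bilin (w z : Fin 6 → ℤ) :
    ∑ i, (∑ j, w j * D.r i j) * (∑ k, z k * D.r i k) = ∑ j, ∑ k, w j * z k * gram j k := by
  simp only [← D.gram_eq, Finset.mul_sum, Finset.sum_mul]
  rw [Finset.sum_comm]
  conv_lhs => arg 2; ext j; rw [Finset.sum_comm]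
  rw [Finset.sum_comm]
  refine Finset.sum_congr rfl fun j _ => Finset.sum_congr rfl fun k _ => Finset.sum_congr rfl fun i _ => ?_
  ring

theorem gram_sum (w z : Fin 6 → ℤ) (v : ℤ) (hv : ∑ j, ∑ k, w j * z k * gram j k = v) (f : ι → ℤ)
    (hf : ∀ i, f i = (∑ j, w j * D.r i j) * (∑ k, z k * D.r i k)) : ∑ i, f i = v := by
  rw [← hv, ← D.gram_bilin w z]
  exact Finset.sum_congr rfl fun i _ => hf i

theorem sum_altSq : ∑ i, D.altSq i = 16 :=
  D.gram_sum ![0, 1, -1, -1, 1, 0] ![0, 1, -1, -1, 1, 0] 16 (by decide +kernel) _ fun i => by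
    simp [altSq, Fin.sum_univ_six]; ring

theorem sum_diffSq : ∑ i, D.diffSq i = 16 := by
  have h1 : ∑ i, (D.r i 1 - D.r i 4) * (D.r i 1 - D.r i 4) = 8 :=
    D.gram_sum ![0, 1, 0, 0, -1, 0] ![0, 1, 0, 0, -1, 0] 8 (by decide +kernel) _ fun i => by
      simp [Fin.sum_univ_six]; ring
  have h2 : ∑ i, (D.r i 2 - D.r i 3) * (D.r i 2 - D.r i 3) = 8 :=
    D.gram_sum ![0, 0, 1, -1, 0, 0] ![0, 0, 1, -1, 0, 0] 8 (by decide +kernel) _ fun i => by
      simp [Fin.sum_univ_six]; ring
  simp only [diffSq, Finset.sum_add_distrib, h1, h2]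
  norm_num

theorem sum_tot_sq : ∑ i, D.tot i * D.tot i = 208 :=
  D.gram_sum ![0, 1, 1, 1, 1, 0] ![0, 1, 1, 1, 1, 0] 208 (by decide +kernel) _ fun i => by
    simp [tot, Fin.sum_univ_six]

theorem sum_r0_tot : ∑ i, D.r i 0 * D.tot i = 48 :=
  D.gram_sum ![1, 0, 0, 0, 0, 0] ![0, 1, 1, 1, 1, 0] 48 (by decide +kernel) _ fun i => by
    simp [tot, Fin.sum_univ_six]

theorem sum_tot_r5 : ∑ i, D.tot i * D.r i 5 = 0 :=
  D.gram_sum ![0, 1, 1, 1, 1, 0] ![0, 0, 0, 0, 0, 1] 0 (by decide +kernel) _ fun i => by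
    simp [tot, Fin.sum_univ_six]

theorem sq_le_of_sum {f : ι → ℤ} {v : ℤ} (hf : ∑ i, f i = v) (h0 : ∀ i, 0 ≤ f i) (i : ι) : f i ≤ v :=
  hf ▸ Finset.single_le_sum (fun j _ => h0 j) (Finset.mem_univ i)

theorem sum_lin_tot : ∑ i, D.M i * D.tot i = 12 := by
  simp only [tot, mul_add, Finset.sum_add_distrib, D.lin]
  rfl

theorem diffSq_nonneg (i : ι) : 0 ≤ D.diffSq i := add_nonneg (mul_self_nonneg _) (mul_self_nonneg _)

theorem exists_orbits : ∃ l : List ι, ∀ {α : Type} [AddCommMonoid α] (f : ι → α),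
    (∀ i, f (D.gal i) = f i) → ∑ i, f i = (l.map fun i => D.per i • f i).sum := by
  refine exists_pieces D.gal D.per D.per_dvd Finset.univ fun x _ => Finset.mem_univ _

theorem orb_eq (i : ι) :
    D.orb i = mkOrb (D.per i) (D.r i 0) (D.tot i) (D.r i 5) (D.per i * D.altSq i) (D.per i * D.diffSq i) := by
  unfold orb mkOrb sgn
  split <;> simp

theorem orb_mem (i : ι) (hA : (D.per i : ℤ) * D.altSq i ≤ 16) (hB : (D.per i : ℤ) * D.diffSq i ≤ 16)
    (hok : (Res.target.sub (D.orb i)).ok = true) : D.orb i ∈ orbs := by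
  have ha := sq_le_of_sum (D.gram_eq 1 1) (fun i => mul_self_nonneg (D.r i 1)) i
  have hb := sq_le_of_sum (D.gram_eq 2 2) (fun i => mul_self_nonneg (D.r i 2)) i
  have h0 := sq_le_of_sum (D.gram_eq 0 0) (fun i => mul_self_nonneg (D.r i 0)) i
  have h5 := sq_le_of_sum (D.gram_eq 5 5) (fun i => mul_self_nonneg (D.r i 5)) i
  have hx := sq_le_of_sum (D.gram_sum ![0, -1, 0, 0, 1, 0] ![0, -1, 0, 0, 1, 0] 8 (by decide +kernel)
    (fun i => (D.r i 4 - D.r i 1) * (D.r i 4 - D.r i 1)) fun i => by simp [Fin.sum_univ_six]; ring)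
    (fun i => mul_self_nonneg (D.r i 4 - D.r i 1)) i
  have hy := sq_le_of_sum (D.gram_sum ![0, 0, -1, 1, 0, 0] ![0, 0, -1, 1, 0, 0] 8 (by decide +kernel)
    (fun i => (D.r i 3 - D.r i 2) * (D.r i 3 - D.r i 2)) fun i => by simp [Fin.sum_univ_six]; ring)
    (fun i => mul_self_nonneg (D.r i 3 - D.r i 2)) i
  have g1 : gram 1 1 = 16 := rfl
  have g2 : gram 2 2 = 16 := rfl
  have g0 : gram 0 0 = 15 := rfl
  have g5 : gram 5 5 = 15 := rfl
  rw [g1] at ha; rw [g2] at hb; rw [g0] at h0; rw [g5] at h5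
  set q : ℕ × ℤ × ℤ × ℤ := (D.per i, D.tot i, D.per i * D.altSq i, D.per i * D.diffSq i) with hq
  have hqm : q ∈ quads := by
    simp only [quads, List.mem_flatMap]
    refine ⟨D.r i 1, ?_, D.r i 2, ?_, D.r i 4 - D.r i 1, ?_, D.r i 3 - D.r i 2, ?_, ?_⟩
    · have : -5 < D.r i 1 := by nlinarith
      have : D.r i 1 < 5 := by nlinarith
      simp only [range4, List.mem_cons, List.not_mem_nil, or_false]
      omega
    · have : -5 < D.r i 2 := by nlinarith
      have : D.r i 2 < 5 := by nlinarith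
      simp only [range4, List.mem_cons, List.not_mem_nil, or_false]
      omega
    · have : -3 < D.r i 4 - D.r i 1 := by nlinarith
      have : D.r i 4 - D.r i 1 < 3 := by nlinarith
      simp only [range2, List.mem_cons, List.not_mem_nil, or_false]
      omega
    · have : -3 < D.r i 3 - D.r i 2 := by nlinarith
      have : D.r i 3 - D.r i 2 < 3 := by nlinarith
      simp only [range2, List.mem_cons, List.not_mem_nil, or_false]
      omega
    · simp only [add_sub_cancel]
      rw [if_pos (Bool.and_eq_true_iff.2 ⟨decide_eq_true (by exact hA), decide_eq_true (by exact hB)⟩)]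
      exact List.mem_singleton.2 rfl
  have hr3 : ∀ z : ℤ, z * z ≤ 15 → z ∈ range3 := fun z hz => by
    have : -4 < z := by nlinarith
    have : z < 4 := by nlinarith
    simp only [range3, List.mem_cons, List.not_mem_nil, or_false]
    omega
  have key := List.all_eq_true.1 orbs_complete q hqm
  have key := List.all_eq_true.1 (List.all_eq_true.1 key (D.r i 0) (hr3 _ h0)) (D.r i 5) (hr3 _ h5)
  simp only [hq, ← orb_eq, hok, Bool.not_true, Bool.or_false, Bool.or_eq_true, Bool.and_eq_true,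
    Bool.not_eq_true', decide_eq_false_iff_not, decide_eq_true_eq, List.any_eq_true] at key
  rcases key with (hc | ⟨⟨⟨⟨z0, z5⟩, zS⟩, zA⟩, zB⟩) | ⟨u, hu, hbeq⟩
  · exfalso
    have := D.congr i
    simp only [rowUnit, Un.a] at this
    simp only [tot] at hc
    omega
  · exfalso
    have hn : (D.per i : ℤ) ≠ 0 := Int.natCast_ne_zero.2 (quadPer_cases _ _ _ _).2.1.ne'
    have za : D.r i 1 - D.r i 2 - D.r i 3 + D.r i 4 = 0 :=
      mul_self_eq_zero.1 ((mul_eq_zero.1 zA).resolve_left hn)
    have zd : (D.r i 1 - D.r i 4) * (D.r i 1 - D.r i 4) + (D.r i 2 - D.r i 3) * (D.r i 2 - D.r i 3) = 0 :=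
      (mul_eq_zero.1 zB).resolve_left hn
    have z14 : D.r i 1 - D.r i 4 = 0 := mul_self_eq_zero.1
      (le_antisymm (by linarith [mul_self_nonneg (D.r i 2 - D.r i 3)]) (mul_self_nonneg _))
    have z23 : D.r i 2 - D.r i 3 = 0 := mul_self_eq_zero.1
      (le_antisymm (by linarith [mul_self_nonneg (D.r i 1 - D.r i 4)]) (mul_self_nonneg _))
    simp only [tot] at zS
    apply D.row_ne i
    funext k
    fin_cases k <;> simp <;> omega
  · simp only [Orb.beq, Bool.and_eq_true, Nat.beq_eq, decide_eq_true_eq] at hbeq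
    obtain ⟨⟨⟨⟨⟨e1, e2⟩, e3⟩, e4⟩, e5⟩, e6⟩ := hbeq
    have : D.orb i = u := by
      obtain ⟨n, a, b, c, A, B⟩ := u
      simp only at e1 e2 e3 e4 e5 e6
      subst e1 e2 e3 e4 e5 e6
      rfl
    exact this ▸ hu

theorem unit_ok (i : ι) : (D.unit i).ok (D.sgn i * D.M i) = true := by
  have hF := D.degree_ne i
  have hfix := D.fixed_ne i
  have habs := D.abs_le i
  have hp := D.pos i
  have hn := D.neg i
  have eF : (D.unit i).F (D.sgn i * D.M i) = D.sgn i * (rowUnit (D.r i)).F (D.M i) := by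
    simp only [unit, rowUnit, Un.F, Un.K, Un.a, tot]; ring
  have ea : (D.unit i).a = D.sgn i * (rowUnit (D.r i)).a := by
    simp only [unit, rowUnit, Un.a, tot]; ring
  have ee : (D.unit i).e = D.sgn i * D.r i 5 := rfl
  have em : (D.unit i).m = 0 := rfl
  simp only [Un.ok, eF, ea, ee, em, Bool.and_eq_true, Bool.not_eq_true', Nat.ble_eq]
  set F := (rowUnit (D.r i)).F (D.M i)
  set a := (rowUnit (D.r i)).a
  rw [Int.abs_eq_natAbs, Int.abs_eq_natAbs] at habs
  refine ⟨⟨⟨⟨Nat.zero_le _, ?_⟩, ?_⟩, ?_⟩, ?_⟩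
  · refine Bool.eq_false_iff.2 fun e => hfix ?_
    have := Nat.eq_of_beq_eq_true e
    rcases D.sgn_cases i with hs | hs <;> simp only [hs] at this <;> omega
  · refine Bool.eq_false_iff.2 fun e => hF ?_
    have := Nat.eq_of_beq_eq_true e
    rcases D.sgn_cases i with hs | hs <;> simp only [hs] at this <;> omega
  · rcases D.sgn_cases i with hs | hs <;> simp only [hs] <;> omega
  · have hsplit : ∀ z : ℤ, (0 ≤ z → 0 ≤ D.sgn i * D.M i ∧ 0 ≤ D.sgn i * D.M i + D.sgn i * D.r i 5) →
        (z < 0 → D.sgn i * D.M i ≤ 0 ∧ D.sgn i * D.M i + D.sgn i * D.r i 5 ≤ 0) →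
        (match z with
          | .ofNat _ => decide (0 ≤ D.sgn i * D.M i) && decide (0 ≤ D.sgn i * D.M i + D.sgn i * D.r i 5)
          | .negSucc _ => decide (D.sgn i * D.M i ≤ 0) && decide (D.sgn i * D.M i + D.sgn i * D.r i 5 ≤ 0)) =
          true := fun z h1 h2 => by
      obtain k | k := z
      · simp only [Bool.and_eq_true, decide_eq_true_eq]
        exact h1 (by simp)
      · simp only [Bool.and_eq_true, decide_eq_true_eq]
        exact h2 (Int.negSucc_lt_zero k)
    refine hsplit _ (fun h => ?_) fun h => ?_ <;> rcases D.sgn_cases i with hs | hs <;> rw [hs] at h ⊢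
    · have := hp (by omega); omega
    · have := hn (by omega); omega
    · have := hn (by omega); omega
    · have := hp (by omega); omega

theorem unit_term (i : ι) (c : Un → ℤ)
    (hc : c (D.unit i) = D.per i * D.sgn i * c (rowUnit (D.r i))) :
    (c (D.unit i) : ℚ) / ((D.unit i).F (D.sgn i * D.M i) : ℚ) =
      D.per i • ((c (rowUnit (D.r i)) : ℚ) / (rowUnit (D.r i)).F (D.M i)) := by
  have eF : (D.unit i).F (D.sgn i * D.M i) = D.sgn i * (rowUnit (D.r i)).F (D.M i) := by
    simp only [unit, rowUnit, Un.F, Un.K, Un.a, tot]; ring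
  rw [hc, eF, nsmul_eq_mul]
  rcases D.sgn_cases i with hs | hs <;> rw [hs] <;> push_cast <;> ring

include D in
/-- There are no such data. -/
theorem absurd : False := by
  obtain ⟨l, hl⟩ := D.exists_orbits
  have sumZ : ∀ (f : ι → ℤ) (v : ℤ), (∀ i, f (D.gal i) = f i) → ∑ i, f i = v →
      (l.map fun i => (D.per i : ℤ) * f i).sum = v := fun f v hf hv => by
    rw [← hv, hl f hf]
    simp only [nsmul_eq_mul]
  have sq : ∀ i (x y : ℤ), D.sgn i * x * (D.sgn i * y) = x * y := fun i x y => by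
    rcases D.sgn_cases i with hs | hs <;> rw [hs] <;> ring
  have hA := sumZ D.altSq 16 D.gal_altSq D.sum_altSq
  have hB := sumZ D.diffSq 16 D.gal_diffSq D.sum_diffSq
  have hfits : Fits (l.map D.orb) Res.target := by
    simp only [Fits, foldl_sub, List.map_map, Function.comp_def, Res.target, Res.zero, orb, sq, hA, hB]
    rw [sumZ _ 15 (fun i => by simp only [gal_0]) (D.gram_eq 0 0),
      sumZ _ 48 (fun i => by simp only [gal_0, gal_tot]) D.sum_r0_tot,
      sumZ _ (-1) (fun i => by simp only [gal_0, gal_5]) (D.gram_eq 0 5),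
      sumZ _ 208 (fun i => by simp only [gal_tot]) D.sum_tot_sq,
      sumZ _ 0 (fun i => by simp only [gal_tot, gal_5]) D.sum_tot_r5,
      sumZ _ 15 (fun i => by simp only [gal_5]) (D.gram_eq 5 5)]
    norm_num
  have hAn : ∀ i, 0 ≤ (D.per i : ℤ) * D.altSq i := fun i => mul_nonneg (Int.natCast_nonneg _) (mul_self_nonneg _)
  have hBn : ∀ i, 0 ≤ (D.per i : ℤ) * D.diffSq i := fun i => mul_nonneg (Int.natCast_nonneg _) (D.diffSq_nonneg i)
  have le16 : ∀ g : ι → ℤ, (∀ i, 0 ≤ g i) → (l.map g).sum = 16 → ∀ i ∈ l, g i ≤ 16 := fun g hg hs i hi =>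
    hs ▸ List.single_le_sum (fun x hx => by obtain ⟨j, -, rfl⟩ := List.mem_map.1 hx; exact hg j) _
      (List.mem_map.2 ⟨i, hi, rfl⟩)
  have hmem : ∀ u ∈ l.map D.orb, u ∈ orbs := fun u hu => by
    obtain ⟨i, hi, rfl⟩ := List.mem_map.1 hu
    refine D.orb_mem i (le16 _ hAn hA i hi) (le16 _ hBn hB i hi) ?_
    obtain ⟨l1, l2, rfl⟩ := List.append_of_mem hi
    refine Fits.ok (l := (l1 ++ l2).map D.orb) (hfits.perm ((List.perm_middle).map D.orb)) fun v hv => ?_
    obtain ⟨j, -, rfl⟩ := List.mem_map.1 hv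
    exact ⟨hAn j, hBn j⟩
  obtain ⟨t, ht, hperm⟩ := isListed_of_fits hmem hfits
  set live := fun i => (D.orb i).live with hlive
  have hperm' : (((l.filter live).map D.unit).map Un.key).Perm (t.map Un.key) := by
    refine List.Perm.trans (List.Perm.of_eq ?_) hperm
    rw [List.filter_map, List.map_map, List.map_map]
    rfl
  have hfix : ∀ u : Un, u.m = 0 → (⟨u.key.1, u.key.2.1, u.key.2.2.1, u.key.2.2.2, 0⟩ : Un) = u := by
    rintro ⟨n, a, b, c, m⟩ (rfl : m = 0)
    rfl
  have hperm'' : ((l.filter live).map D.unit).Perm t := by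
    have hback : ∀ us : List Un, (∀ u ∈ us, u.m = 0) →
        (us.map Un.key).map (fun k => (⟨k.1, k.2.1, k.2.2.1, k.2.2.2, 0⟩ : Un)) = us := fun us hus => by
      rw [List.map_map]
      exact (List.map_congr_left fun u hu => hfix u (hus u hu)).trans (List.map_id us)
    have := hperm'.map fun k => (⟨k.1, k.2.1, k.2.2.1, k.2.2.2, 0⟩ : Un)
    rwa [hback t (allUnits_m t ht), hback _ fun u hu => by
      obtain ⟨j, -, rfl⟩ := List.mem_map.1 hu; rfl] at this
  obtain ⟨q, hq, hqt⟩ := exists_perm_map D.unit hperm''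
  obtain ⟨tree, htree⟩ := allUnits_checked t ht
  have key : ∀ {β : Type} [AddCommMonoid β] (g : ι → β) (f : ι → β), (∀ i, live i = false → g i = 0) →
      (∀ i, g i = D.per i • f i) → (∀ i, f (D.gal i) = f i) → (q.map g).sum = ∑ i, f i :=
    fun {β} _ g f h0 hg hf => by
      rw [← (hq.map g).sum_eq, sum_filter_of_zero live g l h0, hl f hf]
      exact congrArg List.sum (List.map_congr_left fun i _ => hg i)
  have hzero : ∀ i, live i = false → D.r i 0 = 0 ∧ D.tot i = 0 ∧ D.r i 5 = 0 := fun i h => by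
    simp only [hlive, Orb.live, Bool.not_eq_false', Bool.and_eq_true, decide_eq_true_eq] at h
    simp only [orb] at h
    rcases D.sgn_cases i with hs | hs <;> rw [hs] at h <;> omega
  refine Tree.sound tree htree (rootJob t) List.mem_cons_self
    ⟨q.map fun i => ((⟨D.unit i, 0, 0⟩ : Slot), D.sgn i * D.M i), ?_, ?_, ?_, ?_, ?_, ?_, ?_, ?_⟩
  · simp only [rootJob, ← hqt, List.map_map, Function.comp_def]
  · intro p hp
    obtain ⟨i, -, rfl⟩ := List.mem_map.1 hp
    refine slot_ok_iff.2 ⟨D.unit_ok i, fun h => by simpa using h, fun h => by simpa using h⟩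
  · simp [rootJob]
  all_goals simp only [rootJob, List.map_map, Function.comp_def]
  · rw [key _ (fun i => D.M i * D.r i 0) (fun i h => by simp [unit, (hzero i h).1])
      (fun i => by simp only [unit, nsmul_eq_mul, mul_assoc, mul_comm (D.M i)]; rw [← mul_assoc (D.sgn i), sq])
      (fun i => by simp only [gal_0, D.gal_M])]
    exact D.lin 0
  · rw [key _ (fun i => D.M i * D.tot i) (fun i h => by simp [unit, (hzero i h).2.1])
      (fun i => by simp only [unit, nsmul_eq_mul, mul_assoc, mul_comm (D.M i)]; rw [← mul_assoc (D.sgn i), sq])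
      (fun i => by simp only [gal_tot, D.gal_M])]
    exact D.sum_lin_tot
  · rw [key _ (fun i => D.M i * D.r i 5) (fun i h => by simp [unit, (hzero i h).2.2])
      (fun i => by simp only [unit, nsmul_eq_mul, mul_assoc, mul_comm (D.M i)]; rw [← mul_assoc (D.sgn i), sq])
      (fun i => by simp only [gal_5, D.gal_M])]
    exact D.lin 5
  · rw [key _ (fun i => ((rowUnit (D.r i)).c0 : ℚ) / (rowUnit (D.r i)).F (D.M i))
      (fun i h => by obtain ⟨z0, zS, z5⟩ := hzero i h; simp [unit, Un.c0, z0, zS, z5])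
      (fun i => D.unit_term i Un.c0 (by
        simp only [unit, rowUnit, Un.c0, Un.a, tot]
        rcases D.sgn_cases i with hs | hs <;> rw [hs] <;> push_cast <;> ring))
      (fun i => by simp only [D.gal_rowUnit, D.gal_M])]
    rw [D.id0]; norm_num
  · rw [key _ (fun i => ((rowUnit (D.r i)).c1 : ℚ) / (rowUnit (D.r i)).F (D.M i))
      (fun i h => by obtain ⟨z0, zS, z5⟩ := hzero i h; simp [unit, Un.c1, z0, zS, z5])
      (fun i => D.unit_term i Un.c1 (by
        simp only [unit, rowUnit, Un.c1, Un.a, tot]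
        rcases D.sgn_cases i with hs | hs <;> rw [hs] <;> push_cast <;> ring))
      (fun i => by simp only [D.gal_rowUnit, D.gal_M])]
    rw [D.id1]; norm_num

end BlockData

end Cfsg.Agent.U34Block
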