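import Cfsg.Agent.Lib.U34Rec.BlockIntegral

/-!
The block half: without a nontrivial character `χ` constant on the section of `z` over the core with
`χ 1 + 3 χ z = 0` the principal block would give data satisfying `BlockData`.
-/

set_option autoImplicit false
set_option linter.unusedSectionVars false
set_option linter.style.haveILetI false

namespace Cfsg.Agent.U34Block

open Cfsg Cfsg.Agent.SylowSplit Cfsg.Agent.Char Cfsg.Agent.Blocks
open scoped ComplexConjugate

universe u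

variable {G : Type u} [Group G] [Fintype G] {S : Sylow 2 G} {z x : G}

theorem exists_exponent_three (G : Type u) [Group G] [Fintype G] (h2 : 2 ∣ Nat.card G) :
    ∃ k : ℕ, k.Coprime (Nat.card G) ∧ k % 5 = 3 ∧ Odd k := by
  have h0 : Nat.card G ≠ 0 := Nat.card_pos.ne'
  set m := Nat.card G / 5 ^ (Nat.card G).factorization 5 with hm
  have hm5 : Nat.Coprime 5 m := Nat.coprime_ordCompl (by norm_num) h0
  obtain ⟨k, hk5, hkm⟩ := Nat.chineseRemainder hm5 3 1
  have h5 : k % 5 = 3 := hk5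
  have hc5 : Nat.Coprime k 5 := by
    rw [Nat.coprime_comm, Nat.Prime.coprime_iff_not_dvd (by norm_num)]
    omega
  have hcm : Nat.Coprime k m := by
    rw [Nat.coprime_iff_gcd_eq_one, Nat.ModEq.gcd_eq hkm, Nat.gcd_one_left]
  have hcard := Nat.ordProj_mul_ordCompl_eq_self (Nat.card G) 5
  have hc : k.Coprime (Nat.card G) := by
    rw [← hcard]
    exact Nat.Coprime.mul_right (hc5.pow_right _) hcm
  refine ⟨k, hc, h5, Nat.coprime_two_right.1 (hc.coprime_dvd_right h2)⟩

theorem two_part_pow (g : G) (k : ℕ) : tp (g ^ k) = tp g ^ k := by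
  obtain ⟨s, hs, hc, ⟨i, hi⟩, hodd⟩ := tp_spec g
  refine tp_eq ⟨s ^ k, ?_, hc.pow_pow k k, ?_, fun h => hodd (h.trans (orderOf_pow_dvd k))⟩
  · rw [← hc.mul_pow, hs]
  · obtain ⟨j, -, hj⟩ := (Nat.dvd_prime_pow Nat.prime_two).1 (hi ▸ orderOf_pow_dvd k)
    exact ⟨j, hj⟩

theorem two_elt_orderOf_pow {y : G} (hy : ∃ i, orderOf y = 2 ^ i) {k : ℕ} (hk : Odd k) :
    orderOf (y ^ k) = orderOf y := by
  obtain ⟨i, hi⟩ := hy
  refine Nat.Coprime.orderOf_pow ?_
  rw [hi]
  exact Nat.Coprime.pow_left i (Nat.coprime_two_left.2 hk)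

namespace Frame

variable (Fr : Frame S z x)
include Fr

theorem exponent_inverse {k : ℕ} (hk5 : k % 5 = 3) (j : Fin 6) (hj : (j : ℕ) < 5) :
    k * (rot j : ℕ) % 5 = (j : ℕ) % 5 := by
  rw [Nat.mul_mod, hk5]
  revert hj
  revert j
  decide

theorem rot_lt (j : Fin 6) : (rot j : ℕ) < 5 ↔ (j : ℕ) < 5 := by
  revert j
  decide

theorem test_pow {k : ℕ} (hk5 : k % 5 = 3) (hko : Odd k) (j : Fin 6) (g : G) :
    Fr.test (rot j) (g ^ k) = Fr.test j g := by
  classical
  set y := tp g with hy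
  have hyo : orderOf (y ^ k) = orderOf y := two_elt_orderOf_pow (tp_two_elt g) hko
  by_cases hj : (j : ℕ) < 5
  · rw [test, test, if_pos hj, if_pos ((Fr.rot_lt j).2 hj)]
    by_cases hc : IsConj y z
    · have hy2 : orderOf y = 2 := by
        obtain ⟨c, hcz⟩ := isConj_iff.1 hc
        rw [← BrauerSuzuki.orderOf_conj_eq c y, hcz]
        exact Fr.cfg.zord
      have hyk : y ^ k = y := by
        obtain ⟨m, rfl⟩ := hko
        rw [pow_succ, pow_mul, ← hy2, pow_orderOf_eq_one, one_pow, one_mul]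
      obtain ⟨c, hcz⟩ := isConj_iff.1 hc
      rw [lift_eq (fun d s hd => Fr.testZ_conj _ d s hd) (g := g ^ k) (k := c)
          (by rw [two_part_pow, ← hy, hyk, hcz]),
        lift_eq (fun d s hd => Fr.testZ_conj _ d s hd) hcz]
      obtain ⟨s, hs, hsc, -, -⟩ := tp_spec g
      rw [← hy] at hs hsc
      set s' := c * s * c⁻¹
      have hcs : Commute z s' := by
        have := hsc.map (MulAut.conj c).toMonoidHom
        simp only [MulEquiv.coe_toMonoidHom, MulAut.conj_apply, hcz] at this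
        exact this
      have e0 : c * g * c⁻¹ = z * s' := by rw [← hs, ← hcz]; simp only [s']; group
      have hsC : s' ∈ cz z := Subgroup.mem_centralizer_singleton_iff.2 hcs.eq.symm
      have e1 : c * g ^ k * c⁻¹ = z * s' ^ k := by
        rw [← conj_pow, e0, hcs.mul_pow]
        congr 1
        obtain ⟨m, rfl⟩ := hko
        rw [pow_succ, pow_mul, pow_two, mul_self_of_two Fr.cfg.zord, one_pow, one_mul]
      rw [e1, e0, inv_mul_cancel_left, inv_mul_cancel_left, testZ, testZ, dif_pos (pow_mem hsC k), dif_pos hsC,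
        show (⟨s' ^ k, pow_mem hsC k⟩ : cz z) = ⟨s', hsC⟩ ^ k from rfl, map_pow]
      have h5 := Fr.lin_five ⟨s', hsC⟩
      generalize Fr.lin ⟨s', hsC⟩ = w at h5
      by_cases hw : w = 1
      · simp [wt, hw]
      · have hwk : w ^ k ≠ 1 := by
          intro e
          apply hw
          have h3 : w ^ (k % 5) = 1 := by rw [← pow_eq_pow_mod _ h5]; exact e
          rw [hk5] at h3
          calc w = (w ^ 3) ^ 2 * (w ^ 5)⁻¹ := by group
            _ = 1 := by rw [h3, h5, one_pow, inv_one, mul_one]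
        simp only [wt, if_neg hw, if_neg hwk, Units.val_pow_eq_pow_val, ← pow_mul]
        congr 1
        rw [← Units.val_pow_eq_pow_val, ← Units.val_pow_eq_pow_val, pow_eq_pow_mod _ h5,
          Fr.exponent_inverse hk5 j hj, ← pow_eq_pow_mod _ h5]
    · rw [lift_eq_zero hc, lift_eq_zero]
      rw [two_part_pow, ← hy]
      intro hcz
      refine hc (Fr.cfg.invol y ?_).symm
      obtain ⟨c, hc'⟩ := isConj_iff.1 hcz
      rw [← hyo, ← BrauerSuzuki.orderOf_conj_eq c (y ^ k), hc']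
      exact Fr.cfg.zord
  · obtain rfl : j = 5 := Fin.ext (by have := j.2; show (j : ℕ) = 5; omega)
    rw [show rot 5 = 5 from rfl, test, if_neg hj]
    have hiff : ∀ w : G, IsConj w x ↔ orderOf w = 4 := fun w => by
      refine ⟨fun h => ?_, fun h => Fr.cfg.conjFour w x h Fr.xord⟩
      obtain ⟨c, hc⟩ := isConj_iff.1 h
      rw [← BrauerSuzuki.orderOf_conj_eq c w, hc]
      exact Fr.xord
    by_cases hc : IsConj y x
    · obtain ⟨c, hc1⟩ := isConj_iff.1 hc
      obtain ⟨c', hc2⟩ := isConj_iff.1 (((hiff _).2 (hyo.trans ((hiff y).1 hc))) : IsConj (y ^ k) x)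
      rw [lift_eq (fun _ _ _ => rfl) (g := g ^ k) (k := c') (by rw [two_part_pow, ← hy, hc2]),
        lift_eq (fun _ _ _ => rfl) hc1]
    · rw [lift_eq_zero hc, lift_eq_zero]
      rw [two_part_pow, ← hy, hiff, hyo, ← hiff]
      exact hc

variable {J : Ideal AlgInt} [J.IsPrime] (hJ : IsPModular 2 J)
include hJ

/-- The data. -/
theorem exists_data
    (hno : ¬ ∃ χ : IrrCharacter G, (∀ y ∈ oddPart z, (χ : G → ℂ) (z * y) = (χ : G → ℂ) z) ∧
      (χ : G → ℂ) 1 + 3 * (χ : G → ℂ) z = 0) :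
    ∃ (ι : Type u) (_ : Fintype ι), Nonempty (BlockData ι) := by
  classical
  choose R hR using fun χ j => Fr.row_int hJ χ j
  choose av ev Mv hvz hvx hv1 hM hMe hcg hpos habs using fun χ => Fr.cfg.values χ Fr.xord
  have hblock : ∀ χ, (∃ j, R χ j ≠ 0) → χ ∈ principalBlock J G := fun χ ⟨j, hj⟩ => by
    by_contra h
    exact hj (by exact_mod_cast (hR χ j).symm.trans (Fr.row_outside hJ h j))
  have hconst : ∀ χ, χ ∈ principalBlock J G → ∀ y ∈ oddPart z, (χ : G → ℂ) (z * y) = (χ : G → ℂ) z := by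
    rintro χ hχ _ ⟨y, hy, rfl⟩
    haveI : Fintype (cz z) := Fintype.ofFinite _
    exact irr_section_of_kernel hJ Fr.two_z rfl hχ (pPrimeCore 2 (cz z)) (odd_core z) hy
  have hsum : ∀ χ, χ ∈ principalBlock J G → R χ 0 + R χ 1 + R χ 2 + R χ 3 + R χ 4 = av χ := fun χ hχ => by
    have h := Fr.row_sum hJ hχ
    rw [hR, hR, hR, hR, hR, hvz, map_intCast] at h
    exact_mod_cast h
  have he : ∀ χ, χ ∈ principalBlock J G → R χ 5 = ev χ := fun χ hχ => by
    have h := Fr.row_x hJ hχ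
    rw [hR, hvx, map_intCast] at h
    exact_mod_cast h
  have hp : ∀ j, R (Char.principal G) j = (![1, 0, 0, 0, 0, 1] : Fin 6 → ℤ) j := fun j => by
    have h := Fr.row_principal hJ j
    rw [hR] at h
    exact_mod_cast h
  let p : IrrCharacter G → Prop := fun χ => χ ≠ Char.principal G ∧ ∃ j, R χ j ≠ 0
  have hι : ∀ {A : Type} [AddCommGroup A] (f : IrrCharacter G → A), (∀ χ, (∀ j, R χ j = 0) → f χ = 0) →
      ∑ i : {χ // p χ}, f i = (∑ χ, f χ) - f (Char.principal G) := by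
    intro A _ f hf
    rw [← Finset.sum_subtype (Finset.univ.filter p) (fun χ => by simp) f,
      ← Finset.add_sum_erase _ _ (Finset.mem_univ (Char.principal G)), add_sub_cancel_left]
    refine Finset.sum_subset (fun χ hχ => Finset.mem_erase.2 ⟨(Finset.mem_filter.1 hχ).2.1, Finset.mem_univ _⟩)
      fun χ hχ hn => hf χ ?_
    by_contra hc
    push Not at hc
    exact hn (Finset.mem_filter.2 ⟨Finset.mem_univ _, (Finset.mem_erase.1 hχ).1, hc⟩)
  have hgram : ∀ j k, ∑ χ, R χ j * R χ k =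
      if (j : ℕ) < 5 then (if (k : ℕ) < 5 then (if j = k then 16 else 12) else 0)
        else (if (k : ℕ) < 5 then 0 else 16) := fun j k => by
    have h := Fr.row_gram hJ j k
    simp only [hR, map_intCast] at h
    refine Int.cast_injective (α := ℂ) ?_
    push_cast
    exact h
  have hdeg : ∀ χ, (∃ j, R χ j ≠ 0) →
      (χ : G → ℂ) 1 = ((4 * R χ 5 - 3 * (R χ 0 + R χ 1 + R χ 2 + R χ 3 + R χ 4) + 64 * Mv χ : ℤ) : ℂ) :=
    fun χ hχ => by rw [hsum χ (hblock χ hχ), he χ (hblock χ hχ)]; exact hv1 χ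
  -- the Galois action
  obtain ⟨k, hk, hk5, hko⟩ := exists_exponent_three G
    ((by norm_num : 2 ∣ 64).trans (Fr.cfg.card ▸ Subgroup.card_subgroup_dvd_card _))
  let T : IrrCharacter G → IrrCharacter G := fun χ => ⟨_, CharGalois.IsIrrCharacter.powMap χ.2 hk⟩
  have hsurj : ∀ g : G, ∃ g', g' ^ k = g := fun g => ⟨(powCoprime hk.symm).symm g, (powCoprime hk.symm).apply_symm_apply g⟩
  have hTinj : Function.Injective T := fun a b e => Subtype.ext (funext fun g => by
    obtain ⟨g', rfl⟩ := hsurj g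
    exact congrFun (congrArg Subtype.val e) g')
  let σ : Equiv.Perm (IrrCharacter G) := Equiv.ofBijective T ⟨hTinj, Finite.injective_iff_surjective.1 hTinj⟩
  have hTp : T (Char.principal G) = Char.principal G := Subtype.ext rfl
  have hrot : ∀ χ j, R (T χ) j = R χ (rot j) := fun χ j => by
    refine Int.cast_injective (α := ℂ) ?_
    rw [← hR, ← hR]
    unfold row
    simp only [Cfsg.classInner]
    congr 1
    refine Fintype.sum_equiv (powCoprime hk.symm) _ _ fun g => ?_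
    show Fr.test j g * conj ((χ : G → ℂ) (g ^ k)) = Fr.test (rot j) (g ^ k) * conj ((χ : G → ℂ) (g ^ k))
    rw [Fr.test_pow hk5 hko]
  have hpT : ∀ χ, p (σ χ) ↔ p χ := fun χ => by
    show p (T χ) ↔ p χ
    refine and_congr (not_congr ⟨fun e => hTinj (e.trans hTp.symm), fun e => by rw [e, hTp]⟩) ?_
    simp only [hrot]
    exact ⟨fun ⟨j, hj⟩ => ⟨_, hj⟩, fun ⟨j, hj⟩ => by
      obtain ⟨i, rfl⟩ := (show Function.Surjective rot by decide) j
      exact ⟨i, hj⟩⟩
  have hTM : ∀ χ, (∃ j, R χ j ≠ 0) → Mv (T χ) = Mv χ := fun χ hχ => by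
    have hzk : z ^ k = z := by
      obtain ⟨m, rfl⟩ := hko
      rw [pow_succ, pow_mul, pow_two, mul_self_of_two Fr.cfg.zord, one_pow, one_mul]
    have hxk : IsConj (x ^ k) x :=
      Fr.cfg.conjFour _ x ((two_elt_orderOf_pow Fr.two_x hko).trans Fr.xord) Fr.xord
    obtain ⟨c, hc⟩ := isConj_iff.1 hxk
    have e1 : av (T χ) = av χ := by
      have h1 : (χ : G → ℂ) (z ^ k) = (av (T χ) : ℂ) := hvz (T χ)
      rw [hzk, hvz] at h1
      exact_mod_cast h1.symm
    have e2 : ev (T χ) = ev χ := by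
      have h1 : (χ : G → ℂ) (x ^ k) = (ev (T χ) : ℂ) := hvx (T χ)
      rw [← irr_conj_invariant χ (x ^ k) c, hc, hvx] at h1
      exact_mod_cast h1.symm
    have h1 : (χ : G → ℂ) ((1 : G) ^ k) = _ := hv1 (T χ)
    rw [one_pow, hv1, e1, e2, Int.cast_inj] at h1
    omega
  have hF : ∀ χ, (∃ j, R χ j ≠ 0) →
      (rowUnit (R χ)).F (Mv χ) = 4 * ev χ - 3 * av χ + 64 * Mv χ ∧ (rowUnit (R χ)).a = av χ := fun χ hχ => by
    have h1 := hsum χ (hblock χ hχ)
    have h2 := he χ (hblock χ hχ)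
    simp only [rowUnit, Un.F, Un.K, Un.a]
    constructor <;> linarith
  have hid : ∀ (cc : Fin 6 → ℤ), (∀ u : G, IsConj z u → ∑ j, (cc j : ℂ) * Fr.test j (u * z) = 0) →
      ∀ C : Un → ℤ, (∀ χ, (∃ j, R χ j ≠ 0) → C (rowUnit (R χ)) = (∑ j, cc j * R χ j) * av χ ^ 2) →
      (((∑ i : {χ // p χ}, (C (rowUnit (R i)) : ℚ) / (rowUnit (R i)).F (Mv i)) : ℚ) : ℂ) =
        -(∑ j, (cc j : ℂ) * ((![1, 0, 0, 0, 0, 1] : Fin 6 → ℤ) j : ℤ)) := by
    intro cc hcc C hC
    let f : IrrCharacter G → ℂ := fun χ => (∑ j, (cc j : ℂ) * Fr.row χ j) *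
      ((χ : G → ℂ) z * (χ : G → ℂ) z / (χ : G → ℂ) 1)
    have e : ∀ i : {χ // p χ}, (((C (rowUnit (R i)) : ℚ) / (rowUnit (R i)).F (Mv i) : ℚ) : ℂ) = f i := fun i => by
      rw [Rat.cast_div, Rat.cast_intCast, Rat.cast_intCast, hC _ i.2.2, (hF _ i.2.2).1]
      simp only [f, hR, hvz, hv1]
      push_cast
      ring
    rw [Rat.cast_sum, Finset.sum_congr rfl fun i _ => e i,
      hι f (fun χ h0 => by simp only [f, hR, h0, Int.cast_zero, mul_zero, Finset.sum_const_zero, zero_mul]),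
      Fr.row_square hJ (fun j => (cc j : ℂ)) hcc]
    simp only [f, hR, hp]
    simp [Char.principal]
  refine ⟨{χ // p χ}, inferInstance, ⟨{
    r := fun i => R i.1
    M := fun i => Mv i.1
    gal := σ.subtypePerm hpT
    gal_row := fun i j => hrot i.1 j
    gal_M := fun i => hTM i.1 i.2.2
    row_ne := fun i e => by
      obtain ⟨j, hj⟩ := i.2.2
      exact hj (congrFun e j)
    congr := fun i => by rw [(hF _ i.2.2).2, he _ (hblock _ i.2.2)]; exact hcg i.1
    gram_eq := fun j l => by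
      rw [hι (fun χ => R χ j * R χ l) (fun χ h0 => by simp [h0]), hgram, hp, hp]
      revert j l
      decide
    lin := fun j => ?_
    fixed_ne := fun i h0 => hno ⟨i.1, hconst _ (hblock _ i.2.2), ?_⟩
    degree_ne := fun i => by rw [(hF _ i.2.2).1]; exact (hpos i.1).ne'
    abs_le := fun i => by rw [(hF _ i.2.2).1, (hF _ i.2.2).2, abs_of_pos (hpos i.1)]; exact habs i.1
    pos := fun i _ => ⟨hM i.1, by rw [he _ (hblock _ i.2.2)]; exact hMe i.1⟩
    neg := fun i hn => absurd hn (by rw [(hF _ i.2.2).1]; exact (hpos i.1).le.not_gt)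
    id0 := ?_
    id1 := ?_ }⟩⟩
  · -- the sum against the degrees
    have h1 : ∑ χ, R χ j * (4 * R χ 5 - 3 * (R χ 0 + R χ 1 + R χ 2 + R χ 3 + R χ 4) + 64 * Mv χ) +
        (![1, 0, 0, 0, 0, 1] : Fin 6 → ℤ) j * (1 -
          (4 * 1 - 3 * 1 + 64 * Mv (Char.principal G))) = 0 := by
      refine Int.cast_injective (α := ℂ) ?_
      push_cast
      rw [← Fr.row_degree hJ j, ← eq_sub_iff_add_eq,
        ← Finset.add_sum_erase _ _ (Finset.mem_univ (Char.principal G)),
        ← Finset.add_sum_erase _ _ (Finset.mem_univ (Char.principal G))]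
      simp only [hR, hp]
      rw [Finset.sum_congr rfl (g := fun χ : IrrCharacter G => ((R χ j : ℂ)) * (χ : G → ℂ) 1) fun χ hχ => ?_]
      · simp only [Char.principal, mul_one]
        simp
        ring
      · by_cases h0 : R χ j = 0
        · simp [h0]
        · rw [hdeg χ ⟨j, h0⟩]; push_cast; ring
    have h2 : ∑ χ, R χ j * (4 * R χ 5 - 3 * (R χ 0 + R χ 1 + R χ 2 + R χ 3 + R χ 4) + 64 * Mv χ) =
        4 * (∑ χ, R χ j * R χ 5) - 3 * ((∑ χ, R χ j * R χ 0) + (∑ χ, R χ j * R χ 1) + (∑ χ, R χ j * R χ 2) +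
          (∑ χ, R χ j * R χ 3) + (∑ χ, R χ j * R χ 4)) + 64 * ∑ χ, Mv χ * R χ j := by
      simp only [Finset.mul_sum, ← Finset.sum_add_distrib, ← Finset.sum_sub_distrib]
      exact Finset.sum_congr rfl fun χ _ => by ring
    rw [hι (fun χ => Mv χ * R χ j) (fun χ h0 => by simp [h0]), hp]
    rw [h2, hgram, hgram, hgram, hgram, hgram, hgram] at h1
    generalize ∑ χ, Mv χ * R χ j = A at h1 ⊢
    generalize Mv (Char.principal G) = B at h1 ⊢
    fin_cases j <;> simp at h1 ⊢ <;> omega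
  · rw [hv1, hvz, ← he _ (hblock _ i.2.2)]
    have h1 : ((16 * Mv i.1 + R i.1 5 : ℤ) : ℂ) = 0 := by rw [h0, Int.cast_zero]
    push_cast at h1 ⊢
    linear_combination (4 : ℂ) * h1
  · have h := hid ![0, 0, 0, 0, 0, 1] (fun u hu => by
      simp [Fin.sum_univ_six, Fr.test_four_product hu]) Un.c0 fun χ hχ => by
        have h2 := (hF χ hχ).2
        simp only [Un.c0, h2]
        simp [rowUnit, Fin.sum_univ_six]
        ring
    refine Rat.cast_injective (α := ℂ) (h.trans ?_)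
    simp [Fin.sum_univ_six]
  · have h := hid ![4, -1, -1, -1, -1, 0] (fun u hu => by
      simp [Fin.sum_univ_six]
      linear_combination Fr.test_two_product hu) Un.c1 fun χ hχ => by
        have h2 := (hF χ hχ).2
        simp only [Un.c1, h2]
        simp [rowUnit, Fin.sum_univ_six]
        ring
    refine Rat.cast_injective (α := ℂ) (h.trans ?_)
    simp [Fin.sum_univ_six]

end Frame

/-- The block half, from the combinatorial theorem on the data. -/
theorem Cfg.exists_char_of {G : Type u} [Group G] [Finite G] {S : Sylow 2 G} {z : G} (h : Cfg S z)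
    (habsurd : ∀ (ι : Type u) [Fintype ι], BlockData ι → False) :
    ∃ χ : IrrCharacter G, (∀ y ∈ oddPart z, (χ : G → ℂ) (z * y) = (χ : G → ℂ) z) ∧
      (χ : G → ℂ) 1 + 3 * (χ : G → ℂ) z = 0 := by
  classical
  haveI : Fintype G := Fintype.ofFinite G
  obtain ⟨J, hJ⟩ := Cfsg.Agent.Blocks.exists_isPModular_witness 2
  haveI : Fact (Nat.Prime 2) := ⟨Nat.prime_two⟩
  haveI : J.IsPrime := hJ.2.1.isPrime
  obtain ⟨x, hx, hxne⟩ : ∃ x ∈ (S : Subgroup G), x * x ≠ 1 := by
    by_contra hc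
    push Not at hc
    have := Nat.card_congr (⟨fun y => ⟨y, y.2, hc y y.2⟩, fun w => ⟨w, w.2.1⟩, fun _ => rfl, fun _ => rfl⟩ :
      (S : Subgroup G) ≃ {w : G // w ∈ (S : Subgroup G) ∧ w * w = 1})
    rw [h.card, h.four] at this
    omega
  obtain ⟨γ, hγ⟩ := h.exists_gen
  have hprim := Complex.isPrimitiveRoot_exp 5 (by norm_num)
  by_contra hno
  obtain ⟨ι, hι, ⟨D⟩⟩ := (Frame.mk h hx hxne γ hγ (hprim.isUnit (by norm_num)).unit hprim).exists_data hJ hno
  exact @habsurd ι hι D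

end Cfsg.Agent.U34Block
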