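import Cfsg.Agent.Lib.U34Rec.CharEnd
import Cfsg.Agent.Lib.GoodInvol.BenderCard
import Cfsg.Agent.Lib.SEMain.Proof
import Mathlib.FieldTheory.Finite.GaloisField

/-!
A simple group with a Sylow 2-subgroup of order 64 with four solutions of `x * x = 1`, all central, and a
strongly embedded subgroup is `PSU(3, 4)`.
-/

set_option autoImplicit false
set_option linter.unusedSectionVars false
set_option linter.style.haveILetI false

namespace Cfsg.Agent.U34Block

open Subgroup
open scoped Classical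

universe u v

/-- Unitary groups over isomorphic fields. -/
theorem psu_field_congr {E F : Type*} [Field E] [Field F] (f : E ≃+* F) (n q : ℕ) :
    Nonempty (Cfsg.PSU n E q ≃* Cfsg.PSU n F q) := by
  let e : Matrix.SpecialLinearGroup (Fin n) E ≃* Matrix.SpecialLinearGroup (Fin n) F :=
    MonoidHom.toMulEquiv (Matrix.SpecialLinearGroup.map f.toRingHom) (Matrix.SpecialLinearGroup.map f.symm.toRingHom)
      (MonoidHom.ext fun x => Subtype.ext (Matrix.ext fun i j => f.symm_apply_apply _))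
      (MonoidHom.ext fun x => Subtype.ext (Matrix.ext fun i j => f.apply_symm_apply _))
  have hh : ∀ (u v : Fin n → E), f (Cfsg.hermForm n E q u v) = Cfsg.hermForm n F q (f ∘ u) (f ∘ v) := fun u v => by
    simp [Cfsg.hermForm]
  have hm : ∀ (x : Matrix.SpecialLinearGroup (Fin n) E) (u : Fin n → E),
      ((e x : Matrix.SpecialLinearGroup (Fin n) F) : Matrix (Fin n) (Fin n) F).mulVec (f ∘ u)
        = f ∘ (x : Matrix (Fin n) (Fin n) E).mulVec u := fun x u => funext fun i =>
    (RingHom.map_mulVec f.toRingHom _ u i).symm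
  have hSU : (Cfsg.SU n E q).map e.toMonoidHom = Cfsg.SU n F q := by
    ext y
    obtain ⟨x, rfl⟩ := e.surjective y
    rw [Subgroup.mem_map_equiv, e.symm_apply_apply]
    constructor
    · intro hx u v
      obtain ⟨u, rfl⟩ : ∃ u', f ∘ u' = u := ⟨f.symm ∘ u, funext fun i => f.apply_symm_apply _⟩
      obtain ⟨v, rfl⟩ : ∃ v', f ∘ v' = v := ⟨f.symm ∘ v, funext fun i => f.apply_symm_apply _⟩
      show Cfsg.hermForm n F q ((e x : Matrix (Fin n) (Fin n) F).mulVec (f ∘ u))
        ((e x : Matrix (Fin n) (Fin n) F).mulVec (f ∘ v)) = _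
      rw [hm, hm, ← hh, ← hh]
      exact congrArg f (hx u v)
    · intro hy u v
      have := hy (f ∘ u) (f ∘ v)
      change Cfsg.hermForm n F q ((e x : Matrix (Fin n) (Fin n) F).mulVec (f ∘ u))
        ((e x : Matrix (Fin n) (Fin n) F).mulVec (f ∘ v)) = _ at this
      rw [hm, hm, ← hh, ← hh] at this
      exact f.injective this
  let eS : Cfsg.SU n E q ≃* Cfsg.SU n F q :=
    (e.subgroupMap (Cfsg.SU n E q)).trans (MulEquiv.subgroupCongr hSU)
  refine ⟨QuotientGroup.congr _ _ eS ?_⟩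
  ext y
  obtain ⟨x, rfl⟩ := eS.surjective y
  rw [Subgroup.mem_center_iff]
  refine (Subgroup.mem_map_iff_mem eS.injective).trans ?_
  rw [Subgroup.mem_center_iff]
  exact ⟨fun h z => by
      obtain ⟨z, rfl⟩ := eS.surjective z
      rw [← map_mul, ← map_mul, h z],
    fun h z => eS.injective (by rw [map_mul, map_mul, h (eS z)])⟩


variable {G : Type u} [Group G] [Finite G]

/-- The recognition from a strongly embedded subgroup. -/
theorem Cfg.psu_of_stronglyEmbedded [IsSimpleGroup G] {S : Sylow 2 G} {z : G} (h : Cfg S z)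
    (hSE : ∃ H : Subgroup G, Cfsg.IsStronglyEmbedded H) {F : Type v} [Field F] [Fintype F]
    (hF : Fintype.card F = 16) : Nonempty (G ≃* Cfsg.PSU 3 F 4) := by
  haveI : Fact (Nat.Prime 2) := ⟨Nat.prime_two⟩
  obtain ⟨H, hH⟩ := hSE
  have hcore : H.normalCore = ⊥ := (H.normalCore_normal.eq_bot_or_eq_top).resolve_right fun e =>
    hH.1 (top_le_iff.1 (e ▸ H.normalCore_le))
  have hzz : z * z = 1 := by rw [← pow_two, ← h.zord, pow_orderOf_eq_one]
  have hR : ¬ BrauerSuzuki.RankOne G := by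
    intro hR
    haveI : Finite {x : G // x ∈ (S : Subgroup G) ∧ x * x = 1} := inferInstance
    obtain ⟨⟨u, huS, huu⟩, hu⟩ : ∃ u : {x : G // x ∈ (S : Subgroup G) ∧ x * x = 1},
        u ∉ ({⟨1, one_mem _, one_mul 1⟩, ⟨z, h.zmem, hzz⟩} : Finset _) := by
      haveI := Fintype.ofFinite {x : G // x ∈ (S : Subgroup G) ∧ x * x = 1}
      refine (Finset.exists_mem_notMem_of_card_lt_card (t := Finset.univ)
        (lt_of_le_of_lt Finset.card_le_two ?_)).imp fun u hu => hu.2
      rw [Finset.card_univ, ← Nat.card_eq_fintype_card, h.four]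
      norm_num
    simp only [Finset.mem_insert, Finset.mem_singleton, Subtype.mk.injEq, not_or] at hu
    exact hu.2 (hR z u h.zord (orderOf_eq_prime (by rw [pow_two, huu]) hu.1)
      (h.central z h.zmem hzz u huS)).symm
  obtain ⟨L, hLn, hLo, hL⟩ := SEMain.exists_bender SEMain.stmt hH hcore (SEMain.exists_pair hH hR)
  obtain rfl : L = ⊤ := hLn.eq_bot_or_eq_top.resolve_left fun e => by
    rw [e, index_bot, ← Nat.not_even_iff_odd, even_iff_two_dvd] at hLo
    exact hLo (h.zord ▸ orderOf_dvd_natCard z)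
  have hcount : {x : G | x ∈ (S : Subgroup G) ∧ x * x = 1}.ncard = 4 := by
    rw [← Nat.card_coe_set_eq]; exact h.four
  have hpar : ∀ {K : Type} [Group K] {r e : ℕ}, GoodInvol.BenderParams K r e → (G ≃* K) → r = 2 ∧ e = 3 := by
    intro K _ r e hK f
    obtain ⟨h1, h2⟩ := (hK.congr f).sylow S
    rw [hcount] at h2
    rw [show Nat.card S = 64 from h.card] at h1
    have hr : r = 2 := Nat.pow_right_injective le_rfl (h2.symm.trans (rfl : 4 = 2 ^ 2))
    have he : e * r = 6 := Nat.pow_right_injective le_rfl (h1.symm.trans (rfl : 64 = 2 ^ 6))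
    exact ⟨hr, by subst hr; omega⟩
  rcases hL with ⟨E, _, _, ⟨n, hn, hE⟩, ⟨f⟩⟩ | ⟨E, _, _, m, hm, hE, ⟨f⟩⟩ | ⟨E, _, _, n, hn, hE, ⟨f⟩⟩
  · exfalso
    haveI : CharP E 2 := charP_of_card_eq_prime_pow hE
    obtain ⟨g⟩ := SEMain.psl_equiv_sl (F := E)
    have := (hpar (GoodInvol.params_sl_two hn hE) ((topEquiv.symm.trans f).trans g)).2
    omega
  · exfalso
    have hs : Suzuki.SzField E m := ⟨hm, hE⟩
    have := (hpar (GoodInvol.params_sz hs)
      ((topEquiv.symm.trans f).trans (Suzuki.minorEquiv hs).symm)).2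
    omega
  · obtain ⟨rfl, -⟩ := hpar (GoodInvol.params_psu hn hE) (topEquiv.symm.trans f)
    obtain ⟨g⟩ := psu_field_congr (FiniteField.ringEquivOfCardEq (K := E) (K' := F) (by rw [hE, hF]; rfl)) 3 (2 ^ 2)
    exact ⟨((topEquiv.symm.trans f).trans g)⟩

/-- The recognition from the character of the block half. -/
theorem Cfg.psu_of_char [IsSimpleGroup G] {S : Sylow 2 G} {z : G} (h : Cfg S z)
    (hchar : ∃ χ : Cfsg.IrrCharacter G, (∀ y ∈ oddPart z, (χ : G → ℂ) (z * y) = (χ : G → ℂ) z) ∧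
      (χ : G → ℂ) 1 + 3 * (χ : G → ℂ) z = 0)
    {F : Type v} [Field F] [Fintype F] (hF : Fintype.card F = 16) : Nonempty (G ≃* Cfsg.PSU 3 F 4) :=
  h.psu_of_stronglyEmbedded (h.exists_stronglyEmbedded hchar) hF

end Cfsg.Agent.U34Block
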