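import Mathlib.Tactic.Ring
import Mathlib.Tactic.Linarith
import Mathlib.Tactic.LinearCombination
import Mathlib.Tactic.Positivity
import Mathlib.Tactic.FieldSimp
import Mathlib.Algebra.BigOperators.Fin
import Mathlib.Algebra.Order.BigOperators.Group.Finset
import Mathlib.Data.Fintype.Prod
import Mathlib.Tactic.FinCases
import Mathlib.Data.Rat.Lemmas

/-!
The integer part of the exclusion of the automiser of order 3: decompositions of virtual characters with the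
inner products of `S⟨m⟩`, and the two final equations.
-/

set_option autoImplicit false
set_option linter.unusedSectionVars false

namespace Cfsg.Agent.U34Three

open Finset

variable {ι : Type*} [Fintype ι] [DecidableEq ι]

/-- The coefficients at `z`. -/
def zc (T P : ι → ℤ) (D : Fin 4 → ι → ℤ) (i : ι) : ℤ :=
  T i - 4 * P i + D 0 i + D 1 i + D 2 i - 3 * D 3 i

/-- The coefficients of the sum over the non-trivial elements. -/
def kc (T P : ι → ℤ) (D : Fin 4 → ι → ℤ) (i : ι) : ℤ :=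
  63 * T i - 12 * P i + 15 * (D 0 i + D 1 i + D 2 i) + 3 * D 3 i

theorem eq_zero_of_sum_sq {s : Finset ι} {c : ι → ℤ} (h : ∑ i ∈ s, c i * c i = 0) : ∀ i ∈ s, c i = 0 :=
  fun i hi => mul_self_eq_zero.1 ((sum_eq_zero_iff_of_nonneg fun j _ => mul_self_nonneg (c j)).1 h i hi)

/-- A vector of square length two has two entries `±1`. -/
theorem two_units {s : Finset ι} {c : ι → ℤ} (h : ∑ i ∈ s, c i * c i = 2) :
    ∃ Y ∈ s, ∃ Y' ∈ s, Y ≠ Y' ∧ (c Y = 1 ∨ c Y = -1) ∧ (c Y' = 1 ∨ c Y' = -1) ∧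
      ∀ i ∈ s, i ≠ Y → i ≠ Y' → c i = 0 := by
  obtain ⟨Y, hY, hne⟩ : ∃ i ∈ s, c i ≠ 0 := by
    by_contra hall
    simp only [not_exists, not_and, not_not] at hall
    rw [sum_eq_zero fun i hi => by rw [hall i hi, mul_zero]] at h
    omega
  rw [← add_sum_erase _ _ hY] at h
  have hnn : 0 ≤ ∑ i ∈ s.erase Y, c i * c i := sum_nonneg fun i _ => mul_self_nonneg _
  have hY1 : c Y = 1 ∨ c Y = -1 := by
    have : c Y * c Y ≤ 2 := by linarith
    have h1 : -2 < c Y ∧ c Y < 2 := ⟨by nlinarith, by nlinarith⟩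
    omega
  have h2 : ∑ i ∈ s.erase Y, c i * c i = 1 := by rcases hY1 with e | e <;> rw [e] at h <;> linarith
  obtain ⟨Y', hY', hne'⟩ : ∃ i ∈ s.erase Y, c i ≠ 0 := by
    by_contra hall
    simp only [not_exists, not_and, not_not] at hall
    rw [sum_eq_zero fun i hi => by rw [hall i hi, mul_zero]] at h2
    omega
  rw [← add_sum_erase _ _ hY'] at h2
  have hnn' : 0 ≤ ∑ i ∈ (s.erase Y).erase Y', c i * c i := sum_nonneg fun i _ => mul_self_nonneg _
  have hY'1 : c Y' = 1 ∨ c Y' = -1 := by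
    have : c Y' * c Y' ≤ 1 := by linarith
    have h1 : -2 < c Y' ∧ c Y' < 2 := ⟨by nlinarith, by nlinarith⟩
    omega
  have h3 : ∑ i ∈ (s.erase Y).erase Y', c i * c i = 0 := by
    rcases hY'1 with e | e <;> rw [e] at h2 <;> linarith
  obtain ⟨h4, h5⟩ := mem_erase.1 hY'
  exact ⟨Y, hY, Y', h5, fun e => h4 e.symm, hY1, hY'1, fun i hi h6 h7 =>
    eq_zero_of_sum_sq h3 i (mem_erase.2 ⟨h7, mem_erase.2 ⟨h6, hi⟩⟩)⟩

/-- Two differences with inner product one share exactly one end, with the same sign. -/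
theorem diff_pair {μ ν μ' ν' : ι} (h : μ ≠ ν) (h' : μ' ≠ ν')
    (e : ((if μ = μ' then 1 else 0) - (if μ = ν' then 1 else 0) - (if ν = μ' then 1 else 0) +
      (if ν = ν' then 1 else 0) : ℤ) = 1) : (μ = μ' ∧ ν ≠ ν') ∨ (μ ≠ μ' ∧ ν = ν') := by
  split_ifs at e <;> first | omega | grind

/-- Differences pairwise of inner product one form a star. -/
theorem star (μ ν : Fin 4 → ι) (hne : ∀ j, μ j ≠ ν j)
    (h : ∀ i j, i ≠ j → ((if μ i = μ j then 1 else 0) - (if μ i = ν j then 1 else 0) -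
      (if ν i = μ j then 1 else 0) + (if ν i = ν j then 1 else 0) : ℤ) = 1) :
    ∃ (e : ℤ) (X : Fin 5 → ι), (e = 1 ∨ e = -1) ∧ Function.Injective X ∧ (∀ i, ∃ j, X i = μ j ∨ X i = ν j) ∧
      ∀ j i, ((if i = μ j then 1 else 0) - (if i = ν j then 1 else 0) : ℤ) =
        e * ((if i = X 0 then 1 else 0) - (if i = X j.succ then 1 else 0)) := by
  have key : ∀ (μ ν : Fin 4 → ι), (∀ j, μ j ≠ ν j) →
      (∀ i j, i ≠ j → (μ i = μ j ∧ ν i ≠ ν j) ∨ (μ i ≠ μ j ∧ ν i = ν j)) → μ 0 = μ 1 →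
      (∀ j, μ j = μ 0) ∧ Function.Injective (Fin.cons (μ 0) ν : Fin 5 → ι) := by
    intro μ ν hne h h01
    have hμ : ∀ j, μ j = μ 0 := by
      intro j
      by_cases hj : j = 0
      · rw [hj]
      by_cases hj1 : j = 1
      · rw [hj1, h01]
      rcases h 0 j (Ne.symm hj) with h1 | h1
      · exact h1.1.symm
      rcases h 1 j (Ne.symm hj1) with h2 | h2
      · exact h2.1.symm.trans h01.symm
      rcases h 0 1 (by decide) with h3 | h3
      · exact absurd (h1.2.trans h2.2.symm) h3.2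
      · exact absurd h01 h3.1
    refine ⟨hμ, Fin.cons_injective_iff.2 ⟨?_, fun i j e => ?_⟩⟩
    · rintro ⟨j, hj⟩
      exact hne j ((hμ j).trans hj.symm)
    · by_contra hij
      rcases h i j hij with h1 | h1
      · exact h1.2 e
      · exact h1.1 ((hμ i).trans (hμ j).symm)
  have hp : ∀ i j, i ≠ j → (μ i = μ j ∧ ν i ≠ ν j) ∨ (μ i ≠ μ j ∧ ν i = ν j) := fun i j hij =>
    diff_pair (hne i) (hne j) (h i j hij)
  rcases hp 0 1 (by decide) with h1 | h1
  · obtain ⟨hμ, hinj⟩ := key μ ν hne hp h1.1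
    refine ⟨1, Fin.cons (μ 0) ν, Or.inl rfl, hinj, fun i => ?_, fun j i => ?_⟩
    · refine Fin.cases ⟨0, Or.inl rfl⟩ (fun j => ⟨j, Or.inr ?_⟩) i
      rw [Fin.cons_succ]
    · rw [Fin.cons_zero, Fin.cons_succ, one_mul, hμ j]
  · obtain ⟨hν, hinj⟩ := key ν μ (fun j => (hne j).symm) (fun i j hij => (hp i j hij).elim
      (fun h => Or.inr ⟨h.2, h.1⟩) (fun h => Or.inl ⟨h.2, h.1⟩)) h1.2
    refine ⟨-1, Fin.cons (ν 0) μ, Or.inr rfl, hinj, fun i => ?_, fun j i => ?_⟩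
    · refine Fin.cases ⟨0, Or.inr rfl⟩ (fun j => ⟨j, Or.inl ?_⟩) i
      rw [Fin.cons_succ]
    · rw [Fin.cons_zero, Fin.cons_succ, hν j]; ring

/-- What the decompositions give. -/
theorem shape {p : ι} {T P : ι → ℤ} {D : Fin 4 → ι → ℤ} {e : ℤ} {X : Fin 5 → ι}
    (he : e = 1 ∨ e = -1) (hX : Function.Injective X) (hXp : ∀ i, X i ≠ p)
    (hD : ∀ j i, D j i = e * ((if i = X 0 then 1 else 0) - (if i = X j.succ then 1 else 0)))
    (hTp : T p = 1) (hTT : ∑ i, T i * T i = 4) (hPP : ∑ i, P i * P i = 5) (hTP : ∑ i, T i * P i = 1)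
    (hPp : P p = 0) (hTD : ∀ j, ∑ i, T i * D j i = -1)
    (hPD : ∀ j, ∑ i, P i * D j i = if j = 3 then -1 else 0) :
    ∃ Y Y' : ι, Y ≠ p ∧ Y' ≠ p ∧ T (X 0) = -e ∧ (T Y = 1 ∨ T Y = -1) ∧ (T Y' = 1 ∨ T Y' = -1) ∧
      (∀ f : ι → ℚ, ∑ i, (T i : ℚ) * f i = f p - e * f (X 0) + T Y * f Y + T Y' * f Y') ∧
      ((zc T P D (X 0) = 3 * e ∧ kc T P D (X 0) = -3 * e ∧ zc T P D Y = T Y ∧ kc T P D Y = 63 * T Y ∧
          zc T P D Y' = T Y' ∧ kc T P D Y' = 63 * T Y') ∨
        (zc T P D (X 0) = -e ∧ kc T P D (X 0) = -15 * e ∧ zc T P D Y = -3 * T Y ∧ kc T P D Y = 51 * T Y ∧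
          zc T P D Y' = T Y' ∧ kc T P D Y' = 63 * T Y')) := by
  have hee : e * e = 1 := by rcases he with h | h <;> rw [h] <;> norm_num
  have hsum : ∀ (c : ι → ℤ) (j : Fin 4), ∑ i, c i * D j i = e * (c (X 0) - c (X j.succ)) := by
    intro c j
    simp only [hD, mul_sub, sum_sub_distrib, mul_ite, mul_one, mul_zero, sum_ite_eq', mem_univ, if_true]
    ring
  set W : Finset ι := insert p (univ.image X) with hW
  have hWsum : ∀ f : ι → ℤ, ∑ i, f i = (f p + ∑ k, f (X k)) + ∑ i ∈ univ \ W, f i := by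
    intro f
    rw [← sum_sdiff (subset_univ W), add_comm, hW, sum_insert (by simp [hXp]),
      sum_image fun a _ b _ h => hX h]
  -- the coefficients on the star
  obtain ⟨t, ht⟩ : ∃ t, t = e * T (X 0) := ⟨_, rfl⟩
  obtain ⟨s, hs⟩ : ∃ s, s = e * P (X 0) := ⟨_, rfl⟩
  have hTX : ∀ j : Fin 4, T (X j.succ) = e * (t + 1) := fun j => by
    have := hTD j
    rw [hsum] at this
    rcases he with h | h <;> rw [h] at this ht ⊢ <;> linarith
  have hT0 : T (X 0) = e * t := by rw [ht, ← mul_assoc, hee, one_mul]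
  have hPX : ∀ j : Fin 4, P (X j.succ) = e * (if j = 3 then s + 1 else s) := fun j => by
    have := hPD j
    rw [hsum] at this
    split_ifs at this ⊢ <;> rcases he with h | h <;> rw [h] at this hs ⊢ <;> linarith
  have hP0 : P (X 0) = e * s := by rw [hs, ← mul_assoc, hee, one_mul]
  have hTrest : ∀ c : ι → ℤ, ∑ k, T (X k) * c (X k) =
      e * t * c (X 0) + e * (t + 1) * ∑ j : Fin 4, c (X j.succ) := fun c => by
    rw [Fin.sum_univ_succ, hT0, mul_sum]
    simp only [hTX]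
  have sq : ∀ a : ℤ, e * a * (e * a) = a * a := fun a => by linear_combination (a * a) * hee
  have ht1 : t = -1 ∧ ∑ i ∈ univ \ W, T i * T i = 2 := by
    have h1 := hWsum fun i => T i * T i
    rw [hTT, hTp, hTrest, hT0] at h1
    simp only [hTX, Fin.sum_univ_four] at h1
    have h0 : 0 ≤ ∑ i ∈ univ \ W, T i * T i := sum_nonneg fun i _ => mul_self_nonneg _
    have h2 : (t + 1) * (t + 1) * 4 + t * t + ∑ i ∈ univ \ W, T i * T i = 3 := by
      linear_combination -h1 - (t * t + 4 * (t + 1) * (t + 1)) * hee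
    have h3 : -2 < t ∧ t < 1 := ⟨by nlinarith, by nlinarith⟩
    obtain rfl | rfl : t = -1 ∨ t = 0 := by omega
    · exact ⟨rfl, by linarith⟩
    · linarith
  obtain ⟨rfl, hT2⟩ := ht1
  have hTX' : ∀ j : Fin 4, T (X j.succ) = 0 := fun j => by rw [hTX]; ring
  obtain ⟨Y, hY, Y', hY', hYY, hu, hv, hrest⟩ := two_units hT2
  have hout : ∀ i ∈ univ \ W, i ≠ p ∧ ∀ k, i ≠ X k := fun i hi =>
    ⟨fun h => (mem_sdiff.1 hi).2 (h ▸ mem_insert_self _ _),
      fun k h => (mem_sdiff.1 hi).2 (h ▸ mem_insert_of_mem (mem_image_of_mem _ (mem_univ k)))⟩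
  have hsupp : ∀ i, i ≠ p → i ≠ X 0 → i ≠ Y → i ≠ Y' → T i = 0 := by
    intro i h1 h2 h3 h4
    by_cases hi : i ∈ W
    · obtain h5 | h5 := mem_insert.1 hi
      · exact absurd h5 h1
      obtain ⟨k, -, rfl⟩ := mem_image.1 h5
      obtain ⟨j, rfl⟩ := Fin.exists_succ_eq.2 fun h : k = 0 => h2 (by rw [h])
      exact hTX' j
    · exact hrest i (mem_sdiff.2 ⟨mem_univ _, hi⟩) h3 h4
  have hex : ∀ f : ι → ℚ, ∑ i, (T i : ℚ) * f i = f p - e * f (X 0) + T Y * f Y + T Y' * f Y' := by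
    intro f
    rw [← sum_subset (subset_univ ({p, X 0, Y, Y'} : Finset ι)) fun i _ hi => by
      simp only [mem_insert, mem_singleton, not_or] at hi
      rw [hsupp i hi.1 hi.2.1 hi.2.2.1 hi.2.2.2]; simp]
    rw [sum_insert (by simp [(hXp 0).symm, (hout _ hY).1.symm, (hout _ hY').1.symm]),
      sum_insert (by simp [((hout _ hY).2 0).symm, ((hout _ hY').2 0).symm]), sum_pair hYY, hTp, hT0]
    push_cast
    ring
  have hDz : ∀ i ∈ univ \ W, ∀ j, D j i = 0 := fun i hi j => by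
    rw [hD, if_neg ((hout i hi).2 0), if_neg ((hout i hi).2 j.succ)]; ring
  have hD0 : ∀ j, D j (X 0) = e := fun j => by
    rw [hD, if_pos rfl, if_neg fun h => Fin.succ_ne_zero j (hX h).symm]; ring
  have hT0' : T (X 0) = -e := by rw [hT0]; ring
  have hTrest' : ∀ c : ι → ℤ, ∑ i ∈ univ \ W, T i * c i = T Y * c Y + T Y' * c Y' := fun c => by
    rw [← sum_subset (s₁ := {Y, Y'}) (by simp [insert_subset_iff, hY, hY']) fun i hi hi' => by
      simp only [mem_insert, mem_singleton, not_or] at hi'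
      rw [hrest i hi hi'.1 hi'.2, zero_mul], sum_pair hYY]
  have h5 := hWsum fun i => P i * P i
  rw [hPP, hPp, Fin.sum_univ_succ, hP0] at h5
  simp only [hPX, sq, Fin.sum_univ_four, if_true,
    show (0 : Fin 4) ≠ 3 by decide, show (1 : Fin 4) ≠ 3 by decide, show (2 : Fin 4) ≠ 3 by decide,
    if_false] at h5
  have h6 := hWsum fun i => T i * P i
  rw [hTP, hTp, hPp, Fin.sum_univ_succ, hT0', hP0, hTrest'] at h6
  simp only [hTX', zero_mul, sum_const_zero, add_zero] at h6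
  have h7 : T Y * P Y + T Y' * P Y' = 1 + s := by linear_combination -h6 + s * hee
  have hPle : P Y * P Y + P Y' * P Y' ≤ ∑ i ∈ univ \ W, P i * P i := by
    rw [← sum_pair (f := fun i => P i * P i) hYY]
    exact sum_le_sum_of_subset_of_nonneg (by simp [insert_subset_iff, hY, hY'])
      fun i _ _ => mul_self_nonneg _
  have hR0 : 0 ≤ P Y * P Y + P Y' * P Y' := add_nonneg (mul_self_nonneg _) (mul_self_nonneg _)
  have hs' : s = -1 ∨ s = 0 := by
    have h3 : -2 < s ∧ s < 1 := ⟨by nlinarith, by nlinarith⟩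
    omega
  have z0 : zc T P D (X 0) = -e - 4 * (e * s) := by
    simp only [zc, hD0, hT0', hP0]; ring
  have k0 : kc T P D (X 0) = -15 * e - 12 * (e * s) := by
    simp only [kc, hD0, hT0', hP0]; ring
  have zY : ∀ i ∈ univ \ W, zc T P D i = T i - 4 * P i := fun i hi => by simp [zc, hDz i hi]
  have kY : ∀ i ∈ univ \ W, kc T P D i = 63 * T i - 12 * P i := fun i hi => by simp [kc, hDz i hi]
  have hu2 : T Y * T Y = 1 := by rcases hu with c | c <;> rw [c] <;> norm_num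
  have hv2 : T Y' * T Y' = 1 := by rcases hv with c | c <;> rw [c] <;> norm_num
  obtain ⟨a, ha⟩ : ∃ a, a = T Y * P Y := ⟨_, rfl⟩
  obtain ⟨b, hb⟩ : ∃ b, b = T Y' * P Y' := ⟨_, rfl⟩
  have hPa : P Y = T Y * a := by rw [ha, ← mul_assoc, hu2, one_mul]
  have hPb : P Y' = T Y' * b := by rw [hb, ← mul_assoc, hv2, one_mul]
  have hab : P Y * P Y + P Y' * P Y' = a * a + b * b := by
    rw [hPa, hPb]; linear_combination a * a * hu2 + b * b * hv2
  rw [← ha, ← hb] at h7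
  rw [hab] at hPle
  rcases hs' with rfl | rfl
  · have hle : a * a + b * b ≤ 1 := by linarith
    have ha0 : -1 < a ∧ a < 1 := ⟨by nlinarith, by nlinarith⟩
    obtain rfl : a = 0 := by omega
    obtain rfl : b = 0 := by omega
    have h8 : P Y = 0 ∧ P Y' = 0 := ⟨by rw [hPa, mul_zero], by rw [hPb, mul_zero]⟩
    refine ⟨Y, Y', (hout _ hY).1, (hout _ hY').1, hT0', hu, hv, hex, Or.inl ?_⟩
    rw [z0, k0, zY _ hY, kY _ hY, zY _ hY', kY _ hY', h8.1, h8.2]
    refine ⟨?_, ?_, ?_, ?_, ?_, ?_⟩ <;> ring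
  · have hle : a * a + (1 - a) * (1 - a) ≤ 4 := by
      rw [show 1 - a = b by linarith]; linarith
    have hge : -1 < a := lt_of_not_ge fun hc => by nlinarith only [hle, hc]
    have hlt : a < 2 := lt_of_not_ge fun hc => by nlinarith only [hle, hc]
    have h8 : (P Y = T Y ∧ P Y' = 0) ∨ (P Y = 0 ∧ P Y' = T Y') := by
      obtain ⟨rfl, rfl⟩ | ⟨rfl, rfl⟩ : (a = 1 ∧ b = 0) ∨ (a = 0 ∧ b = 1) := by omega
      · exact Or.inl ⟨by rw [hPa, mul_one], by rw [hPb, mul_zero]⟩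
      · exact Or.inr ⟨by rw [hPa, mul_zero], by rw [hPb, mul_one]⟩
    rcases h8 with h8 | h8
    · refine ⟨Y, Y', (hout _ hY).1, (hout _ hY').1, hT0', hu, hv, hex, Or.inr ?_⟩
      rw [z0, k0, zY _ hY, kY _ hY, zY _ hY', kY _ hY', h8.1, h8.2]
      refine ⟨?_, ?_, ?_, ?_, ?_, ?_⟩ <;> ring
    · refine ⟨Y', Y, (hout _ hY').1, (hout _ hY).1, hT0', hv, hu, fun f => (hex f).trans (by ring), Or.inr ?_⟩
      rw [z0, k0, zY _ hY, kY _ hY, zY _ hY', kY _ hY', h8.1, h8.2]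
      refine ⟨?_, ?_, ?_, ?_, ?_, ?_⟩ <;> ring

theorem inv_bound {B n : ℤ} (hn : 0 < n) (h : n ≤ B ∨ B ≤ -n) :
    -(1 / (n : ℚ)) ≤ 1 / (B : ℚ) ∧ 1 / (B : ℚ) ≤ 1 / (n : ℚ) := by
  have hn' : (0 : ℚ) < n := by exact_mod_cast hn
  rcases h with h | h
  · have h' : (n : ℚ) ≤ B := by exact_mod_cast h
    refine ⟨le_trans (neg_nonpos.2 (by positivity)) (by positivity [hn'.trans_le h']), ?_⟩
    exact one_div_le_one_div_of_le hn' h'
  · have h' : (n : ℚ) ≤ -B := by exact_mod_cast (show n ≤ -B by linarith)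
    have h1 := one_div_le_one_div_of_le hn' h'
    rw [one_div_neg_eq_neg_one_div] at h1
    refine ⟨by linarith, ?_⟩
    have : (B : ℚ) < 0 := by linarith
    exact le_trans (le_of_lt (one_div_neg.2 this)) (by positivity)

/-- The first pattern has no solution. -/
theorem no_first {D A B : ℤ} (hD : 64 ∣ D - 3) (hA : 64 ∣ A - 1) (hB : 64 ∣ B - 1) (hA1 : A ≠ 1) (hB1 : B ≠ 1) :
    1 - 9 / (D : ℚ) + 1 / (A : ℚ) + 1 / (B : ℚ) ≠ 0 := by
  intro h
  obtain ⟨a1, a2⟩ := inv_bound (B := A) (n := 63) (by norm_num) (by omega)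
  obtain ⟨b1, b2⟩ := inv_bound (B := B) (n := 63) (by norm_num) (by omega)
  have hD' : D = 3 ∨ (61 ≤ D ∨ D ≤ -61) := by omega
  rcases hD' with rfl | hD'
  · norm_num at h a1 a2 b1 b2
    linarith
  · obtain ⟨d1, d2⟩ := inv_bound (B := D) (n := 61) (by norm_num) hD'
    rw [show 9 / (D : ℚ) = 9 * (1 / (D : ℚ)) by ring] at h
    norm_num at a1 a2 b1 b2 d1 d2 h
    linarith

/-- The second pattern has no solution. -/
theorem no_second {D A B : ℤ} (hD : 64 ∣ D - 15) (hA : 64 ∣ A - 13) (hB : 64 ∣ B - 1) (hB1 : B ≠ 1) :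
    1 - 1 / (D : ℚ) + 9 / (A : ℚ) + 1 / (B : ℚ) ≠ 0 := by
  intro h
  obtain ⟨b1, b2⟩ := inv_bound (B := B) (n := 63) (by norm_num) (by omega)
  obtain ⟨d1, d2⟩ := inv_bound (B := D) (n := 15) (by norm_num) (by omega)
  obtain ⟨a1, a2⟩ := inv_bound (B := A) (n := 13) (by norm_num) (by omega)
  rw [show 9 / (A : ℚ) = 9 * (1 / (A : ℚ)) by ring] at h
  norm_num at a1 a2 b1 b2 d1 d2 h
  linarith

end Cfsg.Agent.U34Three
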