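import Cfsg.Agent.Lib.U34Rec.ThreeChars
import Cfsg.Agent.Lib.U34Rec.ThreeArith
import Cfsg.Agent.Lib.SylowSplit.Stable
import Cfsg.Agent.Lib.SylowSplit.Core
import Cfsg.Agent.Lib.Blocks.SecondMain
import Cfsg.Agent.Lib.Char.Complete

/-!
No simple group has a Sylow 2-subgroup of the type of `U₃(4)` with automiser of order 3.

A function of the 2-part which vanishes at 1 and at the involutions has weighted sum zero at the class of products
of two involutions; with the congruences modulo 64 this kills both possible decompositions.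
-/

set_option autoImplicit false
set_option linter.unusedSectionVars false
set_option linter.style.haveILetI false

namespace Cfsg.Agent.U34Three

open Cfsg Cfsg.Agent.Char Cfsg.Agent.SylowSplit Cfsg.Agent.Blocks
open Cfsg.Agent.U34Block (oddPart)
open scoped ComplexConjugate Classical

universe u

variable {G : Type u} [Group G] [Fintype G] {S : Sylow 2 G} {m : G}

/-- A virtual character of `G` that is a function of the 2-part, with given values on `S`. -/
structure Lifted (S : Sylow 2 G) (f : ↥(S : Subgroup G) → ℂ) (θ : G → ℂ) (c : IrrCharacter G → ℤ) : Prop where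
  gen : IsGeneralizedCharacter G θ
  sec : ∀ g, θ g = θ (tp g)
  val : ∀ x : ↥(S : Subgroup G), θ (x : G) = f x
  coef : ∀ χ : IrrCharacter G, classInner θ (χ : G → ℂ) = c χ
  eq : ∀ g, θ g = ∑ χ : IrrCharacter G, (c χ : ℂ) * (χ : G → ℂ) g

/-- The inner product of two members of the span of `1`, `psi` and the orbit sums. -/
noncomputable def span (S : Sylow 2 G) (o : Fin 5 → ↥(S : Subgroup G) → ℂ) (a b : ℂ) (v : Fin 5 → ℂ) :
    ↥(S : Subgroup G) → ℂ := fun x => a + b * psi S x + ∑ i, v i * o i x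

/-- Coefficients of `T`. -/
def tv : Fin 5 → ℂ := ![-1, 0, 0, 0, 0]
/-- Coefficients of `P`. -/
def pv : Fin 5 → ℂ := ![-1, -1, -1, -1, 0]
/-- Coefficients of the differences. -/
def dv : Fin 4 → Fin 5 → ℂ := ![![1, -1, 0, 0, 0], ![1, 0, -1, 0, 0], ![1, 0, 0, -1, 0], ![1, 0, 0, 0, -1]]

namespace C3Cfg

variable (h : C3Cfg S m)
include h

theorem card_inv_filter [Fintype ↥(S : Subgroup G)] :
    (Finset.univ.filter fun x : ↥(S : Subgroup G) => x * x = 1).card = 4 := by
  rw [← h.four, ← Nat.card_eq_finsetCard]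
  exact Nat.card_congr
    { toFun := fun x => ⟨x.1, x.1.2, congrArg Subtype.val (Finset.mem_filter.1 x.2).2⟩
      invFun := fun x => ⟨⟨x.1, x.2.1⟩, Finset.mem_filter.2 ⟨Finset.mem_univ _, Subtype.ext x.2.2⟩⟩
      left_inv := fun x => rfl
      right_inv := fun x => rfl }

theorem psi_stable {x y : ↥(S : Subgroup G)} (g : G) (e : (y : G) = g * (x : G) * g⁻¹) : psi S y = psi S x := by
  have h1 : y = 1 ↔ x = 1 := by
    constructor <;> intro hh
    · rw [hh, Subgroup.coe_one] at e; exact Subtype.ext (conj_eq_one_iff.1 e.symm)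
    · rw [hh, Subgroup.coe_one, mul_one, mul_inv_cancel] at e; exact Subtype.ext e
  have h2 : y * y = 1 ↔ x * x = 1 := by
    rw [← Subtype.coe_inj, ← Subtype.coe_inj (a := x * x), Subgroup.coe_mul, Subgroup.coe_mul, Subgroup.coe_one, e,
      conj_mul, conj_eq_one_iff]
  classical
  simp only [psi, h1, h2]

theorem span_stable [Fintype ↥(S : Subgroup G)] {o : Fin 5 → ↥(S : Subgroup G) → ℂ} (F : Fam S m o) (a b : ℂ)
    (v : Fin 5 → ℂ) (x y : ↥(S : Subgroup G)) (hxy : IsConj (x : G) (y : G)) :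
    span S o a b v x = span S o a b v y := by
  obtain ⟨g, hg⟩ := isConj_iff.1 hxy
  obtain ⟨t, ht, i, e⟩ := h.fusion x x.2 g (hg ▸ y.2)
  rw [hg] at e
  unfold span
  rw [← h.psi_stable (x := x) (y := y) g hg.symm]
  congr 1
  refine Finset.sum_congr rfl fun j _ => ?_
  congr 1
  have key : ∀ k : ℕ, o j ⟨m ^ k * (x : G) * (m ^ k)⁻¹, h.m_pow_mem k x.2⟩ = o j x := by
    intro k
    induction k with
    | zero =>
      congr 1
      exact Subtype.ext (by simp)
    | succ k ih =>
      rw [← ih]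
      refine F.outer j ⟨_, h.m_pow_mem k x.2⟩ ⟨_, h.m_pow_mem (k + 1) x.2⟩ ?_
      show m ^ (k + 1) * (x : G) * (m ^ (k + 1))⁻¹ = m * (m ^ k * (x : G) * (m ^ k)⁻¹) * m⁻¹
      rw [pow_succ']; group
  rw [← key i, ← F.inner j ⟨m ^ i * (x : G) * (m ^ i)⁻¹, h.m_pow_mem i x.2⟩ ⟨t, ht⟩]
  congr 1
  refine Subtype.ext ?_
  show t * (m ^ i * (x : G) * (m ^ i)⁻¹) * t⁻¹ = (y : G)
  rw [e]; group

theorem span_gen [Fintype ↥(S : Subgroup G)] {o : Fin 5 → ↥(S : Subgroup G) → ℂ} (F : Fam S m o) (a b : ℤ)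
    (v : Fin 5 → ℤ) : IsGeneralizedCharacter (S : Subgroup G) (span S o (a : ℂ) b fun i => (v i : ℂ)) := by
  have e : span S o (a : ℂ) b (fun i => (v i : ℂ)) =
      (a : ℂ) • (fun _ => (1 : ℂ)) + (b : ℂ) • psi S + ∑ i, (v i : ℂ) • o i := by
    funext x; simp [span, Finset.sum_apply]
  rw [e]
  exact IsGeneralizedCharacter.add (IsGeneralizedCharacter.add
    (IsGeneralizedCharacter.int_smul (IsGeneralizedCharacter.of_isCharacter isCharacter_one) a)
    (IsGeneralizedCharacter.int_smul h.psi_gen b))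
    (isGeneralizedCharacter_sum _ fun i _ => IsGeneralizedCharacter.int_smul (F.gen i) _)

theorem span_one [Fintype ↥(S : Subgroup G)] {o : Fin 5 → ↥(S : Subgroup G) → ℂ} (F : Fam S m o) (a b : ℂ)
    (v : Fin 5 → ℂ) : span S o a b v 1 = a + 12 * b + 3 * ∑ i, v i := by
  have hp : psi S 1 = 12 := if_pos rfl
  have ho : ∀ i, o i 1 = 3 := fun i => F.onZ i 1 (one_mul 1)
  unfold span
  simp only [hp, ho, Finset.mul_sum, mul_comm]

theorem span_real [Fintype ↥(S : Subgroup G)] {o : Fin 5 → ↥(S : Subgroup G) → ℂ} (F : Fam S m o) (a b : ℤ)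
    (v : Fin 5 → ℤ) (x : ↥(S : Subgroup G)) :
    conj (span S o (a : ℂ) b (fun i => (v i : ℂ)) x) = span S o (a : ℂ) b (fun i => (v i : ℂ)) x := by
  classical
  have hp : conj (psi S x) = psi S x := by
    unfold psi
    split_ifs
    · exact map_ofNat _ 12
    · rw [map_neg, map_ofNat]
    · exact map_zero _
  simp only [span, map_add, map_sum, map_mul, hp, F.real, map_intCast]

theorem sum_span [Fintype ↥(S : Subgroup G)] {o : Fin 5 → ↥(S : Subgroup G) → ℂ} (F : Fam S m o) (a b : ℂ)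
    (v : Fin 5 → ℂ) (a' b' : ℂ) (v' : Fin 5 → ℂ) :
    ∑ x, span S o a b v x * span S o a' b' v' x = 64 * (a * a') + 192 * (b * b') + 192 * ∑ i, v i * v' i := by
  classical
  have hS : Fintype.card ↥(S : Subgroup G) = 64 := by rw [← Nat.card_eq_fintype_card, h.card]
  have hp0 : ∀ x : ↥(S : Subgroup G), psi S x =
      16 * (if x = 1 then 1 else 0) - 4 * (if x * x = 1 then 1 else 0) := fun x => by
    unfold psi
    by_cases h1 : x = 1
    · subst h1; norm_num
    · by_cases h2 : x * x = 1 <;> simp [h1, h2]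
  have hp2 : ∀ x : ↥(S : Subgroup G), psi S x * psi S x = 8 * psi S x + 48 * (if x * x = 1 then 1 else 0) := by
    intro x
    unfold psi
    by_cases h1 : x = 1
    · subst h1; norm_num
    · by_cases h2 : x * x = 1 <;> (simp [h1, h2]; try norm_num)
  have hpo : ∀ i (x : ↥(S : Subgroup G)), psi S x * o i x = 3 * psi S x := fun i x => by
    by_cases h2 : x * x = 1
    · rw [F.onZ i x h2, mul_comm]
    · have h1 : x ≠ 1 := fun e => h2 (by rw [e, one_mul])
      simp [psi, h1, h2]
  have s1 : ∑ x : ↥(S : Subgroup G), (if x * x = 1 then (1 : ℂ) else 0) = 4 := by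
    rw [← Finset.sum_filter, Finset.sum_const, h.card_inv_filter]; norm_num
  have s0 : ∑ x, psi S x = 0 := by
    simp only [hp0, Finset.sum_sub_distrib, ← Finset.mul_sum, s1, Finset.sum_ite_eq', Finset.mem_univ, if_true]
    norm_num
  have s2 : ∑ x, psi S x * psi S x = 192 := by
    simp only [hp2, Finset.sum_add_distrib, ← Finset.mul_sum, s1, s0]; norm_num
  have s3 : ∀ i, ∑ x, psi S x * o i x = 0 := fun i => by simp only [hpo, ← Finset.mul_sum, s0, mul_zero]
  have e : ∀ x, span S o a b v x * span S o a' b' v' x =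
      a * a' + (a * b' + b * a') * psi S x + b * b' * (psi S x * psi S x) +
      ∑ i, ((a * v' i + v i * a') * o i x + (b * v' i + v i * b') * (psi S x * o i x)) +
      ∑ i, ∑ j, v i * v' j * (o i x * o j x) := by
    intro x
    unfold span
    simp only [Fin.sum_univ_five]
    ring
  rw [Finset.sum_congr rfl fun x _ => e x]
  simp only [Fin.sum_univ_five, Finset.sum_add_distrib, ← Finset.mul_sum, s0, s2, s3, F.sum, F.orth,
    Finset.sum_const, Finset.card_univ, hS, nsmul_eq_mul, mul_zero, add_zero]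
  simp
  ring

variable {M : Ideal AlgInt} [M.IsPrime]

/-- A character of the principal block is a function of the 2-part away from the elements of odd order. -/
theorem block_sectional (hM : IsPModular 2 M) {χ : IrrCharacter G} (hχ : χ ∈ principalBlock M G) {g : G}
    (hg : tp g ≠ 1) : (χ : G → ℂ) g = (χ : G → ℂ) (tp g) := by
  haveI : Fact (Nat.Prime 2) := ⟨Nat.prime_two⟩
  obtain ⟨s, hs, hc, -, hodd⟩ := tp_spec g
  obtain ⟨k, hk⟩ := exists_conj_mem S (tp_two_elt g)
  have hcls := IsCharacter.isClassFunction (irr_isCharacter χ)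
  have hx1 : k * tp g * k⁻¹ ≠ 1 := fun e => hg (conj_eq_one_iff.1 e)
  set C := Subgroup.centralizer ({k * tp g * k⁻¹} : Set G) with hC
  have hs' : k * s * k⁻¹ ∈ oddPart (k * tp g * k⁻¹) := (h.cen_iff hk hx1).1
    ⟨hc.symm.map (MulAut.conj k).toMonoidHom, by rw [BrauerSuzuki.orderOf_conj_eq]; exact hodd⟩
  obtain ⟨v, hv, hve⟩ := hs'
  haveI : Fintype C := Fintype.ofFinite _
  haveI : (pPrimeCore 2 C).Normal := Cfsg.Agent.FittingCores.pPrimeCore_normal 2
  have e := irr_section_of_kernel hM (two_elt_conj (tp_two_elt g) k) hC hχ (pPrimeCore 2 C)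
    (fun h2 => Nat.prime_two.coprime_iff_not_dvd.1
      (Cfsg.Agent.FittingCores.pPrimeCore_coprime (G := C) 2).symm h2) hv
  rw [show (v : G) = k * s * k⁻¹ from hve, conj_mul, hs, hcls, hcls] at e
  exact e

/-- The inner product of a lifted function with a class function that is sectional where it matters. -/
theorem inner_eq [Fintype ↥(S : Subgroup G)] {f : ↥(S : Subgroup G) → ℂ} {θ : G → ℂ} {c : IrrCharacter G → ℤ}
    (L : Lifted S f θ c) (h1 : f 1 = 0) {K : G → ℂ} (hK : IsClassFunction G K)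
    (hKs : ∀ g, tp g ≠ 1 → K g = K (tp g)) :
    classInner θ K = (192 : ℂ)⁻¹ * ∑ x : ↥(S : Subgroup G), f x * conj (K (x : G)) := by
  have hcls := IsGeneralizedCharacter.isClassFunction L.gen
  have hF1 : θ 1 = 0 := by rw [← h1, ← L.val 1]; rfl
  have e := h.sum_tp (fun g => θ g * conj (K g)) (fun g k => by rw [hcls, hK]) (by
    show θ 1 * conj (K 1) = 0
    rw [hF1, zero_mul])
  have e' : ∀ g, θ g * conj (K g) = θ (tp g) * conj (K (tp g)) := fun g => by
    by_cases hg : tp g = 1
    · rw [L.sec g, hg, hF1, zero_mul, zero_mul]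
    · rw [L.sec g, hKs g hg]
  simp only [L.val] at e
  unfold classInner
  rw [Finset.sum_congr rfl fun g _ => e' g]
  have hG : (Nat.card G : ℂ) ≠ 0 := Nat.cast_ne_zero.2 Nat.card_pos.ne'
  field_simp
  linear_combination e

theorem exists_lifted [Fintype ↥(S : Subgroup G)] {o : Fin 5 → ↥(S : Subgroup G) → ℂ} (F : Fam S m o) (a b : ℤ)
    (v : Fin 5 → ℤ) : ∃ θ c, Lifted S (span S o (a : ℂ) b fun i => (v i : ℂ)) θ c := by
  obtain ⟨θ, hgen, hsec, hval⟩ := exists_sectional S _ (h.span_stable F _ _ _) (h.span_gen F a b v)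
  obtain ⟨c, hc, hcoef⟩ := IsGeneralizedCharacter.exists_coeff hgen
  exact ⟨θ, c, hgen, hsec, hval, hcoef, fun g => by conv_lhs => rw [hc]; simp [Finset.sum_apply]⟩

/-- A linear constituent is principal. -/
theorem eq_principal [IsSimpleGroup G] {χ : IrrCharacter G} (hd : (χ : G → ℂ) 1 = 1) :
    χ = Char.principal G := by
  obtain ⟨f, hf⟩ := exists_hom_of_degree_one (irr_isCharacter χ) hd
  rcases (inferInstance : f.ker.Normal).eq_bot_or_eq_top with e | e
  · exfalso
    obtain ⟨z, hzZ, hz1⟩ := h.exists_invol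
    have hcomm : ∀ a b : G, a * b = b * a := fun a b =>
      (MonoidHom.ker_eq_bot_iff f).1 e (by rw [map_mul, map_mul, mul_comm])
    obtain ⟨x, hx, hx2⟩ : ∃ x ∈ (S : Subgroup G), x * x ≠ 1 := by
      by_contra hall
      simp only [not_exists, not_and, not_not] at hall
      have h4 := h.four
      rw [Nat.card_congr (Equiv.subtypeEquivRight (q := fun x => x ∈ (S : Subgroup G))
        fun x => ⟨fun hx => hx.1, fun hx => ⟨hx, hall x hx⟩⟩)] at h4
      rw [show Nat.card {x // x ∈ (S : Subgroup G)} = 64 from h.card] at h4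
      omega
    obtain ⟨y, -, hy⟩ := h.comm x hx hx2 z hzZ.1 hzZ.2
    rw [hcomm y x, mul_inv_cancel_right, left_eq_mul] at hy
    exact hz1 hy
  · refine Subtype.ext (funext fun g => ?_)
    have : f g = 1 := MonoidHom.mem_ker.1 (e ▸ Subgroup.mem_top g)
    rw [congrFun hf g, this]
    simp [Char.principal]

/-- **The automiser of order 3 does not occur.** -/
theorem false_of_simple [IsSimpleGroup G] : False := by
  classical
  haveI : Fact (Nat.Prime 2) := ⟨Nat.prime_two⟩
  haveI : Fintype ↥(S : Subgroup G) := Fintype.ofFinite _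
  obtain ⟨M, hM⟩ := Blocks.exists_isPModular_witness 2
  haveI : M.IsPrime := hM.2.1.isPrime
  obtain ⟨o, F⟩ := h.exists_fam
  obtain ⟨θT, cT, LT⟩ := h.exists_lifted F 3 0 ![-1, 0, 0, 0, 0]
  obtain ⟨θP, cP, LP⟩ := h.exists_lifted F 0 1 ![-1, -1, -1, -1, 0]
  choose θD cD LD using fun j : Fin 4 => h.exists_lifted F 0 0
    (![![1, -1, 0, 0, 0], ![1, 0, -1, 0, 0], ![1, 0, 0, -1, 0], ![1, 0, 0, 0, -1]] j : Fin 5 → ℤ)
  have eT : (fun i => ((![-1, 0, 0, 0, 0] : Fin 5 → ℤ) i : ℂ)) = tv := by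
    funext i; fin_cases i <;> simp [tv]
  have eP : (fun i => ((![-1, -1, -1, -1, 0] : Fin 5 → ℤ) i : ℂ)) = pv := by
    funext i; fin_cases i <;> simp [pv]
  have eD : ∀ j : Fin 4, (fun i => (((![![1, -1, 0, 0, 0], ![1, 0, -1, 0, 0], ![1, 0, 0, -1, 0],
      ![1, 0, 0, 0, -1]] : Fin 4 → Fin 5 → ℤ) j i : ℤ) : ℂ)) = dv j := fun j => by
    funext i; fin_cases j <;> fin_cases i <;> simp [dv]
  rw [eT] at LT
  rw [eP] at LP
  simp only [eD] at LD
  push_cast at LT LP LD
  have hreal : ∀ (a b : ℤ) (v : Fin 5 → ℤ) (w : Fin 5 → ℂ), (fun i => (v i : ℂ)) = w → ∀ x,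
      conj (span S o (a : ℂ) b w x) = span S o (a : ℂ) b w x := by
    rintro a b v w rfl x; exact h.span_real F a b v x
  have rT : ∀ x, conj (span S o 3 0 tv x) = span S o 3 0 tv x := by
    simpa using hreal 3 0 _ _ eT
  have rP : ∀ x, conj (span S o 0 1 pv x) = span S o 0 1 pv x := by
    simpa using hreal 0 1 _ _ eP
  have rD : ∀ j x, conj (span S o 0 0 (dv j) x) = span S o 0 0 (dv j) x := fun j => by
    simpa using hreal 0 0 _ _ (eD j)
  have oneT : span S o 3 0 tv 1 = 0 := by rw [h.span_one F]; simp [tv, Fin.sum_univ_five]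
  have oneP : span S o 0 1 pv 1 = 0 := by rw [h.span_one F]; simp [pv, Fin.sum_univ_five]; norm_num
  have oneD : ∀ j, span S o 0 0 (dv j) 1 = 0 := fun j => by
    rw [h.span_one F]; fin_cases j <;> simp [dv, Fin.sum_univ_five]
  -- inner products
  have hinner : ∀ {a b a' b' : ℂ} {v v' : Fin 5 → ℂ} {θ θ' : G → ℂ} {c c' : IrrCharacter G → ℤ},
      Lifted S (span S o a b v) θ c → Lifted S (span S o a' b' v') θ' c' → span S o a b v 1 = 0 →
      (∀ x, conj (span S o a' b' v' x) = span S o a' b' v' x) →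
      ((∑ χ, c χ * c' χ : ℤ) : ℂ) = (192 : ℂ)⁻¹ * (64 * (a * a') + 192 * (b * b') + 192 * ∑ i, v i * v' i) := by
    intro a b a' b' v v' θ θ' c c' L L' h1 hr
    have e1 : ∑ x, span S o a b v x * span S o a' b' v' x = ∑ x, span S o a b v x * conj (θ' (x : G)) :=
      Finset.sum_congr rfl fun x _ => by rw [L'.val x, hr x]
    rw [← h.sum_span F, e1,
      ← h.inner_eq L h1 (IsGeneralizedCharacter.isClassFunction L'.gen) (fun g _ => L'.sec g)]
    have e : θ' = ∑ χ : IrrCharacter G, (c' χ : ℂ) • (χ : G → ℂ) := by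
      funext g; rw [L'.eq g]; simp [Finset.sum_apply]
    rw [e, classInner_sum_right, Int.cast_sum]
    refine Finset.sum_congr rfl fun χ _ => ?_
    rw [classInner_smul_right, L.coef, map_intCast, Int.cast_mul, mul_comm]
  have gram : (∑ χ, cT χ * cT χ = 4) ∧ (∑ χ, cP χ * cP χ = 5) ∧ (∑ χ, cT χ * cP χ = 1) ∧
      (∀ j, ∑ χ, cT χ * cD j χ = -1) ∧ (∀ j, ∑ χ, cP χ * cD j χ = if j = 3 then -1 else 0) ∧
      (∀ i j, ∑ χ, cD i χ * cD j χ = if i = j then 2 else 1) := by
    refine ⟨?_, ?_, ?_, fun j => ?_, fun j => ?_, fun i j => ?_⟩ <;>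
      refine (Int.cast_inj (α := ℂ)).1 ?_
    · rw [hinner LT LT oneT rT]; simp [tv, Fin.sum_univ_five]; norm_num
    · rw [hinner LP LP oneP rP]; simp [pv, Fin.sum_univ_five]; norm_num
    · rw [hinner LT LP oneT rP]; simp [tv, pv, Fin.sum_univ_five]
    · rw [hinner LT (LD j) oneT (rD j)]; fin_cases j <;> simp [tv, dv, Fin.sum_univ_five]
    · rw [hinner LP (LD j) oneP (rD j)]; fin_cases j <;> simp [pv, dv, Fin.sum_univ_five]
    · rw [hinner (LD i) (LD j) (oneD i) (rD j)]
      fin_cases i <;> fin_cases j <;> simp [dv, Fin.sum_univ_five] <;> norm_num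
  obtain ⟨gTT, gPP, gTP, gTD, gPD, gDD⟩ := gram
  -- the principal character
  have hp : ∀ {a b : ℂ} {v : Fin 5 → ℂ} {θ : G → ℂ} {c : IrrCharacter G → ℤ},
      Lifted S (span S o a b v) θ c → span S o a b v 1 = 0 → (c (Char.principal G) : ℂ) = a / 3 := by
    intro a b v θ c L h1
    have hone : (fun _ => (1 : ℂ)) = span S o 1 0 (fun _ => 0) := by funext x; simp [span]
    rw [← L.coef, show ((Char.principal G : IrrCharacter G) : G → ℂ) = fun _ => 1 from rfl,
      h.inner_eq L h1 (fun _ _ => rfl) fun _ _ => rfl,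
      Finset.sum_congr rfl fun x _ => by rw [map_one, ← show span S o 1 0 (fun _ => 0) x = 1 from
        (congrFun hone x).symm], h.sum_span F]
    simp only [mul_zero, add_zero, Finset.sum_const_zero, mul_one]
    ring
  have hTp : cT (Char.principal G) = 1 := by
    have := hp LT oneT; norm_num at this; exact_mod_cast this
  have hPp : cP (Char.principal G) = 0 := by
    have := hp LP oneP; norm_num at this; exact_mod_cast this
  have hDp : ∀ j, cD j (Char.principal G) = 0 := fun j => by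
    have := hp (LD j) (oneD j); norm_num at this; exact_mod_cast this
  -- the star
  have hdiff : ∀ j, ∃ μ ν : IrrCharacter G, μ ≠ ν ∧
      ∀ χ, cD j χ = (if χ = μ then 1 else 0) - (if χ = ν then 1 else 0) := by
    intro j
    have hn : classInner (θD j) (θD j) = 2 := by
      rw [IsGeneralizedCharacter.norm_eq (c := cD j) (by funext g; rw [(LD j).eq g]; simp [Finset.sum_apply]),
        gDD j j, if_pos rfl]; norm_num
    obtain ⟨μ, ν, hne, e⟩ := IsGeneralizedCharacter.of_norm_two (LD j).gen hn (by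
      rw [show (1 : G) = ((1 : ↥(S : Subgroup G)) : G) from rfl, (LD j).val, oneD])
    refine ⟨μ, ν, hne, fun χ => (Int.cast_inj (α := ℂ)).1 ?_⟩
    rw [← (LD j).coef, e, classInner_sub_left, classInner_irr μ.2 χ.2, classInner_irr ν.2 χ.2]
    simp only [← Subtype.ext_iff, eq_comm (a := μ), eq_comm (a := ν)]
    push_cast
    rfl
  choose μ ν hne hμν using hdiff
  have hstar : ∀ i j, i ≠ j → ((if μ i = μ j then 1 else 0) - (if μ i = ν j then 1 else 0) -
      (if ν i = μ j then 1 else 0) + (if ν i = ν j then 1 else 0) : ℤ) = 1 := by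
    intro i j hij
    have e := gDD i j
    rw [if_neg hij] at e
    simp only [hμν i, sub_mul, ite_mul, one_mul, zero_mul, Finset.sum_sub_distrib, Finset.sum_ite_eq',
      Finset.mem_univ, if_true, hμν j] at e
    linarith
  obtain ⟨e, X, he, hX, hXmem, hXD⟩ := star μ ν hne hstar
  have hD : ∀ j χ, cD j χ = e * ((if χ = X 0 then 1 else 0) - (if χ = X j.succ then 1 else 0)) := fun j χ => by
    rw [hμν, hXD]
  have hXp : ∀ k, X k ≠ Char.principal G := by
    intro k hk
    obtain ⟨j, hj⟩ := hXmem k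
    have h0 := hDp j
    rw [hμν, ← hk] at h0
    rcases hj with hj | hj <;> rw [hj] at h0
    · rw [if_pos rfl, if_neg (hne j)] at h0; omega
    · rw [if_pos rfl, if_neg (hne j).symm] at h0; omega
  obtain ⟨Y, Y', hYp, hY'p, hTX, hu, hv, hsum, hcases⟩ :=
    shape he hX hXp hD hTp gTT gPP gTP hPp gTD gPD
  -- the values
  obtain ⟨z, hzZ, hz1⟩ := h.exists_invol
  have hz2 : orderOf z = 2 := orderOf_two hzZ.2 hz1
  have hB : ∀ χ, cT χ ≠ 0 → χ ∈ principalBlock M G := fun χ hne =>
    mem_principalBlock_of_sectional hM LT.sec (by rw [LT.coef]; exact_mod_cast hne)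
  have hcoef : ∀ χ ∈ principalBlock M G, ∀ {f : ↥(S : Subgroup G) → ℂ} {θ : G → ℂ} {c : IrrCharacter G → ℤ},
      Lifted S f θ c → f 1 = 0 → (c χ : ℂ) = (192 : ℂ)⁻¹ * ∑ x, f x * conj ((χ : G → ℂ) (x : G)) := by
    intro χ hχ f θ c L h1
    rw [← L.coef, h.inner_eq L h1 (IsCharacter.isClassFunction (irr_isCharacter χ))
      fun g hg => h.block_sectional hM hχ hg]
  have hvals : ∀ χ ∈ principalBlock M G, (χ : G → ℂ) z = (zc cT cP cD χ : ℤ) ∧
      ∃ k : ℤ, (χ : G → ℂ) 1 + (kc cT cP cD χ : ℤ) = 64 * k := by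
    intro χ hχ
    obtain ⟨K, hK⟩ : ∃ K : ↥(S : Subgroup G) → ℂ, ∀ x : ↥(S : Subgroup G), conj ((χ : G → ℂ) (x : G)) = K x := ⟨_, fun _ => rfl⟩
    have eT' := hcoef χ hχ LT oneT
    have eP' := hcoef χ hχ LP oneP
    have eD' := fun j => hcoef χ hχ (LD j) (oneD j)
    simp only [hK] at eT' eP' eD'
    have hlin : ∀ w1 w2 w3 w4 : ℂ, (w1 * cT χ + w2 * cP χ + w3 * (cD 0 χ + cD 1 χ + cD 2 χ) + w4 * cD 3 χ) =
        (192 : ℂ)⁻¹ * ∑ x, (w1 * span S o 3 0 tv x + w2 * span S o 0 1 pv x +
          w3 * (span S o 0 0 (dv 0) x + span S o 0 0 (dv 1) x + span S o 0 0 (dv 2) x) +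
          w4 * span S o 0 0 (dv 3) x) * K x := by
      intro w1 w2 w3 w4
      simp only [eT', eP', eD', add_mul, Finset.sum_add_distrib, mul_assoc, ← Finset.mul_sum]
      ring
    have hpt : ∀ x : ↥(S : Subgroup G),
        (span S o 3 0 tv x + -4 * span S o 0 1 pv x + 1 * (span S o 0 0 (dv 0) x + span S o 0 0 (dv 1) x +
          span S o 0 0 (dv 2) x) + -3 * span S o 0 0 (dv 3) x = if x ≠ 1 ∧ x * x = 1 then 64 else 0) ∧
        (63 * span S o 3 0 tv x + -12 * span S o 0 1 pv x + 15 * (span S o 0 0 (dv 0) x + span S o 0 0 (dv 1) x +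
          span S o 0 0 (dv 2) x) + 3 * span S o 0 0 (dv 3) x = if x ≠ 1 then 192 else 0) := by
      intro x
      have hsumo : ∑ i, o i x = if x * x = 1 then 15 else -1 := by
        split_ifs with h2
        · rw [Finset.sum_congr rfl fun i _ => F.onZ i x h2]; simp; norm_num
        · exact F.total x h2
      simp only [span, tv, pv, dv, Fin.sum_univ_five, Matrix.cons_val_zero, Matrix.cons_val_one,
        Matrix.cons_val]
      rw [Fin.sum_univ_five] at hsumo
      by_cases h1 : x = 1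
      · subst h1
        simp only [psi, if_true, one_mul, ne_eq, not_true_eq_false, false_and, if_false] at hsumo ⊢
        constructor
        · linear_combination 3 * hsumo
        · linear_combination -3 * hsumo
      · by_cases h2 : x * x = 1
        · simp only [psi, h1, h2, if_false, if_true, ne_eq, not_false_eq_true, and_self] at hsumo ⊢
          constructor
          · linear_combination 3 * hsumo
          · linear_combination -3 * hsumo
        · simp only [psi, h1, h2, if_false, ne_eq, not_false_eq_true, and_false, if_true] at hsumo ⊢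
          constructor
          · linear_combination 3 * hsumo
          · linear_combination -3 * hsumo
    constructor
    · have hall : ∀ x ∈ Finset.univ.filter (fun x : ↥(S : Subgroup G) => x ≠ 1 ∧ x * x = 1),
          K x = (χ : G → ℂ) z := by
        intro x hx
        obtain ⟨hx1, hx2⟩ := (Finset.mem_filter.1 hx).2
        obtain ⟨i, hi⟩ := h.exists_pow hzZ hz1 (w' := (x : G)) ⟨x.2, congrArg Subtype.val hx2⟩
          (fun e => hx1 (Subtype.ext e))
        rw [← hK, ← hi, IsCharacter.isClassFunction (irr_isCharacter χ), ← IsCharacter.inv (irr_isCharacter χ),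
          inv_eq_of_mul_eq_one_right hzZ.2]
      have hcard : (Finset.univ.filter (fun x : ↥(S : Subgroup G) => x ≠ 1 ∧ x * x = 1)).card = 3 := by
        rw [show Finset.univ.filter (fun x : ↥(S : Subgroup G) => x ≠ 1 ∧ x * x = 1) =
          (Finset.univ.filter fun x : ↥(S : Subgroup G) => x * x = 1).erase 1 by ext; simp,
          Finset.card_erase_of_mem (by simp), h.card_inv_filter]
      have e1 := hlin 1 (-4) 1 (-3)
      rw [Finset.sum_congr rfl fun x _ => by rw [one_mul, (hpt x).1, ite_mul, zero_mul], ← Finset.sum_filter,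
        Finset.sum_congr rfl fun x hx => by rw [hall x hx], Finset.sum_const, hcard, nsmul_eq_mul] at e1
      simp only [zc]
      push_cast at e1 ⊢
      linear_combination -e1
    · have e1 := hlin 63 (-12) 15 3
      rw [Finset.sum_congr rfl fun x _ => by rw [(hpt x).2, ite_mul, zero_mul], ← Finset.sum_filter,
        ← Finset.mul_sum, Finset.filter_ne' Finset.univ (1 : ↥(S : Subgroup G)), Finset.sum_erase_eq_sub
          (Finset.mem_univ _)] at e1
      obtain ⟨n, hn⟩ := IsGeneralizedCharacter.exists_classInner_int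
        (IsGeneralizedCharacter.of_isCharacter (isCharacter_one (G := ↥(S : Subgroup G))))
        (IsGeneralizedCharacter.of_isCharacter (IsCharacter.restrict (irr_isCharacter χ) (S : Subgroup G)))
      unfold classInner at hn
      rw [h.card] at hn
      simp only [one_mul, hK] at hn
      have hd : K 1 = (χ : G → ℂ) 1 := by
        rw [← hK]; show conj ((χ : G → ℂ) 1) = _
        rw [CharX.irr_deg, map_natCast]
      rw [hd] at e1
      refine ⟨n, ?_⟩
      simp only [kc]
      push_cast at e1 hn ⊢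
      linear_combination e1 + 64 * hn
  -- degrees
  obtain ⟨deg, hdeg⟩ : ∃ deg : IrrCharacter G → ℕ, ∀ χ : IrrCharacter G,
      (χ : G → ℂ) 1 = (deg χ : ℂ) ∧ 0 < deg χ :=
    ⟨fun χ => charDegree (χ : G → ℂ), fun χ => ⟨CharX.irr_deg χ, CharX.irr_deg_pos χ⟩⟩
  have hcong : ∀ χ, cT χ ≠ 0 → (64 : ℤ) ∣ (deg χ : ℤ) + kc cT cP cD χ := fun χ hne => by
    obtain ⟨k, hk⟩ := (hvals χ (hB χ hne)).2
    rw [(hdeg χ).1] at hk
    exact ⟨k, by exact_mod_cast hk⟩
  -- the identity
  have hid : ∑ χ, (cT χ : ℚ) * ((zc cT cP cD χ : ℚ) ^ 2 / (deg χ : ℚ)) = 0 := by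
    have h0 : ∑ χ : IrrCharacter G, (cT χ : ℂ) * ((χ : G → ℂ) z * (χ : G → ℂ) z / (χ : G → ℂ) 1) = 0 := by
      rw [sum_weighted]
      refine average_const fun j => ?_
      rw [← LT.eq, LT.sec]
      have ho : orderOf (j⁻¹ * z * j) = 2 := by
        rw [show j⁻¹ * z * j = j⁻¹ * z * j⁻¹⁻¹ by group, BrauerSuzuki.orderOf_conj_eq, hz2]
      obtain ⟨k, hk⟩ := exists_conj_mem S (tp_two_elt (j⁻¹ * z * j * z))
      have hsq : (⟨_, hk⟩ : ↥(S : Subgroup G)) * ⟨_, hk⟩ = 1 := Subtype.ext (by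
        show k * tp _ * k⁻¹ * (k * tp _ * k⁻¹) = 1
        rw [conj_mul, h.tp_product ho hz2, mul_one, mul_inv_cancel])
      rw [← IsGeneralizedCharacter.isClassFunction LT.gen _ k,
        show k * tp (j⁻¹ * z * j * z) * k⁻¹ = ((⟨_, hk⟩ : ↥(S : Subgroup G)) : G) from rfl, LT.val]
      simp only [span, tv, Fin.sum_univ_five, Matrix.cons_val_zero, Matrix.cons_val_one, Matrix.cons_val,
        zero_mul, add_zero, neg_mul, one_mul, F.onZ _ _ hsq]
      ring
    have h1 : ((∑ χ, (cT χ : ℚ) * ((zc cT cP cD χ : ℚ) ^ 2 / (deg χ : ℚ)) : ℚ) : ℂ) = 0 := by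
      rw [← h0, Rat.cast_sum]
      refine Finset.sum_congr rfl fun χ _ => ?_
      by_cases hne : cT χ = 0
      · simp [hne]
      · rw [(hvals χ (hB χ hne)).1, (hdeg χ).1]
        push_cast
        ring
    exact_mod_cast h1
  rw [hsum] at hid
  have hY0 : cT Y ≠ 0 := by omega
  have hY'0 : cT Y' ≠ 0 := by omega
  have hX0 : cT (X 0) ≠ 0 := by omega
  have hne1 : ∀ χ : IrrCharacter G, χ ≠ Char.principal G → deg χ ≠ 1 := fun χ hχ hd => hχ
    (h.eq_principal (by rw [(hdeg χ).1, hd, Nat.cast_one]))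
  have zp : zc cT cP cD (Char.principal G) = 1 := by simp [zc, hTp, hPp, hDp]
  have dp : deg (Char.principal G) = 1 := by
    have := (hdeg (Char.principal G)).1
    simp only [Char.principal] at this
    exact_mod_cast this.symm
  obtain ⟨D, hDdef⟩ : ∃ D : ℤ, D = e * (deg (X 0) : ℤ) := ⟨_, rfl⟩
  obtain ⟨A, hAdef⟩ : ∃ A : ℤ, A = cT Y * (deg Y : ℤ) := ⟨_, rfl⟩
  obtain ⟨B, hBdef⟩ : ∃ B : ℤ, B = cT Y' * (deg Y' : ℤ) := ⟨_, rfl⟩
  have cX := hcong _ hX0
  have cY := hcong _ hY0
  have cY' := hcong _ hY'0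
  have p1 := (hdeg (X 0)).2
  have hA1 : A ≠ 1 := fun hA => hne1 Y hYp (by
    rcases hu with c | c <;> rw [hAdef, c] at hA <;> omega)
  have hB1 : B ≠ 1 := fun hB' => hne1 Y' hY'p (by
    rcases hv with c | c <;> rw [hBdef, c] at hB' <;> omega)
  have inv : ∀ (a : ℤ) (q : ℚ) (d : ℕ), a = 1 ∨ a = -1 → (a : ℚ) * (q / d) = q / ((a * d : ℤ) : ℚ) := by
    intro a q d ha
    rcases ha with rfl | rfl <;> push_cast <;> ring
  rcases hcases with ⟨z0, k0, z1, k1, z2, k2⟩ | ⟨z0, k0, z1, k1, z2, k2⟩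
  · rw [k0] at cX
    rw [k1] at cY
    rw [k2] at cY'
    have c0 : 64 ∣ D - 3 := by rcases he with c | c <;> rw [c] at cX hDdef <;> omega
    have c1 : 64 ∣ A - 1 := by rcases hu with c | c <;> rw [c] at cY hAdef <;> omega
    have c2 : 64 ∣ B - 1 := by rcases hv with c | c <;> rw [c] at cY' hBdef <;> omega
    refine no_first c0 c1 c2 hA1 hB1 ?_
    rw [inv e _ _ he, inv (cT Y) _ _ hu, inv (cT Y') _ _ hv, ← hDdef, ← hAdef, ← hBdef, zp, dp, z0, z1, z2] at hid
    have e2 : (e : ℚ) ^ 2 = 1 := by rcases he with c | c <;> rw [c] <;> norm_num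
    have u2 : (cT Y : ℚ) ^ 2 = 1 := by rcases hu with c | c <;> rw [c] <;> norm_num
    have v2 : (cT Y' : ℚ) ^ 2 = 1 := by rcases hv with c | c <;> rw [c] <;> norm_num
    push_cast at hid
    rw [mul_pow, e2, u2, v2] at hid
    norm_num at hid ⊢
    linarith
  · rw [k0] at cX
    rw [k1] at cY
    rw [k2] at cY'
    have c0 : 64 ∣ D - 15 := by rcases he with c | c <;> rw [c] at cX hDdef <;> omega
    have c1 : 64 ∣ A - 13 := by rcases hu with c | c <;> rw [c] at cY hAdef <;> omega
    have c2 : 64 ∣ B - 1 := by rcases hv with c | c <;> rw [c] at cY' hBdef <;> omega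
    refine no_second c0 c1 c2 hB1 ?_
    rw [inv e _ _ he, inv (cT Y) _ _ hu, inv (cT Y') _ _ hv, ← hDdef, ← hAdef, ← hBdef, zp, dp, z0, z1, z2] at hid
    have e2 : (e : ℚ) ^ 2 = 1 := by rcases he with c | c <;> rw [c] <;> norm_num
    have u2 : (cT Y : ℚ) ^ 2 = 1 := by rcases hu with c | c <;> rw [c] <;> norm_num
    have v2 : (cT Y' : ℚ) ^ 2 = 1 := by rcases hv with c | c <;> rw [c] <;> norm_num
    push_cast at hid
    rw [neg_sq, mul_pow, e2, u2, v2] at hid
    norm_num at hid ⊢
    linarith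

end C3Cfg

/-- A simple group has no configuration with automiser of order 3. -/
theorem false_of_simple {X : Type u} [Group X] [Finite X] [IsSimpleGroup X] {T : Sylow 2 X} {c : X}
    (h : C3Cfg T c) : False := by
  haveI : Fintype X := Fintype.ofFinite X
  exact h.false_of_simple

end Cfsg.Agent.U34Three
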