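import Cfsg.Agent.S1238
import Cfsg.Agent.S0949
import Cfsg.Agent.Lib.McLTwoA8.Isolated

/-!
A simple group whose Sylow 2-subgroup has exactly three involutions has one of the type of `U₃(4)`.
-/

set_option autoImplicit false
set_option linter.style.haveILetI false
set_option linter.unusedSectionVars false

namespace Cfsg.Agent.U34Group

open Subgroup

universe u

theorem dih_two_comm : ∀ a b : DihedralGroup 2, a * b = b * a := by decide

/-- Two involutions not commuting in a dihedral group of order at least 8. -/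
theorem dih_noncomm {m : ℕ} (hm : 3 ≤ m) :
    ∃ a b : DihedralGroup m, a * a = 1 ∧ b * b = 1 ∧ a * b ≠ b * a := by
  refine ⟨.sr 0, .sr 1, by simp, by simp, fun h => ?_⟩
  simp only [DihedralGroup.sr_mul_sr] at h
  have h1 : ((2 : ℕ) : ZMod m) = 0 := by
    have := DihedralGroup.r.inj h
    push_cast
    linear_combination this
  rw [ZMod.natCast_eq_zero_iff] at h1
  have := Nat.le_of_dvd (by norm_num) h1
  omega

/-- Two involutions not commuting in a quasi-dihedral group. -/
theorem quasi_noncomm {T : Type*} [Group T] (h : Cfsg.IsQuasiDihedral T) :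
    ∃ a b : T, a * a = 1 ∧ b * b = 1 ∧ a * b ≠ b * a := by
  obtain ⟨n, hn, -, x, y, hx, hy, hxy⟩ := h
  have hy2 : y * y = 1 := by rw [← pow_two, ← hy, pow_orderOf_eq_one]
  refine ⟨y, x * y * x⁻¹, hy2, by rw [conj_mul, hy2, mul_one, mul_inv_cancel], fun h => ?_⟩
  set k := 2 ^ (n - 1) - 1 with hk
  have h4 : 4 ≤ 2 ^ (n - 1) := le_trans (by norm_num) (Nat.pow_le_pow_right two_pos (show 2 ≤ n - 1 by omega))
  set d := x * y * x⁻¹ * y⁻¹ with hd
  have hdd : d * d = 1 := by
    have hyi : y⁻¹ = y := inv_eq_of_mul_eq_one_right hy2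
    rw [hd, hyi]
    calc x * y * x⁻¹ * y * (x * y * x⁻¹ * y) = x * y * x⁻¹ * (y * (x * y * x⁻¹)) * y := by group
      _ = x * y * x⁻¹ * (x * y * x⁻¹ * y) * y := by rw [h]
      _ = x * (y * y) * x⁻¹ * (y * y) := by group
      _ = 1 := by rw [hy2, mul_one, mul_one, mul_inv_cancel]
  have hde : d = (x ^ (k - 1))⁻¹ := by
    have e : y * x⁻¹ * y⁻¹ = (x ^ k)⁻¹ := by rw [← hxy]; group
    have e2 : x ^ k = x ^ (k - 1) * x := by rw [← pow_succ]; congr 1; omega
    calc d = x * (y * x⁻¹ * y⁻¹) := by rw [hd]; group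
      _ = (x ^ (k - 1))⁻¹ := by rw [e, e2]; group
  rw [hde, ← mul_inv_rev, inv_eq_one, ← pow_add] at hdd
  have h1 := orderOf_dvd_of_pow_eq_one hdd
  rw [hx] at h1
  have h2 : 2 ^ n = 2 * 2 ^ (n - 1) := by rw [← pow_succ']; congr 1; omega
  have h3 : 2 ^ n ∣ 4 := by
    have := Nat.dvd_sub (dvd_refl (2 ^ n)) h1
    rwa [show 2 ^ n - (k - 1 + (k - 1)) = 4 by omega] at this
  have := Nat.le_of_dvd (by norm_num) h3
  omega

/-- Two involutions not commuting in a wreathed group. -/
theorem wreathed_noncomm {T : Type*} [Group T] (h : Cfsg.IsWreathed T) :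
    ∃ a b : T, a * a = 1 ∧ b * b = 1 ∧ a * b ≠ b * a := by
  obtain ⟨n, hn, -, x, y, z, hx, hxy, hbot, hz, hzxy⟩ := h
  have hz2 : z * z = 1 := by rw [← pow_two, ← hz, pow_orderOf_eq_one]
  refine ⟨z, x * z * x⁻¹, hz2, by rw [conj_mul, hz2, mul_one, mul_inv_cancel], fun h => ?_⟩
  have hzi : z⁻¹ = z := inv_eq_of_mul_eq_one_right hz2
  have e : x * z * x⁻¹ * z = x * y⁻¹ := by rw [← hzxy, hzi]; group; simp [zpow_neg_one, hzi]
  have h1 : x * y⁻¹ * (x * y⁻¹) = 1 := by
    rw [← e]
    calc x * z * x⁻¹ * z * (x * z * x⁻¹ * z) = x * z * x⁻¹ * (z * (x * z * x⁻¹)) * z := by group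
      _ = x * z * x⁻¹ * (x * z * x⁻¹ * z) * z := by rw [h]
      _ = x * (z * z) * x⁻¹ * (z * z) := by group
      _ = 1 := by rw [hz2, mul_one, mul_one, mul_inv_cancel]
  have h2 : x * x = y * y := by
    have hc : Commute x y := hxy
    rw [mul_assoc, ← mul_assoc y⁻¹, ← hc.inv_right.eq, mul_assoc x, ← mul_assoc, ← mul_inv_rev,
      mul_inv_eq_one] at h1
    exact h1
  have h3 : x * x ∈ zpowers x ⊓ zpowers y :=
    ⟨mul_mem (mem_zpowers x) (mem_zpowers x), h2 ▸ mul_mem (mem_zpowers y) (mem_zpowers y)⟩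
  rw [hbot, mem_bot, ← pow_two] at h3
  have h4 := Nat.le_of_dvd (by norm_num) (orderOf_dvd_of_pow_eq_one h3)
  rw [hx] at h4
  have h5 : 4 ≤ 2 ^ n := le_trans (by norm_num) (Nat.pow_le_pow_right two_pos hn)
  omega

/-- A simple group whose Sylow 2-subgroup has exactly three involutions. -/
theorem type_of_four {G : Type u} [Group G] [Finite G] [IsSimpleGroup G] (S : Sylow 2 G) {E : Subgroup G}
    (hES : E ≤ (S : Subgroup G)) (hE4 : Nat.card E = 4) (hE : ∀ x ∈ E, x * x = 1)
    (hinv : ∀ x ∈ (S : Subgroup G), x * x = 1 → x ∈ E)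
    (hna : ∃ a ∈ (S : Subgroup G), ∃ b : G, a * b ≠ b * a)
    {F : Type*} [Field F] [Fintype F] (hF : Fintype.card F = 16) (P : Sylow 2 (Cfsg.PSU 3 F 4)) :
    (∀ a ∈ (S : Subgroup G), ∀ b ∈ (S : Subgroup G), a * b = b * a) ∧ Nat.card (S : Subgroup G) = 4 ∨
      Nonempty ((S : Subgroup G) ≃* (P : Subgroup (Cfsg.PSU 3 F 4))) := by
  classical
  haveI : Fact (Nat.Prime 2) := ⟨Nat.prime_two⟩
  obtain ⟨a, haS, b, hab⟩ := hna
  have hcenter : center G = ⊥ := (inferInstance : (center G).Normal).eq_bot_or_eq_top.resolve_right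
    fun h => hab (mem_center_iff.1 (h ▸ mem_top a : a ∈ center G) b).symm
  have hEc : ∀ x ∈ E, ∀ y ∈ E, x * y = y * x := fun x hx y hy => by
    have h1 : x⁻¹ = x := inv_eq_of_mul_eq_one_right (hE x hx)
    have h2 : y⁻¹ = y := inv_eq_of_mul_eq_one_right (hE y hy)
    rw [← inv_eq_of_mul_eq_one_right (hE _ (mul_mem hx hy)), mul_inv_rev, h1, h2]
  have hcomm : ∀ x ∈ (S : Subgroup G), ∀ y ∈ (S : Subgroup G), x * x = 1 → y * y = 1 → x * y = y * x :=
    fun x hx y hy hx2 hy2 => hEc x (hinv x hx hx2) y (hinv y hy hy2)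
  have hdata : ∀ {T : Type u} [Group T] (e : (S : Subgroup G) ≃* T) (p q : T),
      p * p = 1 → q * q = 1 → p * q = q * p := by
    intro T _ e p q hp hq
    have h1 : ∀ r : T, r * r = 1 → ((e.symm r : (S : Subgroup G)) : G) * (e.symm r : (S : Subgroup G)) = 1 :=
      fun r hr => by rw [← Subgroup.coe_mul, ← map_mul, hr, map_one, Subgroup.coe_one]
    exact e.symm.injective (Subtype.ext (by
      rw [map_mul, map_mul]
      exact hcomm _ (e.symm p).2 _ (e.symm q).2 (h1 p hp) (h1 q hq)))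
  have h2 : Cfsg.PRankLE 2 2 G := by
    intro A hAc hA
    have hA' : IsPGroup 2 A := fun a => ⟨1, Subtype.ext (by
      rw [SubgroupClass.coe_pow, Subgroup.coe_one, pow_one]; exact hA a a.2)⟩
    obtain ⟨Q, hQ⟩ := hA'.exists_le_sylow
    obtain ⟨g, hg⟩ := MulAction.exists_smul_eq G Q S
    have hgm : ∀ x ∈ A, g * x * g⁻¹ ∈ E := fun x hx => by
      refine hinv _ ?_ (by rw [conj_mul, ← pow_two, hA x hx, mul_one, mul_inv_cancel])
      rw [← hg, Sylow.smul_def, Sylow.pointwise_smul_def]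
      exact Subgroup.smul_mem_pointwise_smul _ _ _ (hQ hx)
    rw [show 2 ^ 2 = Nat.card E by rw [hE4]; norm_num]
    exact Nat.card_le_card_of_injective (fun x : A => (⟨g * x * g⁻¹, hgm x x.2⟩ : E))
      fun x y e => Subtype.ext (mul_left_cancel (mul_right_cancel (congrArg Subtype.val e)))
  have h1 : ¬ Cfsg.PRankLE 2 1 G := fun h => by
    have := h E ⟨⟨fun x y => Subtype.ext (hEc x x.2 y y.2)⟩⟩ fun x hx => by rw [pow_two]; exact hE x hx
    rw [hE4] at this
    norm_num at this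
  have hidx : ∀ H : Subgroup G, H.index ≠ 2 := by
    intro H hH
    haveI := Subgroup.normal_of_index_eq_two hH
    rcases (inferInstance : H.Normal).eq_bot_or_eq_top with h | h
    · rw [h, index_bot] at hH
      have h4 := card_subgroup_dvd_card E
      rw [hE4, hH] at h4
      norm_num at h4
    · rw [h, index_top] at hH
      omega
  have hiso : ∀ z : G, ¬ Cfsg.IsIsolatedInvolution z := by
    rintro z ⟨hz, hiso⟩
    have htop := McLTwoA8.sup_oddCore_of_isolated z hz hiso
    haveI hOn := FittingCores.pPrimeCore_normal (G := G) 2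
    rcases hOn.eq_bot_or_eq_top with hO | hO
    · rw [show Cfsg.oddCore G = ⊥ from hO, sup_bot_eq] at htop
      have hzc : z ∈ center G := mem_center_iff.2 fun g =>
        mem_centralizer_singleton_iff.1 (htop ▸ mem_top g)
      rw [hcenter, mem_bot] at hzc
      rw [hzc, orderOf_one] at hz
      omega
    · have h3 := FittingCores.pPrimeCore_coprime (G := G) 2
      rw [hO, card_top] at h3
      have h4 := card_subgroup_dvd_card E
      rw [hE4] at h4
      exact absurd (Nat.eq_one_of_dvd_coprimes h3 ((show 2 ∣ 4 by norm_num).trans h4) dvd_rfl) (by norm_num)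
  rcases S1238.result h2 h1 hidx hiso S hF P with ⟨m, hm, ⟨e⟩⟩ | hq | hw | ⟨n, hn, ⟨e⟩⟩ | h
  · rcases Nat.lt_or_ge m 3 with hm3 | hm3
    · obtain rfl : m = 2 := by omega
      refine Or.inl ⟨fun p hp q hq => ?_, by rw [Nat.card_congr e.toEquiv, DihedralGroup.nat_card]⟩
      have h := e.injective (show e (⟨p, hp⟩ * ⟨q, hq⟩) = e (⟨q, hq⟩ * ⟨p, hp⟩) by
        rw [map_mul, map_mul, dih_two_comm])
      exact congrArg Subtype.val h
    · obtain ⟨p, q, hp, hq, hpq⟩ := dih_noncomm hm3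
      exact absurd (hdata (e.trans MulEquiv.ulift.symm) ⟨p⟩ ⟨q⟩ (congrArg ULift.up hp) (congrArg ULift.up hq))
        fun h => hpq (congrArg ULift.down h)
  · obtain ⟨p, q, hp, hq', hpq⟩ := quasi_noncomm hq
    exact absurd (hdata (MulEquiv.refl _) p q hp hq') hpq
  · obtain ⟨p, q, hp, hq', hpq⟩ := wreathed_noncomm hw
    exact absurd (hdata (MulEquiv.refl _) p q hp hq') hpq
  · exfalso
    obtain ⟨hn', -, -⟩ := S0949.result S n hn e fun N hN hodd =>
      hN.eq_bot_or_eq_top.resolve_right fun h => by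
        rw [h, card_top] at hodd
        have h4 := card_subgroup_dvd_card E
        rw [hE4] at h4
        exact Nat.not_even_iff_odd.2 hodd (even_iff_two_dvd.2 ((show 2 ∣ 4 by norm_num).trans h4))
    rcases hn'.eq_bot_or_eq_top with h | h
    · have h4 := card_dvd_of_le hES
      rw [h, hE4, card_bot] at h4
      norm_num at h4
    · refine hab ?_
      have hb : b ∈ (S : Subgroup G) := h ▸ mem_top b
      have h5 := e.injective (show e (⟨a, haS⟩ * ⟨b, hb⟩) = e (⟨b, hb⟩ * ⟨a, haS⟩) by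
        rw [map_mul, map_mul, mul_comm])
      exact congrArg Subtype.val h5
  · exact Or.inr h

end Cfsg.Agent.U34Group
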