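import Cfsg.Agent.Lib.U34Rec.Config
import Cfsg.Agent.Lib.U34Rec.ThreeMain
import Cfsg.Agent.Lib.U34Rec.BlockHalf
import Cfsg.Agent.Lib.U34Rec.BlockAbsurd
import Cfsg.Agent.Lib.U34Rec.Finish
import Cfsg.Agent.Lib.U34Rec.Types

/-!
Recognition of `U₃(4)` from the type of its Sylow 2-subgroup, simple and reduced forms.
-/

set_option autoImplicit false
set_option linter.style.haveILetI false
set_option linter.unusedSectionVars false

namespace Cfsg.Agent.U34Group

open Subgroup

universe u

variable {G : Type u} [Group G] [Finite G] {S : Sylow 2 G}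

/-- A simple group with a Sylow 2-subgroup of the type has the configuration of the automiser of order 15. -/
theorem exists_cfg [IsSimpleGroup G] (hS : Shape (S : Subgroup G)) : ∃ z, U34Block.Cfg S z := by
  rcases dichotomy hS with h | ⟨m, hm⟩
  · exact h
  · exact (U34Three.false_of_simple hm).elim

/-- A strongly embedded subgroup. -/
theorem exists_se [IsSimpleGroup G] (hS : Shape (S : Subgroup G)) : ∃ H : Subgroup G, Cfsg.IsStronglyEmbedded H := by
  obtain ⟨z, hz⟩ := exists_cfg hS
  exact hz.exists_stronglyEmbedded (hz.exists_char_of fun ι _ D => D.absurd)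

/-- The recognition of the simple group. -/
theorem recognition [IsSimpleGroup G] (hS : Shape (S : Subgroup G)) {F : Type*} [Field F] [Fintype F]
    (hF : Fintype.card F = 16) : Nonempty (G ≃* Cfsg.PSU 3 F 4) := by
  obtain ⟨z, hz⟩ := exists_cfg hS
  exact hz.psu_of_stronglyEmbedded (exists_se hS) hF

end Cfsg.Agent.U34Group
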