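import Cfsg.Agent.Lib.U34Rec.CenZ

/-!
A Sylow 2-subgroup `S` of the type of `U₃(4)`: `N(S) ∩ C(Z)` induces a group of order one or five on `S ⧸ Z`,
the latter semiregularly.
-/

set_option autoImplicit false
set_option linter.style.haveILetI false
set_option linter.unusedSectionVars false

namespace Cfsg.Agent.U34Group

open Subgroup
open Cfsg.Agent.U34Block (oddPart)

universe u

variable {G : Type u} [Group G]

/-- `N(S) ∩ C(Z)`. -/
def NK (S : Subgroup G) : Subgroup G := centralizer (Zs S : Set G) ⊓ normalizer (S : Set G)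

/-- Acting trivially on `S ⧸ Z`. -/
def Triv (S : Subgroup G) (n : G) : Prop := ∀ x ∈ S, n * x * n⁻¹ * x⁻¹ ∈ Zs S

variable [Finite G] {S : Sylow 2 G} (hS : Shape (S : Subgroup G))
include hS

theorem conj_mem_S {n y : G} (hn : n ∈ normalizer ((S : Subgroup G) : Set G)) (hy : y ∈ (S : Subgroup G)) :
    n * y * n⁻¹ ∈ (S : Subgroup G) := (mem_normalizer_iff.1 hn y).1 hy

theorem NK_fix {n w : G} (hn : n ∈ NK (S : Subgroup G)) (hw : w ∈ Zs (S : Subgroup G)) :
    n * w * n⁻¹ = w := by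
  rw [← mem_centralizer_iff.1 hn.1 w hw, mul_inv_cancel_right]

/-- A 2-element normalising `S` lies in `S`. -/
theorem two_part_mem {a : G} {k : ℕ} (ha : orderOf a = 2 ^ k) (hn : a ∈ normalizer ((S : Subgroup G) : Set G)) :
    a ∈ (S : Subgroup G) := by
  haveI : Fact (Nat.Prime 2) := ⟨Nat.prime_two⟩
  have ha2 : IsPGroup 2 (zpowers a) := IsPGroup.of_card (n := k) (by rw [Nat.card_zpowers, ha])
  exact S.3 (S.2.to_sup_of_normal_left' ha2 (zpowers_le.2 hn)) le_sup_left ▸ mem_sup_right (mem_zpowers a)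

theorem triv_of_mem {a : G} (ha : a ∈ (S : Subgroup G)) : Triv (S : Subgroup G) a :=
  fun _ hx => comm_mem_Zs hS ha hx

/-- An element of odd order in `N(S) ∩ C(Z)` fixing a point of `S ⧸ Z` centralises `S`. -/
theorem fix_coset {n : G} (hn : n ∈ NK (S : Subgroup G)) (ho : Odd (orderOf n)) {x : G}
    (hx : x ∈ (S : Subgroup G)) (hx2 : x * x ≠ 1) (hfix : n * x * n⁻¹ * x⁻¹ ∈ Zs (S : Subgroup G)) :
    ∀ y ∈ (S : Subgroup G), n * y * n⁻¹ = y := by
  have hZ : ∀ w ∈ Zs (S : Subgroup G), n * w * n⁻¹ = w := fun w hw => NK_fix hS hn hw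
  have hnx : n * x * n⁻¹ = x :=
    fix_of_sq ho (pow_orderOf_eq_one n) ((mem_Zs hS).1 hfix).2 (hZ _ hfix)
  set B := (S : Subgroup G) ⊓ centralizer ({x} : Set G) with hB
  have hnB : ∀ b ∈ B, n * b * n⁻¹ ∈ B := fun b hb =>
    ⟨conj_mem_S hS hn.2 hb.1, mem_centralizer_singleton_iff.2 (by
      conv_lhs => rw [← hnx]
      conv_rhs => rw [← hnx]
      rw [conj_mul, conj_mul, mem_centralizer_singleton_iff.1 hb.2])⟩
  have hfixB : ∀ b ∈ B, n * b * n⁻¹ = b := fun b hb => fix_abelian hS ho hZ (B := B) inf_le_left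
    (fun a ha c hc => cen_comm hS hx hx2 ha.1 (mem_centralizer_singleton_iff.1 ha.2) hc.1
      (mem_centralizer_singleton_iff.1 hc.2)) hnB hb
  intro y hy
  set d := y⁻¹ * (n * y * n⁻¹) with hd
  have hv := hZ _ (comm_mem_Zs hS hy hx)
  have h1 : n * y * n⁻¹ * x * (n * y * n⁻¹)⁻¹ = y * x * y⁻¹ := by
    calc n * y * n⁻¹ * x * (n * y * n⁻¹)⁻¹ =
          n * y * n⁻¹ * (n * x * n⁻¹) * (n * y * n⁻¹)⁻¹ * (n * x * n⁻¹)⁻¹ * (n * x * n⁻¹) := by rw [hnx]; group
      _ = n * (y * x * y⁻¹ * x⁻¹) * n⁻¹ * (n * x * n⁻¹) := by group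
      _ = _ := by rw [hv, hnx]; group
  have hdB : d ∈ B := mem_inf.2 ⟨mul_mem (inv_mem hy) (conj_mem_S hS hn.2 hy), mem_centralizer_singleton_iff.2 (by
    have h2 : d * x * d⁻¹ = x := by
      calc d * x * d⁻¹ = y⁻¹ * (n * y * n⁻¹ * x * (n * y * n⁻¹)⁻¹) * y := by rw [hd]; group
        _ = x := by rw [h1]; group
    exact mul_inv_eq_iff_eq_mul.1 h2)⟩
  have hdn : n * d * n⁻¹ = d := hfixB d hdB
  have key : ∀ j : ℕ, n ^ j * y * (n ^ j)⁻¹ = y * d ^ j := by
    intro j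
    induction j with
    | zero => simp
    | succ j ih =>
      calc n ^ (j + 1) * y * (n ^ (j + 1))⁻¹ = n * (n ^ j * y * (n ^ j)⁻¹) * n⁻¹ := by rw [pow_succ']; group
        _ = (n * y * n⁻¹) * (n * d * n⁻¹) ^ j := by rw [ih, conj_pow]; group
        _ = y * d ^ (j + 1) := by rw [hdn, pow_succ', ← mul_assoc, hd, mul_inv_cancel_left]
  have hk := key (orderOf n)
  rw [pow_orderOf_eq_one, one_mul, inv_one, mul_one, eq_comm, mul_eq_left] at hk
  have hd1 : d = 1 := orderOf_eq_one_iff.1 (Nat.eq_one_of_dvd_coprimes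
    ((Nat.coprime_two_left.2 ho).pow_left 2) (orderOf_dvd_of_pow_eq_one (pow_four hS hdB.1))
    (orderOf_dvd_of_pow_eq_one hk))
  exact (inv_mul_eq_one.1 hd1).symm

/-- Trivial on `S ⧸ Z` and of odd order: centralising `S`. -/
theorem cen_of_triv {n : G} (hn : n ∈ NK (S : Subgroup G)) (ho : Odd (orderOf n))
    (ht : Triv (S : Subgroup G) n) : ∀ y ∈ (S : Subgroup G), n * y * n⁻¹ = y := by
  obtain ⟨x, hx, -, -, hx2, -, -⟩ := exists_two_sq hS
  exact fix_coset hS hn ho hx hx2 (ht x hx)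

/-- An element of odd order centralising `S` is in the odd core of the centraliser of each involution
of `Z`. -/
theorem cen_S_odd {c : G} (ho : Odd (orderOf c)) (hc : ∀ y ∈ (S : Subgroup G), c * y = y * c) {z : G}
    (hz : z ∈ Zs (S : Subgroup G)) (hz0 : z ≠ 1) : c ∈ oddPart z := by
  classical
  haveI : Fact (Nat.Prime 2) := ⟨Nat.prime_two⟩
  set C := centralizer ((S : Subgroup G) : Set G) with hC
  have hzc : z ∈ C := mem_centralizer_iff.2 fun y hy => (Zs_comm hS hz hy).symm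
  set Zn := (Zs (S : Subgroup G)).subgroupOf C with hZn
  have hZc : Zn ≤ center C := fun w hw => mem_center_iff.2 fun y =>
    Subtype.ext (mem_centralizer_iff.1 y.2 _ (Zs_le hS hw)).symm
  have hZp : IsPGroup 2 Zn := (S.isPGroup'.to_le (Zs_le hS)).comap_subtype
  have hi : ¬ 2 ∣ Zn.index := by
    obtain ⟨Q, hQ⟩ := hZp.exists_le_sylow
    have hQZ : (Q : Subgroup C) ≤ Zn := fun a ha => by
      obtain ⟨k, hk⟩ := Q.2 ⟨a, ha⟩
      obtain ⟨l, -, hl⟩ := (Nat.dvd_prime_pow Nat.prime_two).1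
        (orderOf_dvd_of_pow_eq_one (congrArg Subtype.val hk : a ^ 2 ^ k = 1))
      have haN : (a : G) ∈ normalizer ((S : Subgroup G) : Set G) := Subgroup.mem_normalizer_fintype fun y hy => by
        show (a : G) * y * (a : G)⁻¹ ∈ (S : Subgroup G)
        rw [← mem_centralizer_iff.1 a.2 y hy, mul_inv_cancel_right]
        exact hy
      have haS := two_part_mem hS (a := (a : G)) (k := l) (by rw [Subgroup.orderOf_coe]; exact hl) haN
      refine (mem_Zs hS).2 ⟨haS, ?_⟩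
      by_contra ha2
      obtain ⟨z1, h1, h10⟩ : ∃ w ∈ Zs (S : Subgroup G), w ≠ 1 := ⟨z, hz, hz0⟩
      obtain ⟨y, hy, hye⟩ := hS.comm _ haS ha2 z1 (Zs_le hS h1) ((mem_Zs hS).1 h1).2
      rw [mem_centralizer_iff.1 a.2 y hy, mul_inv_cancel_right] at hye
      exact h10 (mul_eq_left.1 hye.symm)
    rw [show Zn = (Q : Subgroup C) from le_antisymm hQ hQZ]
    exact Q.not_dvd_index
  have hcC : c ∈ C := mem_centralizer_iff.2 fun y hy => (hc y hy).symm
  refine (cen_invol hS hz hz0).2 ((Cfsg.pPrimeCore 2 C).map C.subtype) ?_ ?_ ?_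
    ⟨⟨c, hcC⟩, (of_central_sylow Zn hZc hZp hi).1 _ (by rwa [Subgroup.orderOf_mk]), rfl⟩
  · exact (map_subtype_le _).trans fun a ha =>
      mem_centralizer_singleton_iff.2 (mem_centralizer_iff.1 ha z (Zs_le hS hz)).symm
  · exact (PBasic.pPrimeCore_coprime 2 _).coprime_dvd_left (card_map_dvd _ _)
  · rintro n hn _ ⟨d, hd, rfl⟩
    have hCn : C ≤ C.comap (MulAut.conj n).toMonoidHom := fun a ha =>
      mem_centralizer_iff.2 fun y hy => by
        have h := mem_centralizer_iff.1 ha _ (conj_mem_S hS (inv_mem hn.2) hy)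
        show y * (n * a * n⁻¹) = n * a * n⁻¹ * y
        calc y * (n * a * n⁻¹) = n * (n⁻¹ * y * n⁻¹⁻¹ * a) * n⁻¹ := by group
          _ = _ := by rw [h]; group
    let e : ↥C ≃* ↥C := MulEquiv.ofBijective
      ({ toFun := fun a => ⟨n * a * n⁻¹, hCn a.2⟩
         map_one' := Subtype.ext (by simp)
         map_mul' := fun a b => Subtype.ext (by
           show n * ((a : G) * b) * n⁻¹ = n * a * n⁻¹ * (n * b * n⁻¹)
           group) } : ↥C →* ↥C)
      (Finite.injective_iff_bijective.1 fun a b h => Subtype.ext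
        (mul_left_cancel (mul_right_cancel (congrArg Subtype.val h))))
    have he := PBasic.map_pPrimeCore_equiv (p := 2) e
    exact ⟨e d, he ▸ ⟨d, hd, rfl⟩, rfl⟩

/-- The automiser of `S` in `C(Z)`. -/
theorem automiser : (∀ n ∈ NK (S : Subgroup G), Triv (S : Subgroup G) n) ∨
    ∃ c ∈ NK (S : Subgroup G), Odd (orderOf c) ∧ Triv (S : Subgroup G) (c ^ 5) ∧
      (∀ i : ℕ, ¬ 5 ∣ i → ∀ x ∈ (S : Subgroup G), x * x ≠ 1 →
        c ^ i * x * (c ^ i)⁻¹ * x⁻¹ ∉ Zs (S : Subgroup G)) ∧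
      ∀ n ∈ NK (S : Subgroup G), ∃ i : ℕ, Triv (S : Subgroup G) (n * (c ^ i)⁻¹) := by
  classical
  haveI : Fact (Nat.Prime 2) := ⟨Nat.prime_two⟩
  set Zv := (Zs (S : Subgroup G)).subgroupOf (S : Subgroup G) with hZv
  have hcj : ∀ n : NK (S : Subgroup G), ∀ a b : (S : Subgroup G),
      QuotientGroup.leftRel Zv a b → QuotientGroup.leftRel Zv
        (⟨(n : G) * a * (n : G)⁻¹, conj_mem_S hS n.2.2 a.2⟩ : (S : Subgroup G))
        ⟨(n : G) * b * (n : G)⁻¹, conj_mem_S hS n.2.2 b.2⟩ := fun n a b h => by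
    rw [QuotientGroup.leftRel_apply] at h ⊢
    show ((n : G) * a * (n : G)⁻¹)⁻¹ * ((n : G) * b * (n : G)⁻¹) ∈ Zs (S : Subgroup G)
    rw [show ((n : G) * a * (n : G)⁻¹)⁻¹ * ((n : G) * b * (n : G)⁻¹) =
      (n : G) * ((a : G)⁻¹ * b) * (n : G)⁻¹ by group]
    rw [NK_fix hS n.2 (show (a : G)⁻¹ * b ∈ Zs (S : Subgroup G) from h)]
    exact h
  let act : NK (S : Subgroup G) → ((S : Subgroup G) ⧸ Zv) → ((S : Subgroup G) ⧸ Zv) := fun n =>
    Quotient.map' (fun a => ⟨(n : G) * a * (n : G)⁻¹, conj_mem_S hS n.2.2 a.2⟩) (hcj n)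
  have hmk : ∀ n (a : (S : Subgroup G)),
      act n (a : (S : Subgroup G) ⧸ Zv) =
        ((⟨(n : G) * a * (n : G)⁻¹, conj_mem_S hS n.2.2 a.2⟩ : (S : Subgroup G)) : (S : Subgroup G) ⧸ Zv) :=
    fun _ _ => rfl
  have hone : ∀ v, act 1 v = v := fun v => by
    induction v using QuotientGroup.induction_on with
    | H a => rw [hmk]; congr 1; exact Subtype.ext (by simp)
  have hmul : ∀ m n v, act (m * n) v = act m (act n v) := fun m n v => by
    induction v using QuotientGroup.induction_on with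
    | H a =>
      rw [hmk, hmk, hmk]
      congr 1
      refine Subtype.ext ?_
      show ((m * n : NK (S : Subgroup G)) : G) * a * ((m * n : NK (S : Subgroup G)) : G)⁻¹ =
        (m : G) * ((n : G) * a * (n : G)⁻¹) * (m : G)⁻¹
      push_cast; group
  let ψ : NK (S : Subgroup G) →* Equiv.Perm ((S : Subgroup G) ⧸ Zv) :=
    { toFun := fun n => ⟨act n, act n⁻¹, fun v => by rw [← hmul, inv_mul_cancel, hone],
        fun v => by rw [← hmul, mul_inv_cancel, hone]⟩
      map_one' := Equiv.ext hone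
      map_mul' := fun m n => Equiv.ext (hmul m n) }
  have heq : ∀ (n : NK (S : Subgroup G)) (a : (S : Subgroup G)),
      ψ n (a : (S : Subgroup G) ⧸ Zv) = a ↔ (n : G) * a * (n : G)⁻¹ * (a : G)⁻¹ ∈ Zs (S : Subgroup G) := by
    intro n a
    show act n a = _ ↔ _
    rw [hmk, QuotientGroup.eq]
    have e : ((n : G) * a * (n : G)⁻¹)⁻¹ * (a : G) =
        (a : G)⁻¹ * ((n : G) * a * (n : G)⁻¹ * (a : G)⁻¹)⁻¹ * a := by group
    show ((n : G) * a * (n : G)⁻¹)⁻¹ * (a : G) ∈ Zs (S : Subgroup G) ↔ _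
    rw [e]
    refine ⟨fun h => ?_, fun h => ?_⟩
    · have h1 : (a : G) * ((a : G)⁻¹ * ((n : G) * a * (n : G)⁻¹ * (a : G)⁻¹)⁻¹ * a) * (a : G)⁻¹ ∈
          Zs (S : Subgroup G) := by
        rw [← Zs_comm hS h a.2, mul_inv_cancel_right]; exact h
      rw [show (a : G) * ((a : G)⁻¹ * ((n : G) * a * (n : G)⁻¹ * (a : G)⁻¹)⁻¹ * a) * (a : G)⁻¹ =
        ((n : G) * a * (n : G)⁻¹ * (a : G)⁻¹)⁻¹ by group] at h1
      simpa using inv_mem h1
    · rw [mul_assoc, Zs_comm hS (inv_mem h) a.2, ← mul_assoc, inv_mul_cancel, one_mul]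
      exact inv_mem h
  have hker : ∀ n : NK (S : Subgroup G), ψ n = 1 ↔ Triv (S : Subgroup G) n := fun n => by
    refine ⟨fun h x hx => (heq n ⟨x, hx⟩).1 (by rw [h]; rfl), fun h => Equiv.ext fun v => ?_⟩
    induction v using QuotientGroup.induction_on with
    | H a => exact (heq n a).2 (h _ a.2)
  -- the odd part
  have hodd : ∀ n : NK (S : Subgroup G), ∃ b : NK (S : Subgroup G), Odd (orderOf (b : G)) ∧ ψ b = ψ n := by
    intro n
    obtain ⟨a, b, ⟨⟨k, hk⟩, hab⟩, ⟨i, hi⟩, ⟨j, hj⟩, hb⟩ := exists_two_split n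
    refine ⟨b, by rw [Subgroup.orderOf_coe]; exact hb, ?_⟩
    have haS := two_part_mem hS (a := (a : G)) (k := k) (by rw [Subgroup.orderOf_coe]; exact hk) a.2.2
    rw [← hab, map_mul, (hker a).2 (triv_of_mem hS haS), one_mul]
  set P := {v : (S : Subgroup G) ⧸ Zv // v ≠ ((1 : (S : Subgroup G)) : (S : Subgroup G) ⧸ Zv)} with hP
  have hbase : ∀ α : ψ.range, (α : Equiv.Perm _) ((1 : (S : Subgroup G)) : (S : Subgroup G) ⧸ Zv) =
      ((1 : (S : Subgroup G)) : (S : Subgroup G) ⧸ Zv) := by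
    rintro ⟨_, n, rfl⟩
    exact (heq n 1).2 (by simp)
  letI : MulAction ψ.range P :=
    { smul := fun α p => ⟨(α : Equiv.Perm _) p.1, fun h => p.2 ((α : Equiv.Perm _).injective (h.trans (hbase α).symm))⟩
      one_smul := fun p => Subtype.ext rfl
      mul_smul := fun α β p => Subtype.ext rfl }
  have hP2 : ∀ a : (S : Subgroup G), ((a : (S : Subgroup G) ⧸ Zv) ≠ ((1 : (S : Subgroup G)) : _)) →
      (a : G) * a ≠ 1 := fun a ha e => ha (QuotientGroup.eq.2 (by
    show (a : G)⁻¹ * ((1 : (S : Subgroup G)) : G) ∈ Zs (S : Subgroup G)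
    rw [Subgroup.coe_one, mul_one]
    exact inv_mem ((mem_Zs hS).2 ⟨a.2, e⟩)))
  have hfree : ∀ p : P, MulAction.stabilizer ψ.range p = ⊥ := by
    intro p
    refine (Subgroup.eq_bot_iff_forall _).2 ?_
    rintro ⟨_, n, rfl⟩ hα
    obtain ⟨b, hb, hbe⟩ := hodd n
    obtain ⟨v, hv⟩ := p
    induction v using QuotientGroup.induction_on with
    | H a =>
      have h1 : ψ n (a : (S : Subgroup G) ⧸ Zv) = a := congrArg Subtype.val (MulAction.mem_stabilizer_iff.1 hα)
      rw [← hbe] at h1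
      have h2 := fix_coset hS b.2 hb a.2 (hP2 a hv) ((heq b a).1 h1)
      refine Subtype.ext ?_
      show ψ n = 1
      rw [← hbe, hker]
      intro x hx
      rw [h2 x hx, mul_inv_cancel]
      exact one_mem _
  have hcardP : Nat.card P = 15 := by
    have h1 : Nat.card ((S : Subgroup G) ⧸ Zv) = 16 := by
      have h2 := Subgroup.card_eq_card_quotient_mul_card_subgroup Zv
      rw [hS.card, Nat.card_congr (subgroupOfEquivOfLe (Zs_le hS)).toEquiv, card_Zs hS] at h2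
      omega
    haveI := Fintype.ofFinite ((S : Subgroup G) ⧸ Zv)
    rw [Nat.card_eq_fintype_card, Fintype.card_subtype_compl, Fintype.card_subtype_eq,
      ← Nat.card_eq_fintype_card, h1]
  have hdvd : Nat.card ψ.range ∣ 15 := by
    rw [← hcardP, Nat.card_congr (MulAction.selfEquivOrbitsQuotientProd hfree), Nat.card_prod]
    exact dvd_mul_left _ _
  have h3 : ¬ 3 ∣ Nat.card ψ.range := by
    intro h
    haveI : Fact (Nat.Prime 3) := ⟨by norm_num⟩
    obtain ⟨⟨α, n, rfl⟩, hα⟩ := exists_prime_orderOf_dvd_card' (G := ψ.range) 3 h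
    replace hα : orderOf (ψ n) = _ := (Subgroup.orderOf_coe _).trans hα
    obtain ⟨b, hb, hbe⟩ := hodd n
    have hb3 : Triv (S : Subgroup G) ((b ^ 3 : NK (S : Subgroup G)) : G) := by
      rw [← hker, map_pow, hbe, ← hα, pow_orderOf_eq_one]
    have hnt : ¬ Triv (S : Subgroup G) (b : G) := fun h => by
      rw [← hker, hbe] at h
      rw [h, orderOf_one] at hα
      norm_num at hα
    obtain ⟨x, hx, -, -, hx2, -, -⟩ := exists_two_sq hS
    set y := (b : G) * x * (b : G)⁻¹ with hy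
    set v := (b : G) * y * (b : G)⁻¹ with hv
    have hyS : y ∈ (S : Subgroup G) := conj_mem_S hS b.2.2 hx
    have hvS : v ∈ (S : Subgroup G) := conj_mem_S hS b.2.2 hyS
    have hsq : ∀ u ∈ (S : Subgroup G), (b : G) * u * (b : G)⁻¹ * ((b : G) * u * (b : G)⁻¹) = u * u := fun u hu => by
      rw [conj_mul, NK_fix hS b.2 (sq_mem_Zs hS hu)]
    have hbv : (b : G) * v * (b : G)⁻¹ * x⁻¹ ∈ Zs (S : Subgroup G) := by
      have h := hb3 x hx
      rwa [SubgroupClass.coe_pow, show (b : G) ^ 3 * x * ((b : G) ^ 3)⁻¹ = (b : G) * v * (b : G)⁻¹ by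
        rw [hv, hy, pow_succ, pow_two]; group] at h
    -- `x * y * v` is fixed modulo `Z`, hence in `Z`
    have hT : x * y * v ∈ Zs (S : Subgroup G) := by
      by_contra hT
      have hTS : x * y * v ∈ (S : Subgroup G) := mul_mem (mul_mem hx hyS) hvS
      refine hnt fun u hu => ?_
      rw [fix_coset hS b.2 hb hTS (fun e => hT ((mem_Zs hS).2 ⟨hTS, e⟩)) ?_ u hu, mul_inv_cancel]
      · exact one_mem _
      · set w := (b : G) * v * (b : G)⁻¹ * x⁻¹ with hw
        have e : (b : G) * (x * y * v) * (b : G)⁻¹ * (x * y * v)⁻¹ = y * v * w * (y * v)⁻¹ *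
            (y * v * x * (y * v)⁻¹ * x⁻¹) := by
          calc (b : G) * (x * y * v) * (b : G)⁻¹ * (x * y * v)⁻¹
              = (b : G) * x * (b : G)⁻¹ * ((b : G) * y * (b : G)⁻¹) * (w * x) * (x * y * v)⁻¹ := by
                rw [hw]; group
            _ = y * v * (w * x) * (x * y * v)⁻¹ := by rw [← hy, ← hv]
            _ = _ := by group
        rw [e]
        refine mul_mem ?_ (comm_mem_Zs hS (mul_mem hyS hvS) hx)
        rw [← Zs_comm hS hbv (mul_mem hyS hvS), mul_inv_cancel_right]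
        exact hbv
    have e1 : x * y * (x * y) = x * x := by
      have hxy : x * y = x * y * v * v⁻¹ := by group
      set w := x * y * v with hw
      rw [hxy, mul_assoc, ← mul_assoc v⁻¹, ← Zs_comm hS hT (inv_mem hvS), mul_assoc w v⁻¹, ← mul_assoc w w,
        ((mem_Zs hS).1 hT).2, one_mul, ← mul_inv_rev]
      have hvv : v * v = x * x := by rw [hv, hsq _ hyS, hy, hsq _ hx]
      rw [hvv]
      exact inv_eq_of_mul_eq_one_right (hS.sq x hx)
    exact hS.noQ x hx y hyS hx2 (by rw [hy, hsq _ hx]) e1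
  rcases (show Nat.card ψ.range = 1 ∨ Nat.card ψ.range = 5 by
    have := Nat.le_of_dvd (by norm_num) hdvd
    interval_cases (Nat.card ψ.range) <;> omega) with h1 | h5
  · left
    intro n hn
    refine (hker ⟨n, hn⟩).1 ?_
    have h : ψ ⟨n, hn⟩ ∈ (⊥ : Subgroup (Equiv.Perm _)) := card_eq_one.1 h1 ▸ ⟨⟨n, hn⟩, rfl⟩
    exact mem_bot.1 h
  · right
    haveI : Fact (Nat.Prime 5) := ⟨by norm_num⟩
    obtain ⟨⟨α, n, rfl⟩, hα⟩ := exists_prime_orderOf_dvd_card' (G := ψ.range) 5 (h5 ▸ dvd_rfl)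
    replace hα : orderOf (ψ n) = _ := (Subgroup.orderOf_coe _).trans hα
    obtain ⟨c, hc, hce⟩ := hodd n
    rw [← hce] at hα
    refine ⟨c, c.2, hc, ?_, fun i hi x hx hx2 hfix => hi ?_, fun m hm => ?_⟩
    · have h : ψ (c ^ 5) = 1 := by rw [map_pow, ← hα, pow_orderOf_eq_one]
      simpa using (hker _).1 h
    · rw [← hα]
      refine orderOf_dvd_of_pow_eq_one ?_
      rw [← map_pow]
      refine (hker _).2 ?_
      rw [SubgroupClass.coe_pow]
      intro u hu
      rw [fix_coset hS (pow_mem c.2 i) (hc.of_dvd_nat (orderOf_pow_dvd i)) hx hx2 hfix u hu, mul_inv_cancel]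
      exact one_mem _
    · have hgen : ψ ⟨m, hm⟩ ∈ zpowers (ψ c) := by
        have h : zpowers (ψ c) = ψ.range := Subgroup.eq_of_le_of_card_ge (zpowers_le.2 ⟨c, rfl⟩)
          (by rw [h5, Nat.card_zpowers, hα])
        rw [h]; exact ⟨_, rfl⟩
      obtain ⟨i, hi⟩ := mem_powers_iff_mem_zpowers.2 hgen
      refine ⟨i, ?_⟩
      have h : ψ (⟨m, hm⟩ * (c ^ i)⁻¹) = 1 := by
        rw [map_mul, map_inv, map_pow]
        exact mul_inv_eq_one.2 hi.symm
      simpa using (hker _).1 h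

end Cfsg.Agent.U34Group
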