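import Cfsg.Agent.Lib.U34Rec.BlockLocal

/-!
The quotient of the centraliser of an involution by its core is the Sylow subgroup extended by an element of order 5.
-/

set_option autoImplicit false
set_option linter.unusedSectionVars false
set_option linter.style.haveILetI false

namespace Cfsg.Agent.U34Block

open Cfsg Cfsg.Agent.SylowSplit
open scoped Pointwise

universe u

variable {G : Type u} [Group G] [Finite G] {S : Sylow 2 G} {z : G}

namespace Cfg

theorem le_cz (h : Cfg S z) : (S : Subgroup G) ≤ cz z := fun y hy =>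
  Subgroup.mem_centralizer_singleton_iff.2 (h.central z h.zmem (mul_self_of_two h.zord) y hy).symm

/-- The Sylow subgroup inside the quotient. -/
noncomputable def ι (h : Cfg S z) : (S : Subgroup G) →* czq z :=
  (QuotientGroup.mk' _).comp (Subgroup.inclusion h.le_cz)

theorem ι_injective (h : Cfg S z) : Function.Injective h.ι := by
  rw [injective_iff_map_eq_one]
  intro y hy
  have h1 : Subgroup.inclusion h.le_cz y ∈ pPrimeCore 2 (cz z) := (QuotientGroup.eq_one_iff _).1 hy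
  have := core_two h1 (two_elt_of_mem S.2 y.2)
  exact Subgroup.inclusion_injective h.le_cz (this.trans (map_one _).symm)

theorem orderOf_z_ne (h : Cfg S z) : z ≠ 1 := fun e => by simpa [e] using h.zord

/-- A generator of order 5 of the quotient modulo the Sylow subgroup. -/
def Gen (h : Cfg S z) (γ : czq z) : Prop :=
  orderOf γ = 5 ∧ (∀ y : (S : Subgroup G), ∃ y' : (S : Subgroup G), γ * h.ι y * γ⁻¹ = h.ι y') ∧
    (∀ y : (S : Subgroup G), γ * h.ι y = h.ι y * γ ↔ (y : G) * y = 1) ∧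
    ∀ q : czq z, ∃ y : (S : Subgroup G), ∃ i : ℕ, q = h.ι y * γ ^ i

theorem exists_gen (h : Cfg S z) : ∃ γ : czq z, h.Gen γ := by
  obtain ⟨c, hodd, hcz, hnorm, h5, hfix, hgen⟩ := h.five
  have hcC : c ∈ cz z := Subgroup.mem_centralizer_singleton_iff.2 hcz
  set π := QuotientGroup.mk' (pPrimeCore 2 (cz z)) with hπ
  have hOmem : ∀ o ∈ oddPart z, ∃ ho : o ∈ cz z, π ⟨o, ho⟩ = 1 := by
    rintro _ ⟨o, ho, rfl⟩
    exact ⟨o.2, (QuotientGroup.eq_one_iff _).2 ho⟩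
  have hconj : ∀ y : (S : Subgroup G), π ⟨c, hcC⟩ * h.ι y * (π ⟨c, hcC⟩)⁻¹ = h.ι ⟨_, hnorm y y.2⟩ := fun y => by
    show π ⟨c, hcC⟩ * π _ * (π ⟨c, hcC⟩)⁻¹ = π _
    rw [← map_inv, ← map_mul, ← map_mul]
    rfl
  have hcomm : ∀ y : (S : Subgroup G), π ⟨c, hcC⟩ * h.ι y = h.ι y * π ⟨c, hcC⟩ ↔ (y : G) * y = 1 := by
    intro y
    rw [← hfix y y.2, ← mul_inv_eq_iff_eq_mul, hconj, h.ι_injective.eq_iff, Subtype.ext_iff,
      mul_inv_eq_iff_eq_mul]
  haveI : Fact (Nat.Prime 5) := ⟨by norm_num⟩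
  refine ⟨π ⟨c, hcC⟩, ?_, fun y => ⟨_, hconj y⟩, hcomm, fun q => ?_⟩
  · refine orderOf_eq_prime ?_ fun e => ?_
    · obtain ⟨ho, e⟩ := hOmem _ h5
      rw [← map_pow, ← e]
      rfl
    · haveI : Finite {x : G // x ∈ (S : Subgroup G) ∧ x * x = 1} := Subtype.finite
      have hall : ∀ y : (S : Subgroup G), (y : G) * y = 1 := fun y => (hcomm y).1 (by rw [e, one_mul, mul_one])
      have : Nat.card (S : Subgroup G) = Nat.card {x : G // x ∈ (S : Subgroup G) ∧ x * x = 1} :=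
        Nat.card_congr ⟨fun y => ⟨y, y.2, hall y⟩, fun x => ⟨x, x.2.1⟩, fun _ => rfl, fun _ => rfl⟩
      rw [h.card, h.four] at this
      omega
  · obtain ⟨g, rfl⟩ := QuotientGroup.mk'_surjective (pPrimeCore 2 (cz z)) q
    obtain ⟨o, ho, y, hy, i, hg⟩ := hgen g (Subgroup.mem_centralizer_singleton_iff.1 g.2)
    obtain ⟨ho', e⟩ := hOmem o ho
    refine ⟨⟨y, hy⟩, i, ?_⟩
    rw [show g = ⟨o, ho'⟩ * Subgroup.inclusion h.le_cz ⟨y, hy⟩ * ⟨c, hcC⟩ ^ i from Subtype.ext hg, map_mul,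
      map_mul, map_pow, e, one_mul]
    rfl

namespace Gen

variable {h : Cfg S z} {γ : czq z}

theorem pow_five (hγ : h.Gen γ) : γ ^ 5 = 1 := hγ.1 ▸ pow_orderOf_eq_one γ

theorem ne_one (hγ : h.Gen γ) : γ ≠ 1 := fun e => by simpa [e] using hγ.1

theorem pow_conj (hγ : h.Gen γ) (i : ℕ) (y : (S : Subgroup G)) :
    ∃ y', γ ^ i * h.ι y * (γ ^ i)⁻¹ = h.ι y' := by
  induction i with
  | zero => exact ⟨y, by simp⟩
  | succ n ih =>
    obtain ⟨y', hy'⟩ := ih
    obtain ⟨y'', hy''⟩ := hγ.2.1 y'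
    exact ⟨y'', by rw [← hy'', ← hy', pow_succ']; group⟩

theorem pow_eq_ι (hγ : h.Gen γ) {i : ℕ} {y : (S : Subgroup G)} (e : γ ^ i = h.ι y) :
    y = 1 ∧ 5 ∣ i := by
  obtain ⟨k, hk⟩ := two_elt_of_mem S.2 y.2
  have h2 : orderOf (γ ^ i) = 2 ^ k := by
    rw [e, orderOf_injective h.ι h.ι_injective, ← Subgroup.orderOf_coe, hk]
  have h5 : orderOf (γ ^ i) ∣ 5 := hγ.1 ▸ orderOf_pow_dvd i
  have h1 : orderOf (γ ^ i) = 1 := by
    rcases (Nat.dvd_prime (by norm_num : Nat.Prime 5)).1 h5 with h1 | h1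
    · exact h1
    · rcases Nat.eq_zero_or_pos k with rfl | hk0
      · simpa using h2
      · exact absurd (h1 ▸ h2 ▸ dvd_pow_self 2 hk0.ne') (by norm_num)
  have h1' := orderOf_eq_one_iff.1 h1
  exact ⟨h.ι_injective ((e.symm.trans h1').trans (map_one _).symm), hγ.1 ▸ orderOf_dvd_of_pow_eq_one h1'⟩

theorem pow_mod (hγ : h.Gen γ) (i : ℕ) : γ ^ (i % 5) = γ ^ i := hγ.1 ▸ pow_mod_orderOf γ i

/-- The normal form. -/
theorem unique (hγ : h.Gen γ) {y y' : (S : Subgroup G)} {i j : ℕ} (hi : i < 5) (hj : j < 5)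
    (e : h.ι y * γ ^ i = h.ι y' * γ ^ j) : y = y' ∧ i = j := by
  have h1 : γ ^ (i + (5 - j)) = h.ι (y⁻¹ * y') := by
    rw [map_mul, map_inv, pow_add, eq_inv_mul_iff_mul_eq, ← mul_assoc, e, mul_assoc, ← pow_add,
      show j + (5 - j) = 5 by omega, hγ.pow_five, mul_one]
  obtain ⟨e1, e2⟩ := hγ.pow_eq_ι h1
  exact ⟨inv_mul_eq_one.1 e1, by omega⟩

theorem exists_form (hγ : h.Gen γ) (q : czq z) : ∃ y : (S : Subgroup G), ∃ i : Fin 5, q = h.ι y * γ ^ (i : ℕ) := by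
  obtain ⟨y, i, rfl⟩ := hγ.2.2.2 q
  exact ⟨y, ⟨i % 5, Nat.mod_lt _ (by norm_num)⟩, by rw [hγ.pow_mod i]⟩

theorem card (hγ : h.Gen γ) : Nat.card (czq z) = 320 := by
  rw [← Nat.card_eq_of_bijective (fun p : ↥(S : Subgroup G) × Fin 5 => h.ι p.1 * γ ^ (p.2 : ℕ))
    ⟨fun p p' e => Prod.ext (hγ.unique p.2.2 p'.2.2 e).1 (Fin.ext (hγ.unique p.2.2 p'.2.2 e).2),
      fun q => by obtain ⟨y, i, rfl⟩ := hγ.exists_form q; exact ⟨(y, i), rfl⟩⟩, Nat.card_prod, h.card]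
  simp

/-- The index of an element in the cyclic quotient. -/
noncomputable def idx (hγ : h.Gen γ) (q : czq z) : Fin 5 :=
  Classical.choose (Classical.choose_spec (hγ.exists_form q))

theorem idx_spec (hγ : h.Gen γ) (y : (S : Subgroup G)) (i : ℕ) :
    (hγ.idx (h.ι y * γ ^ i) : ℕ) = i % 5 := by
  have e := Classical.choose_spec (Classical.choose_spec (hγ.exists_form (h.ι y * γ ^ i)))
  conv_lhs at e => rw [← hγ.pow_mod i]
  exact ((hγ.unique (Nat.mod_lt _ (by norm_num)) (Fin.is_lt _) e).2).symm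

theorem idx_ι_pow (hγ : h.Gen γ) (i : ℕ) : (hγ.idx (γ ^ i) : ℕ) = i % 5 := by
  have := hγ.idx_spec 1 i
  rwa [map_one, one_mul] at this

theorem idx_mul (hγ : h.Gen γ) (q q' : czq z) :
    (hγ.idx (q * q') : ℕ) = ((hγ.idx q : ℕ) + hγ.idx q') % 5 := by
  obtain ⟨y, i, rfl⟩ := hγ.exists_form q
  obtain ⟨y', j, rfl⟩ := hγ.exists_form q'
  obtain ⟨y'', hy''⟩ := hγ.pow_conj i y'
  have e : h.ι y * γ ^ (i : ℕ) * (h.ι y' * γ ^ (j : ℕ)) = h.ι (y * y'') * γ ^ ((i : ℕ) + j) := by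
    rw [map_mul, ← hy'', pow_add]; group
  rw [e, hγ.idx_spec, hγ.idx_spec, hγ.idx_spec, Nat.mod_eq_of_lt i.2, Nat.mod_eq_of_lt j.2]

/-- The linear character with a given value at the generator. -/
noncomputable def lin (hγ : h.Gen γ) (ζ : ℂˣ) (hζ : ζ ^ 5 = 1) : czq z →* ℂˣ :=
  MonoidHom.mk' (fun q => ζ ^ (hγ.idx q : ℕ)) fun q q' => by
    rw [hγ.idx_mul, ← pow_add]
    exact (pow_eq_pow_mod _ hζ).symm

theorem lin_apply (hγ : h.Gen γ) (ζ : ℂˣ) (hζ : ζ ^ 5 = 1) (y : (S : Subgroup G)) (i : ℕ) :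
    hγ.lin ζ hζ (h.ι y * γ ^ i) = ζ ^ i := by
  show ζ ^ (hγ.idx _ : ℕ) = _
  rw [hγ.idx_spec]
  exact (pow_eq_pow_mod _ hζ).symm

theorem lin_pow (hγ : h.Gen γ) (ζ : ℂˣ) (hζ : ζ ^ 5 = 1) (i : ℕ) : hγ.lin ζ hζ (γ ^ i) = ζ ^ i := by
  have := hγ.lin_apply ζ hζ 1 i
  rwa [map_one, one_mul] at this

/-- The image of the Sylow subgroup is self-centralising. -/
theorem self_centralising (hγ : h.Gen γ) :
    h.ι.range.Normal ∧ IsPGroup 2 h.ι.range ∧ Subgroup.centralizer (h.ι.range : Set (czq z)) ≤ h.ι.range := by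
  refine ⟨⟨?_⟩, IsPGroup.map (S.2.to_subgroup ⊤) h.ι |>.to_le (by rw [MonoidHom.range_eq_map]), ?_⟩
  · rintro _ ⟨y, rfl⟩ q
    obtain ⟨w, i, rfl⟩ := hγ.exists_form q
    obtain ⟨y', hy'⟩ := hγ.pow_conj i y
    exact ⟨w * y' * w⁻¹, by rw [map_mul, map_mul, map_inv, ← hy']; group⟩
  · intro q hq
    obtain ⟨w, i, rfl⟩ := hγ.exists_form q
    by_cases hi : (i : ℕ) = 0
    · exact ⟨w, by rw [hi, pow_zero, mul_one]⟩
    exfalso
    have hc : ∀ y : (S : Subgroup G), h.ι y * (h.ι w * γ ^ (i : ℕ)) = h.ι w * γ ^ (i : ℕ) * h.ι y :=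
      fun y => Subgroup.mem_centralizer_iff.1 hq _ ⟨y, rfl⟩
    have key : ∀ y : (S : Subgroup G), Commute (γ ^ (i : ℕ)) (h.ι y) → (y : G) * y = 1 := fun y hy => by
      obtain ⟨j, -, hj⟩ := Nat.exists_mul_mod_eq_one_of_coprime
        ((Nat.Prime.coprime_iff_not_dvd (by norm_num : Nat.Prime 5)).2
          (fun hd => hi (Nat.eq_zero_of_dvd_of_lt hd i.2))).symm (by norm_num : 1 < 5)
      have h1 := hy.pow_left j
      rw [← pow_mul, ← hγ.pow_mod, hj, pow_one] at h1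
      exact (hγ.2.2.1 y).1 h1
    have hw : (w : G) * w = 1 := key w (mul_left_cancel (a := h.ι w)
      ((mul_assoc _ _ _).symm.trans (hc w).symm))
    have hwc : ∀ y : (S : Subgroup G), h.ι w * h.ι y = h.ι y * h.ι w := fun y => by
      rw [← map_mul, ← map_mul]
      exact congrArg h.ι (Subtype.ext (h.central _ w.2 hw y y.2))
    have hall : ∀ y : (S : Subgroup G), (y : G) * y = 1 := fun y => key y
      (mul_left_cancel (a := h.ι w) (by rw [← mul_assoc, ← hc y, ← mul_assoc, ← mul_assoc, hwc y]))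
    haveI : Finite {x : G // x ∈ (S : Subgroup G) ∧ x * x = 1} := Subtype.finite
    have : Nat.card (S : Subgroup G) = Nat.card {x : G // x ∈ (S : Subgroup G) ∧ x * x = 1} :=
      Nat.card_congr ⟨fun y => ⟨y, y.2, hall y⟩, fun x => ⟨x, x.2.1⟩, fun _ => rfl, fun _ => rfl⟩
    rw [h.card, h.four] at this
    omega

/-- A regular element outside the Sylow subgroup is conjugate to a power of the generator by one of its elements. -/
theorem exists_conj (hγ : h.Gen γ) {q : czq z} (hq : ¬ 2 ∣ orderOf q) (hne : q ≠ 1) :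
    ∃ w : (S : Subgroup G), ∃ i : Fin 4, q = h.ι w * γ ^ ((i : ℕ) + 1) * (h.ι w)⁻¹ := by
  haveI : Fact (Nat.Prime 5) := ⟨by norm_num⟩
  obtain ⟨hN, hp, -⟩ := hγ.self_centralising
  have hin : ∀ y : (S : Subgroup G), ¬ 2 ∣ orderOf (h.ι y) → y = 1 := fun y hy => by
    obtain ⟨k, hk⟩ := two_elt_of_mem S.2 y.2
    rw [orderOf_injective h.ι h.ι_injective, ← Subgroup.orderOf_coe, hk] at hy
    rcases Nat.eq_zero_or_pos k with rfl | hk0
    · rw [pow_zero] at hk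
      exact Subtype.ext (orderOf_eq_one_iff.1 hk)
    · exact absurd (dvd_pow_self 2 hk0.ne') hy
  obtain ⟨y, i, hyi⟩ := hγ.exists_form q
  have h5 : q ^ 5 = 1 := by
    obtain ⟨y', j, hyj⟩ := hγ.exists_form (q ^ 5)
    have hj : (j : ℕ) = 0 := by
      have e1 := hγ.idx_spec y' j
      have e2 : ∀ n : ℕ, (hγ.idx (q ^ n) : ℕ) = (n * hγ.idx q) % 5 := by
        intro n
        induction n with
        | zero => simpa using hγ.idx_spec 1 0
        | succ n ih => rw [pow_succ, hγ.idx_mul, ih, Nat.succ_mul, Nat.mod_add_mod]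
      rw [← hyj, e2 5, Nat.mul_mod_right, Nat.mod_eq_of_lt j.2] at e1
      exact e1.symm
    rw [hj, pow_zero, mul_one] at hyj
    rw [hyj, hin y' (hyj ▸ fun hd => hq (hd.trans (orderOf_pow_dvd 5))), map_one]
  have hcard : Nat.card (Subgroup.zpowers q) = 5 ^ (Nat.card (czq z)).factorization 5 := by
    rw [Nat.card_zpowers, orderOf_eq_prime h5 hne, hγ.card, show (320 : ℕ) = 5 ^ 1 * 64 by norm_num,
      Nat.factorization_mul (by norm_num) (by norm_num), Finsupp.add_apply,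
      Nat.Prime.factorization_pow (by norm_num), Finsupp.single_eq_same,
      Nat.factorization_eq_zero_of_not_dvd (by norm_num : ¬ 5 ∣ 64)]
    norm_num
  have hcardγ : Nat.card (Subgroup.zpowers γ) = 5 ^ (Nat.card (czq z)).factorization 5 := by
    rw [← hcard, Nat.card_zpowers, Nat.card_zpowers, hγ.1, orderOf_eq_prime h5 hne]
  obtain ⟨g, hg⟩ := MulAction.exists_smul_eq (czq z) (Sylow.ofCard _ hcardγ) (Sylow.ofCard _ hcard)
  have hqg : q ∈ MulAut.conj g • Subgroup.zpowers γ := by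
    have h0 : MulAut.conj g • Subgroup.zpowers γ = Subgroup.zpowers q := by
      have := congrArg Sylow.toSubgroup hg
      rw [Sylow.coe_subgroup_smul] at this
      simpa [Sylow.ofCard] using this
    rw [h0]; exact Subgroup.mem_zpowers q
  obtain ⟨x, hx, hxq⟩ := (Subgroup.mem_smul_pointwise_iff_exists _ _ _).1 hqg
  rw [← mem_powers_iff_mem_zpowers] at hx
  obtain ⟨n, rfl⟩ := hx
  obtain ⟨w, j, rfl⟩ := hγ.exists_form g
  have hq' : q = h.ι w * γ ^ n * (h.ι w)⁻¹ := by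
    rw [← hxq]
    show h.ι w * γ ^ (j : ℕ) * γ ^ n * (h.ι w * γ ^ (j : ℕ))⁻¹ = _
    rw [mul_inv_rev, mul_assoc (h.ι w) (γ ^ (j : ℕ)), ← pow_add, add_comm, pow_add]; group
  rw [← hγ.pow_mod n] at hq'
  have hn : n % 5 ≠ 0 := fun e => hne (by rw [hq', e, pow_zero, mul_one, mul_inv_cancel])
  exact ⟨w, ⟨n % 5 - 1, by omega⟩, by rw [show n % 5 - 1 + 1 = n % 5 by omega]; exact hq'⟩

open scoped Classical in
/-- A sum over the regular elements. -/
theorem sum_regular (hγ : h.Gen γ) [Fintype (czq z)] {f : czq z → ℂ}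
    (hf : ∀ q d, f (d * q * d⁻¹) = f q) :
    ∑ q ∈ Finset.univ.filter (fun q : czq z => ¬ 2 ∣ orderOf q), f q =
      f 1 + 16 * ∑ i : Fin 4, f (γ ^ ((i : ℕ) + 1)) := by
  haveI : Fintype (S : Subgroup G) := Fintype.ofFinite _
  set R := (Finset.univ.filter fun q : czq z => ¬ 2 ∣ orderOf q).erase 1 with hR
  have hreg : ∀ (w : (S : Subgroup G)) (i : Fin 4),
      h.ι w * γ ^ ((i : ℕ) + 1) * (h.ι w)⁻¹ ∈ R := fun w i => by
    have h5 : orderOf (γ ^ ((i : ℕ) + 1)) = 5 := by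
      rw [Nat.Coprime.orderOf_pow, hγ.1]
      rw [hγ.1, Nat.Prime.coprime_iff_not_dvd (by norm_num)]
      have := i.2
      omega
    refine Finset.mem_erase.2 ⟨fun e => ?_, Finset.mem_filter.2 ⟨Finset.mem_univ _, ?_⟩⟩
    · rw [conj_eq_one_iff, ← orderOf_eq_one_iff, h5] at e
      norm_num at e
    · rw [BrauerSuzuki.orderOf_conj_eq, h5]; norm_num
  have hfib : ∀ q ∈ R, ((Finset.univ : Finset (↥(S : Subgroup G) × Fin 4)).filter
      fun p => h.ι p.1 * γ ^ ((p.2 : ℕ) + 1) * (h.ι p.1)⁻¹ = q).card = 4 := by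
    intro q hq
    obtain ⟨w₀, i₀, rfl⟩ := hγ.exists_conj (Finset.mem_filter.1 (Finset.mem_erase.1 hq).2).2
      (Finset.mem_erase.1 hq).1
    refine Eq.trans ?_ h.four
    rw [← Nat.card_eq_finsetCard]
    have hiff : ∀ p : ↥(S : Subgroup G) × Fin 4,
        h.ι p.1 * γ ^ ((p.2 : ℕ) + 1) * (h.ι p.1)⁻¹ = h.ι w₀ * γ ^ ((i₀ : ℕ) + 1) * (h.ι w₀)⁻¹ ↔
          ((w₀⁻¹ * p.1 : (S : Subgroup G)) : G) * ((w₀⁻¹ * p.1 : (S : Subgroup G)) : G) = 1 ∧ p.2 = i₀ := by
      rintro ⟨w, i⟩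
      constructor
      · intro e
        have hii : i = i₀ := by
          have e' := congrArg (fun q => (hγ.idx q : ℕ)) e
          simp only [← map_inv, hγ.idx_mul, show ∀ v, (hγ.idx (h.ι v) : ℕ) = 0 from fun v => by
            simpa using hγ.idx_spec v 0, hγ.idx_ι_pow] at e'
          have := i.2; have := i₀.2
          exact Fin.ext (by omega)
        subst hii
        refine ⟨?_, rfl⟩
        obtain ⟨j, -, hj⟩ := Nat.exists_mul_mod_eq_one_of_coprime (n := (i : ℕ) + 1) (k := 5)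
          (((Nat.Prime.coprime_iff_not_dvd (by norm_num)).2 (by have := i.2; omega)).symm) (by norm_num)
        have hc : Commute (h.ι (w₀⁻¹ * w)) (γ ^ ((i : ℕ) + 1)) := by
          show _ = _
          rw [map_mul, map_inv]
          calc (h.ι w₀)⁻¹ * h.ι w * γ ^ ((i : ℕ) + 1)
              = (h.ι w₀)⁻¹ * (h.ι w * γ ^ ((i : ℕ) + 1) * (h.ι w)⁻¹) * h.ι w := by group
            _ = γ ^ ((i : ℕ) + 1) * ((h.ι w₀)⁻¹ * h.ι w) := by rw [e]; group
        have h1 := (hc.pow_right j).symm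
        rw [← pow_mul, ← hγ.pow_mod, hj, pow_one] at h1
        exact (hγ.2.2.1 _).1 h1
      · rintro ⟨e, hi⟩
        change i = i₀ at hi
        subst hi
        have hc := (show Commute γ (h.ι (w₀⁻¹ * w)) from (hγ.2.2.1 _).2 e).pow_left ((i : ℕ) + 1)
        rw [show h.ι w = h.ι w₀ * h.ι (w₀⁻¹ * w) by rw [← map_mul, mul_inv_cancel_left], mul_inv_rev,
          mul_assoc (h.ι w₀) (h.ι (w₀⁻¹ * w)), ← hc.eq]
        group
    refine Nat.card_congr
      { toFun := fun p => ⟨(w₀⁻¹ * p.1.1 : (S : Subgroup G)), SetLike.coe_mem _,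
          ((hiff p.1).1 (Finset.mem_filter.1 p.2).2).1⟩
        invFun := fun x => ⟨(w₀ * ⟨x, x.2.1⟩, i₀), Finset.mem_filter.2 ⟨Finset.mem_univ _, (hiff _).2
          ⟨by rw [inv_mul_cancel_left]; exact x.2.2, rfl⟩⟩⟩
        left_inv := fun p => by
          refine Subtype.ext (Prod.ext ?_ ((hiff p.1).1 (Finset.mem_filter.1 p.2).2).2.symm)
          exact mul_inv_cancel_left w₀ p.1.1
        right_inv := fun x => Subtype.ext (by simp) }
  have hsum : ∑ p : ↥(S : Subgroup G) × Fin 4, f (h.ι p.1 * γ ^ ((p.2 : ℕ) + 1) * (h.ι p.1)⁻¹) =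
      4 * ∑ q ∈ R, f q := by
    rw [← Finset.sum_fiberwise_of_maps_to (g := fun p : ↥(S : Subgroup G) × Fin 4 =>
      h.ι p.1 * γ ^ ((p.2 : ℕ) + 1) * (h.ι p.1)⁻¹) (t := R) (fun p _ => hreg p.1 p.2), Finset.mul_sum]
    refine Finset.sum_congr rfl fun q hq => ?_
    rw [Finset.sum_congr rfl fun p hp => by rw [(Finset.mem_filter.1 hp).2], Finset.sum_const, hfib q hq,
      nsmul_eq_mul]
    norm_num
  rw [Fintype.sum_prod_type] at hsum
  simp only [hf, Finset.sum_const, Finset.card_univ, ← Nat.card_eq_fintype_card, h.card, nsmul_eq_mul] at hsum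
  rw [← Finset.add_sum_erase _ _ (Finset.mem_filter.2 ⟨Finset.mem_univ (1 : czq z), by simp⟩), ← hR]
  push_cast at hsum
  linear_combination (-1 / 4 : ℂ) * hsum

end Gen

end Cfg

end Cfsg.Agent.U34Block
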