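import Cfsg.Agent.Lib.U34Rec.BlockLocal
import Cfsg.Agent.Lib.Blocks.BlockOrth
import Cfsg.Agent.Lib.Char.Galois

/-!
The restriction of a character to the Sylow 2-subgroup: integrality, congruences and signs.
-/

set_option autoImplicit false
set_option linter.unusedSectionVars false
set_option linter.style.haveILetI false

namespace Cfsg.Agent.U34Block

open Cfsg Cfsg.Agent.SylowSplit Cfsg.Agent.Char Cfsg.Agent.Blocks
open scoped ComplexConjugate

universe u

variable {G : Type u} [Group G] [Fintype G] {S : Sylow 2 G} {z : G}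

namespace Cfg

/-- The subgroup of square roots of 1 in the Sylow subgroup. -/
def roots (h : Cfg S z) : Subgroup (S : Subgroup G) where
  carrier := {y | (y : G) * y = 1}
  one_mem' := by simp
  mul_mem' := fun {a b} ha hb => by
    show (a : G) * b * ((a : G) * b) = 1
    rw [mul_assoc, ← mul_assoc (b : G) a b, ← h.central a a.2 ha b b.2, mul_assoc (a : G) b b,
      show (b : G) * b = 1 from hb, mul_one]
    exact ha
  inv_mem' := fun {a} ha => by
    show ((a : G))⁻¹ * (a : G)⁻¹ = 1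
    rw [← mul_inv_rev, show (a : G) * a = 1 from ha, inv_one]

theorem card_roots (h : Cfg S z) : Nat.card h.roots = 4 := by
  rw [← h.four]
  exact Nat.card_congr ⟨fun y => ⟨(y : (S : Subgroup G)), (y : (S : Subgroup G)).2, y.2⟩,
    fun x => ⟨⟨x, x.2.1⟩, x.2.2⟩, fun _ => rfl, fun _ => rfl⟩

/-- A linear character trivial on the square roots of 1, and one of degree 4 living on them. -/
theorem exists_tests (h : Cfg S z) [Fintype (S : Subgroup G)] [DecidableEq G] :
    ∃ l ψ : IrrCharacter (S : Subgroup G),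
      (∀ y : (S : Subgroup G), (y : G) * y = 1 → (l : ↥(S : Subgroup G) → ℂ) y = 1) ∧
      l ≠ Char.principal _ ∧ (ψ : ↥(S : Subgroup G) → ℂ) 1 = 4 ∧ ψ ≠ Char.principal _ ∧
      ∀ y : (S : Subgroup G), (y : G) * y ≠ 1 → (ψ : ↥(S : Subgroup G) → ℂ) y = 0 := by
  classical
  haveI : h.roots.Normal := ⟨fun n hn g => by
    have e : g * n * g⁻¹ = n := by
      rw [show g * n = n * g from Subtype.ext (h.central n n.2 hn g g.2).symm, mul_inv_cancel_right]
    rw [e]; exact hn⟩
  have hsq : ∀ q : (S : Subgroup G) ⧸ h.roots, q * q = 1 := fun q => by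
    obtain ⟨y, rfl⟩ := QuotientGroup.mk'_surjective h.roots q
    rw [← map_mul]
    exact (QuotientGroup.eq_one_iff _).2 (h.sq_mem y.2)
  letI : CommGroup ((S : Subgroup G) ⧸ h.roots) :=
    { (inferInstance : Group ((S : Subgroup G) ⧸ h.roots)) with
      mul_comm := fun a b => by
        have hinv : ∀ q : (S : Subgroup G) ⧸ h.roots, q⁻¹ = q := fun q => inv_eq_of_mul_eq_one_right (hsq q)
        rw [← hinv (a * b), mul_inv_rev, hinv a, hinv b] }
  have hquot : Nat.card ((S : Subgroup G) ⧸ h.roots) = 16 := by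
    have := Subgroup.card_eq_card_quotient_mul_card_subgroup h.roots
    rw [h.card, h.card_roots] at this
    omega
  obtain ⟨q, hq⟩ : ∃ q : (S : Subgroup G) ⧸ h.roots, q ≠ 1 := by
    by_contra hc
    push Not at hc
    haveI : Subsingleton ((S : Subgroup G) ⧸ h.roots) := ⟨fun a b => (hc a).trans (hc b).symm⟩
    rw [Nat.card_of_subsingleton (1 : (S : Subgroup G) ⧸ h.roots)] at hquot
    omega
  obtain ⟨f, hf⟩ := CommGroup.exists_apply_ne_one_of_hasEnoughRootsOfUnity _ ℂ hq
  obtain ⟨y₀, rfl⟩ := QuotientGroup.mk'_surjective h.roots q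
  let zS : (S : Subgroup G) := ⟨z, h.zmem⟩
  obtain ⟨ψ, hψ⟩ : ∃ ψ : IrrCharacter (S : Subgroup G), (ψ : ↥(S : Subgroup G) → ℂ) zS ≠ (ψ : ↥(S : Subgroup G) → ℂ) 1 := by
    by_contra hc
    push Not at hc
    have hconj := (isConj_iff_forall_irr zS 1).2 fun χ => hc χ
    obtain ⟨d, hd⟩ := isConj_iff.1 hconj.symm
    rw [mul_one, mul_inv_cancel] at hd
    have hz1 : z = 1 := (congrArg Subtype.val hd).symm
    exact absurd h.zord (by rw [hz1, orderOf_one]; norm_num)
  have hcent : ∀ w y : (S : Subgroup G), (w : G) * w = 1 →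
      (ψ : ↥(S : Subgroup G) → ℂ) (w * y) * (ψ : ↥(S : Subgroup G) → ℂ) 1 =
        (ψ : ↥(S : Subgroup G) → ℂ) w * (ψ : ↥(S : Subgroup G) → ℂ) y := by
    intro w y hw
    have := irr_sum_conj_mul ψ w y
    rw [Finset.sum_congr rfl fun j _ => by
      rw [show j⁻¹ * w * j = w from Subtype.ext (by
        show (j : G)⁻¹ * w * j = w
        rw [mul_assoc, h.central w w.2 hw j j.2, inv_mul_cancel_left])], Finset.sum_const, Finset.card_univ,
      nsmul_eq_mul, ← Nat.card_eq_fintype_card, mul_assoc, mul_div_assoc] at this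
    rw [mul_left_cancel₀ (Nat.cast_ne_zero.2 Nat.card_pos.ne') this, div_mul_cancel₀ _ (irr_one_ne_zero ψ)]
  have hz2 : (zS : G) * zS = 1 := mul_self_of_two h.zord
  have hvan : ∀ y : (S : Subgroup G), (y : G) * y ≠ 1 → (ψ : ↥(S : Subgroup G) → ℂ) y = 0 := by
    intro y hy
    obtain ⟨w, hw, e⟩ := h.comm y y.2 hy z h.zmem (mul_self_of_two h.zord)
    have e1 := irr_conj_invariant ψ y (⟨w, hw⟩ : (S : Subgroup G))
    rw [show (⟨w, hw⟩ : (S : Subgroup G)) * y * (⟨w, hw⟩ : (S : Subgroup G))⁻¹ = zS * y from Subtype.ext (by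
      show w * (y : G) * w⁻¹ = z * y
      rw [e, h.central z h.zmem (mul_self_of_two h.zord) y y.2])] at e1
    have e2 := hcent zS y hz2
    rw [e1] at e2
    by_contra h0
    exact hψ (mul_left_cancel₀ h0 (by linear_combination -e2))
  have hψne : ψ ≠ Char.principal _ := fun e => hψ (by rw [e]; rfl)
  have hdeg : (ψ : ↥(S : Subgroup G) → ℂ) 1 = 4 := by
    obtain ⟨d, hd, he⟩ := IsIrrCharacter.exists_degree ψ.2
    have h1 : ∑ y : (S : Subgroup G), (ψ : ↥(S : Subgroup G) → ℂ) y * conj ((ψ : ↥(S : Subgroup G) → ℂ) y) = 64 := by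
      have := classInner_self_irr ψ.2
      rw [Cfsg.classInner, h.card, inv_mul_eq_one₀ (by norm_num)] at this
      exact this.symm.trans (by norm_num)
    have h2 : ∀ y : (S : Subgroup G), (ψ : ↥(S : Subgroup G) → ℂ) y * conj ((ψ : ↥(S : Subgroup G) → ℂ) y) =
        if (y : G) * y = 1 then (d : ℂ) ^ 2 else 0 := by
      intro y
      split_ifs with hy
      · have := hcent y y⁻¹ hy
        rw [mul_inv_cancel, irr_inv, he] at this
        rw [pow_two]; exact this.symm
      · rw [hvan y hy, zero_mul]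
    rw [Finset.sum_congr rfl fun y _ => h2 y, ← Finset.sum_filter, Finset.sum_const, nsmul_eq_mul,
      show (Finset.univ.filter fun y : (S : Subgroup G) => (y : G) * y = 1).card = 4 by
        rw [← Nat.card_eq_finsetCard]
        refine Eq.trans (Nat.card_congr (Equiv.subtypeEquivRight fun y => ?_)) h.card_roots
        simp only [Finset.mem_filter, Finset.mem_univ, true_and]
        exact Iff.rfl] at h1
    norm_num at h1
    have hd4 : d = 4 := by
      have : 4 * d ^ 2 = 64 := by exact_mod_cast h1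
      nlinarith
    rw [he, hd4]; norm_num
  refine ⟨⟨fun y => (f (QuotientGroup.mk' h.roots y) : ℂ), isIrrCharacter_linear (f.comp (QuotientGroup.mk' h.roots))⟩,
    ψ, fun y hy => ?_, fun e => hf ?_, hdeg, hψne, hvan⟩
  · show (f (QuotientGroup.mk' h.roots y) : ℂ) = 1
    rw [show QuotientGroup.mk' h.roots y = 1 from (QuotientGroup.eq_one_iff _).2 hy, map_one, Units.val_one]
  · exact Units.ext (congrFun (congrArg Subtype.val e) y₀)

/-- The values of a character on the 2-elements. -/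
theorem values (h : Cfg S z) (χ : IrrCharacter G) {x : G} (hx : orderOf x = 4) :
    ∃ a e M : ℤ, (χ : G → ℂ) z = a ∧ (χ : G → ℂ) x = e ∧
      (χ : G → ℂ) 1 = ((4 * e - 3 * a + 64 * M : ℤ) : ℂ) ∧ 0 ≤ M ∧ 0 ≤ M + e ∧ (4 : ℤ) ∣ a - e ∧
      0 < 4 * e - 3 * a + 64 * M ∧ |a| ≤ 4 * e - 3 * a + 64 * M := by
  classical
  haveI : Fintype (S : Subgroup G) := Fintype.ofFinite _
  obtain ⟨l, ψ, hl, hlne, hψ1, hψne, hψ0⟩ := h.exists_tests
  obtain ⟨d, hdpos, hd⟩ := IsIrrCharacter.exists_degree χ.2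
  set R := IsCharacter.restrict (irr_isCharacter χ) (S : Subgroup G)
  set Zf := Finset.univ.filter fun y : (S : Subgroup G) => (y : G) * y = 1 with hZf
  have hZcard : Zf.card = 4 := by
    rw [hZf, ← Nat.card_eq_finsetCard]
    refine Eq.trans (Nat.card_congr (Equiv.subtypeEquivRight fun y => ?_)) h.card_roots
    simp only [Finset.mem_filter, Finset.mem_univ, true_and]
    exact Iff.rfl
  have hcls : ∀ u v : G, IsConj u v → (χ : G → ℂ) u = (χ : G → ℂ) v := fun u v huv => by
    obtain ⟨c, rfl⟩ := isConj_iff.1 huv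
    rw [irr_conj_invariant]
  have hone : (1 : (S : Subgroup G)) ∈ Zf := by simp [hZf]
  have key : ∀ g : ↥(S : Subgroup G) → ℂ, ∑ y : (S : Subgroup G), (χ : G → ℂ) (y : G) * g y =
      (χ : G → ℂ) 1 * g 1 + (χ : G → ℂ) z * (∑ y ∈ Zf, g y - g 1) +
        (χ : G → ℂ) x * (∑ y, g y - ∑ y ∈ Zf, g y) := by
    intro g
    rw [← Finset.sum_filter_add_sum_filter_not Finset.univ (fun y : (S : Subgroup G) => (y : G) * y = 1), ← hZf,
      ← Finset.sum_filter_add_sum_filter_not Finset.univ (fun y : (S : Subgroup G) => (y : G) * y = 1) g, ← hZf,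
      ← Finset.add_sum_erase _ _ hone, ← Finset.add_sum_erase _ g hone, add_sub_cancel_left, add_sub_cancel_left,
      Finset.mul_sum, Finset.mul_sum]
    congr 1
    congr 1
    · exact Finset.sum_congr rfl fun y hy => by
        obtain ⟨hne, hy⟩ := Finset.mem_erase.1 hy
        rw [hcls z y (h.invol y (orderOf_two (Finset.mem_filter.1 hy).2 fun e => hne (Subtype.ext e)))]
    · exact Finset.sum_congr rfl fun y hy => by
        rw [hcls x y (h.conjFour x y hx (h.orderOf_eq_four y.2 (Finset.mem_filter.1 hy).2))]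
  have hin : ∀ φ : IrrCharacter (S : Subgroup G), ∃ n : ℕ, ∑ y : (S : Subgroup G), (χ : G → ℂ) (y : G) *
      conj ((φ : ↥(S : Subgroup G) → ℂ) y) = 64 * (n : ℂ) := fun φ => by
    obtain ⟨n, hn⟩ := IsCharacter.exists_classInner_nat R (irr_isCharacter φ)
    rw [Cfsg.classInner, h.card, inv_mul_eq_iff_eq_mul₀ (by norm_num)] at hn
    exact ⟨n, hn.trans (by norm_num)⟩
  have hsum0 : ∀ φ : IrrCharacter (S : Subgroup G), φ ≠ Char.principal _ →
      ∑ y, conj ((φ : ↥(S : Subgroup G) → ℂ) y) = 0 := fun φ hφ => by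
    have := classInner_irr_of_ne (Char.principal (S : Subgroup G)).2 φ.2 fun e => hφ (Subtype.ext e.symm)
    rw [Cfsg.classInner, h.card] at this
    simpa [Char.principal] using this
  obtain ⟨n1, hn1⟩ := hin (Char.principal _)
  obtain ⟨n2, hn2⟩ := hin l
  obtain ⟨n3, hn3⟩ := hin ψ
  have hlZ : ∑ y ∈ Zf, conj ((l : ↥(S : Subgroup G) → ℂ) y) = 4 := by
    rw [Finset.sum_congr rfl fun y hy => by rw [hl y (Finset.mem_filter.1 hy).2, map_one], Finset.sum_const, hZcard]
    norm_num
  have hψZ : ∑ y ∈ Zf, conj ((ψ : ↥(S : Subgroup G) → ℂ) y) = 0 := by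
    rw [← hsum0 ψ hψne]
    exact Finset.sum_subset (Finset.subset_univ _) fun y _ hy => by
      rw [hψ0 y fun e => hy (by simp [hZf, e]), map_zero]
  rw [key, hd] at hn1 hn2 hn3
  simp only [Char.principal, map_one, Finset.sum_const, hZcard, Finset.card_univ, ← Nat.card_eq_fintype_card,
    h.card, nsmul_eq_mul, mul_one] at hn1
  rw [hlZ, hsum0 l hlne, hl 1 (by simp), map_one] at hn2
  rw [hψZ, hsum0 ψ hψne, hψ1, map_ofNat] at hn3
  norm_num at hn1 hn2 hn3
  refine ⟨(d : ℤ) - 16 * n3, (n1 : ℤ) - n2, n2, ?_, ?_, ?_, by positivity, by omega, ?_, ?_, ?_⟩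
  · push_cast; linear_combination (-1 / 4 : ℂ) * hn3
  · push_cast; linear_combination (1 / 64 : ℂ) * hn1 - (1 / 64 : ℂ) * hn2
  · rw [hd]; push_cast
    linear_combination (1 / 16 : ℂ) * hn1 + (15 / 16 : ℂ) * hn2 + (3 / 4 : ℂ) * hn3
  all_goals
    have key2 : (4 * (d : ℤ) - 48 * n3 - 4 * ((n1 : ℤ) - n2) = 64 * n2) := by
      have : (4 * (d : ℂ) - 48 * n3 - 4 * ((n1 : ℂ) - n2) = 64 * n2) := by
        linear_combination (1 / 16 : ℂ) * hn1 + (15 / 16 : ℂ) * hn2 + (3 / 4 : ℂ) * hn3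
      exact_mod_cast this
  · omega
  · omega
  · have hd' : 4 * ((n1 : ℤ) - n2) - 3 * ((d : ℤ) - 16 * n3) + 64 * n2 = d := by omega
    rw [hd']
    have ha : (χ : G → ℂ) z = (((d : ℤ) - 16 * n3 : ℤ) : ℂ) := by
      push_cast; linear_combination (-1 / 4 : ℂ) * hn3
    obtain ⟨m, π, -, hπ⟩ := χ.2
    have hle := norm_char_le π z
    rw [hπ, ha, Complex.norm_intCast] at hle
    have hm : (m : ℂ) = d := by rw [← hd, ← hπ, Representation.char_one]; simp
    have hm' : m = d := by exact_mod_cast hm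
    simp only [Module.finrank_pi, Fintype.card_fin, hm'] at hle
    exact_mod_cast hle

end Cfg

end Cfsg.Agent.U34Block
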