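import Cfsg.Agent.Lib.U34Rec.BlockCentral
import Cfsg.Agent.Lib.U34Rec.BlockValues
import Cfsg.Agent.Lib.GridBlock.Section
import Cfsg.Agent.Lib.SylowSplit.Core

/-!
The columns of the principal block at an involution and at an element of order 4.
-/

set_option autoImplicit false
set_option linter.unusedSectionVars false
set_option linter.style.haveILetI false

namespace Cfsg.Agent.U34Block

open Cfsg Cfsg.Agent.SylowSplit Cfsg.Agent.Char Cfsg.Agent.Blocks
open scoped ComplexConjugate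

universe u

variable {G : Type u} [Group G] [Fintype G] {S : Sylow 2 G} {z x : G}

/-- The choices made. -/
structure Frame (S : Sylow 2 G) (z x : G) where
  cfg : Cfg S z
  xmem : x ∈ (S : Subgroup G)
  xne : x * x ≠ 1
  γ : czq z
  gen : cfg.Gen γ
  ζ : ℂˣ
  prim : IsPrimitiveRoot (ζ : ℂ) 5

namespace Frame

variable (Fr : Frame S z x)
include Fr

theorem zeta_five : Fr.ζ ^ 5 = 1 := Units.ext (by rw [Units.val_pow_eq_pow_val]; exact Fr.prim.pow_eq_one)

theorem xord : orderOf x = 4 := Fr.cfg.orderOf_eq_four Fr.xmem Fr.xne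

theorem two_z : ∃ k, orderOf z = 2 ^ k := ⟨1, Fr.cfg.zord⟩

theorem two_x : ∃ k, orderOf x = 2 ^ k := ⟨2, by rw [Fr.xord]; norm_num⟩

/-- The linear character of the centraliser of the involution. -/
noncomputable def lin : cz z →* ℂˣ := (Fr.gen.lin Fr.ζ Fr.zeta_five).comp (QuotientGroup.mk' _)

theorem lin_five (s : cz z) : Fr.lin s ^ 5 = 1 := by
  obtain ⟨y, i, e⟩ := Fr.gen.exists_form (QuotientGroup.mk' _ s)
  rw [lin, MonoidHom.comp_apply, e, Fr.gen.lin_apply, pow_right_comm, Fr.zeta_five, one_pow]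

theorem lin_ι (y : (S : Subgroup G)) : Fr.lin (Subgroup.inclusion Fr.cfg.le_cz y) = 1 := by
  have := Fr.gen.lin_apply Fr.ζ Fr.zeta_five y 0
  simpa [lin, Cfg.ι] using this

/-- The weight attached to a fifth root of unity. -/
noncomputable def wt (j : ℕ) (w : ℂˣ) : ℂ := if w = 1 then 64 else 4 * (w : ℂ) ^ j

open scoped Classical in
/-- The test function at the involution, on the regular elements of its centraliser. -/
noncomputable def testZ (j : ℕ) (s : G) : ℂ :=
  if h : s ∈ cz z then wt j (Fr.lin ⟨s, h⟩) else 0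

theorem testZ_conj (j : ℕ) (d s : G) (hd : Commute d z) : Fr.testZ j (d * s * d⁻¹) = Fr.testZ j s := by
  have hdC : d ∈ cz z := Subgroup.mem_centralizer_singleton_iff.2 hd.eq
  by_cases hs : s ∈ cz z
  · rw [testZ, testZ, dif_pos hs, dif_pos (mul_mem (mul_mem hdC hs) (inv_mem hdC))]
    congr 1
    rw [show (⟨d * s * d⁻¹, _⟩ : cz z) = ⟨d, hdC⟩ * ⟨s, hs⟩ * ⟨d, hdC⟩⁻¹ from rfl, map_mul, map_mul, map_inv,
      mul_comm (Fr.lin ⟨d, hdC⟩), mul_inv_cancel_right]
  · rw [testZ, testZ, dif_neg hs, dif_neg]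
    intro h
    apply hs
    have := mul_mem (mul_mem (inv_mem hdC) h) hdC
    rwa [show d⁻¹ * (d * s * d⁻¹) * d = s by group] at this

theorem testZ_quot (j : ℕ) (s : cz z) :
    Fr.testZ j (s : G) = wt j (Fr.gen.lin Fr.ζ Fr.zeta_five (QuotientGroup.mk' _ s)) := by
  rw [testZ, dif_pos s.2]; rfl

/-- The test functions on the group: five at the involution, one at the element of order 4. -/
noncomputable def test (j : Fin 6) : G → ℂ :=
  if (j : ℕ) < 5 then lift z (Fr.testZ j) else lift x fun _ => 16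

theorem test_class (j : Fin 6) : IsClassFunction G (Fr.test j) := by
  unfold test
  split_ifs
  exacts [lift_class fun d s hd => Fr.testZ_conj _ d s hd, lift_class fun _ _ _ => rfl]

theorem test_one (j : Fin 6) : Fr.test j 1 = 0 := by
  have h1 : tp (1 : G) = 1 := tp_self ⟨0, by simp⟩
  have hne : ∀ y : G, y ≠ 1 → ¬ IsConj (1 : G) y := fun y hy h => hy (by obtain ⟨c, hc⟩ := isConj_iff.1 h; simpa using hc.symm)
  unfold test
  split_ifs
  · exact lift_eq_zero (by rw [h1]; exact hne z Fr.cfg.orderOf_z_ne)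
  · exact lift_eq_zero (by rw [h1]; exact hne x fun e => Fr.xne (by rw [e, one_mul]))

/-- The regular elements of the centraliser of the element of order 4 lie in its core. -/
theorem four_quot : Nat.card (czq x) = 16 ∧ IsPGroup 2 (czq x) := by
  classical
  haveI : Fact (Nat.Prime 2) := ⟨Nat.prime_two⟩
  haveI : Fintype (S : Subgroup G) := Fintype.ofFinite _
  have h := Fr.cfg
  set x' : (S : Subgroup G) := ⟨x, Fr.xmem⟩
  set T := Subgroup.centralizer ({x'} : Set (S : Subgroup G))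
  have hT : ∀ y : T, ((y : (S : Subgroup G)) : G) ∈ cz x := fun y => Subgroup.mem_centralizer_singleton_iff.2
    (congrArg Subtype.val (Subgroup.mem_centralizer_singleton_iff.1 y.2))
  let φ : T →* czq x := (QuotientGroup.mk' _).comp (MonoidHom.mk' (fun y => ⟨_, hT y⟩) fun _ _ => rfl)
  have hbij : Function.Bijective φ := by
    refine ⟨(injective_iff_map_eq_one φ).2 fun y hy => ?_, fun q => ?_⟩
    · have := core_two ((QuotientGroup.eq_one_iff _).1 hy) (two_elt_of_mem S.2 (y : (S : Subgroup G)).2)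
      exact Subtype.ext (Subtype.ext (congrArg (fun s : cz x => (s : G)) this))
    · obtain ⟨g, rfl⟩ := QuotientGroup.mk'_surjective (pPrimeCore 2 (cz x)) q
      obtain ⟨o, ho, hoS⟩ := h.cenFour x Fr.xmem Fr.xne g (Subgroup.mem_centralizer_singleton_iff.1 g.2)
      obtain ⟨o', ho', rfl⟩ := ho
      refine ⟨⟨⟨_, hoS⟩, Subgroup.mem_centralizer_singleton_iff.2 (Subtype.ext ?_)⟩, ?_⟩
      · exact Subgroup.mem_centralizer_singleton_iff.1 (mul_mem (inv_mem o'.2) g.2)
      · show QuotientGroup.mk' _ (o'⁻¹ * g) = _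
        rw [map_mul, map_inv, show QuotientGroup.mk' _ o' = (1 : czq x) from (QuotientGroup.eq_one_iff _).2 ho',
          inv_one, one_mul]
  have hP : IsPGroup 2 (czq x) := IsPGroup.of_surjective ((S.2.to_subgroup T)) φ hbij.2
  refine ⟨?_, hP⟩
  have hcard : Nat.card T * 4 = 64 := by
    have hidx : T.index = 4 := by
      have e1 : MulAction.stabilizer (ConjAct (S : Subgroup G)) x' = T := ConjAct.stabilizer_eq_centralizer x'
      rw [Subgroup.index]
      refine Eq.trans (Eq.trans (congrArg (fun H : Subgroup (ConjAct (S : Subgroup G)) =>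
        Nat.card (ConjAct (S : Subgroup G) ⧸ H)) e1.symm)
        (Nat.card_congr (MulAction.orbitEquivQuotientStabilizer (ConjAct (S : Subgroup G)) x')).symm) ?_
      rw [← h.card_roots]
      refine Nat.card_congr (Equiv.symm (Equiv.ofBijective (fun w => ⟨x' * (w : (S : Subgroup G)), ?_⟩) ⟨?_, ?_⟩))
      · obtain ⟨y, hy, e⟩ := h.comm x Fr.xmem Fr.xne _ (w : (S : Subgroup G)).2 w.2
        rw [ConjAct.mem_orbit_conjAct]
        exact (isConj_iff.2 ⟨⟨y, hy⟩, Subtype.ext e⟩).symm
      · intro a b e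
        exact Subtype.ext (mul_left_cancel (congrArg Subtype.val e))
      · rintro ⟨q, hq⟩
        rw [ConjAct.mem_orbit_conjAct] at hq
        obtain ⟨y, hy⟩ := isConj_iff.1 hq.symm
        haveI : h.roots.Normal := ⟨fun n hn g => by
          rwa [show g * n = n * g from Subtype.ext (h.central n n.2 hn g g.2).symm, mul_inv_cancel_right]⟩
        have hsq : ∀ q : (S : Subgroup G) ⧸ h.roots, q⁻¹ = q := fun q => by
          obtain ⟨w, rfl⟩ := QuotientGroup.mk'_surjective h.roots q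
          refine inv_eq_of_mul_eq_one_right ?_
          rw [← map_mul]
          exact (QuotientGroup.eq_one_iff _).2 (h.sq_mem w.2)
        refine ⟨⟨x'⁻¹ * q, ?_⟩, Subtype.ext (mul_inv_cancel_left _ _)⟩
        rw [← QuotientGroup.eq_one_iff, ← hy]
        show QuotientGroup.mk' h.roots _ = 1
        have hcm : ∀ a b : (S : Subgroup G) ⧸ h.roots, a * b = b * a := fun a b => by
          rw [← hsq (a * b), mul_inv_rev, hsq a, hsq b]
        rw [map_mul, map_mul, map_mul, map_inv, map_inv, hcm (QuotientGroup.mk' _ y), mul_inv_cancel_right,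
          inv_mul_cancel]
    rw [← hidx, mul_comm, Subgroup.index_mul_card, h.card]
  rw [← Nat.card_eq_of_bijective φ hbij]
  omega

theorem regular_four [Fintype (czq x)] [DecidablePred fun q : czq x => ¬ 2 ∣ orderOf q] :
    Finset.univ.filter (fun q : czq x => ¬ 2 ∣ orderOf q) = {1} := by
  ext q
  simp only [Finset.mem_filter, Finset.mem_univ, true_and, Finset.mem_singleton]
  refine ⟨fun hq => ?_, fun hq => by simp [hq]⟩
  obtain ⟨k, hk⟩ := IsPGroup.iff_orderOf.1 Fr.four_quot.2 q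
  rcases Nat.eq_zero_or_pos k with rfl | hk0
  · exact orderOf_eq_one_iff.1 (by simpa using hk)
  · exact absurd (hk ▸ dvd_pow_self 2 hk0.ne') hq

/-- The coefficient of a character in a test function. -/
noncomputable def row (χ : IrrCharacter G) (j : Fin 6) : ℂ := classInner (Fr.test j) (χ : G → ℂ)

variable {J : Ideal AlgInt} [J.IsPrime]

theorem row_outside (hJ : IsPModular 2 J) {χ : IrrCharacter G} (hχ : χ ∉ principalBlock J G) (j : Fin 6) :
    Fr.row χ j = 0 := by
  classical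
  -- a sum over a section against a function constant on the cosets of the core
  have key : ∀ (y : G) (_ : ∃ k, orderOf y = 2 ^ k) (F : G → ℂ)
      (_ : ∀ (s : cz y) (o : cz y), o ∈ pPrimeCore 2 (cz y) → F ((s * o : cz y) : G) = F (s : G))
      (Sb : Subgroup (czq y)) (_ : Sb.Normal) (_ : IsPGroup 2 Sb)
      (_ : Subgroup.centralizer (Sb : Set (czq y)) ≤ Sb),
      ∑ s ∈ regSet y, F s * conj ((χ : G → ℂ) (y * s)) = 0 := by
    intro y hy F hF Sb hn hp hc
    haveI := hn
    haveI : Fintype (cz y) := Fintype.ofFinite _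
    haveI : Fintype (czq y) := Fintype.ofFinite _
    haveI : Fintype (pPrimeCore 2 (cz y)) := Fintype.ofFinite _
    have e1 : ∑ s ∈ regSet y, F s * conj ((χ : G → ℂ) (y * s)) =
        ∑ s ∈ Finset.univ.filter (fun s : cz y => ¬ 2 ∣ orderOf (s : G)),
          F (s : G) * conj ((χ : G → ℂ) (y * (s : G))) := by
      symm
      refine Finset.sum_bij (fun s _ => (s : G)) (fun s hs => mem_regSet.2
        ⟨Subgroup.mem_centralizer_singleton_iff.1 s.2, (Finset.mem_filter.1 hs).2⟩)
        (fun _ _ _ _ h => Subtype.ext h) (fun s hs => ?_) (fun s hs => rfl)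
      exact ⟨⟨s, Subgroup.mem_centralizer_singleton_iff.2 (mem_regSet.1 hs).1.eq⟩,
        Finset.mem_filter.2 ⟨Finset.mem_univ _, (mem_regSet.1 hs).2⟩, rfl⟩
    rw [e1]
    set A := Finset.univ.filter (fun s : cz y => ¬ 2 ∣ orderOf (s : G))
    have hreg : ∀ (s : cz y) (o : cz y), o ∈ pPrimeCore 2 (cz y) → s ∈ A → s * o ∈ A := by
      intro s o ho hs
      simp only [A, Finset.mem_filter, Finset.mem_univ, true_and, Subgroup.orderOf_coe] at hs ⊢
      exact GridBlock.regular_mul _ Nat.prime_two (odd_core y) hs ho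
    have e2 : (Nat.card (pPrimeCore 2 (cz y)) : ℂ) * ∑ s ∈ A, F (s : G) * conj ((χ : G → ℂ) (y * (s : G))) =
        ∑ s ∈ A, F (s : G) *
          conj (∑ o : pPrimeCore 2 (cz y), (χ : G → ℂ) (y * ((s * (o : cz y) : cz y) : G))) := by
      conv_rhs => arg 2; ext s; rw [map_sum, Finset.mul_sum]
      rw [Finset.sum_comm]
      refine Eq.trans ?_ (Finset.sum_congr rfl (g := fun o : pPrimeCore 2 (cz y) =>
        ∑ s ∈ A, F (s : G) * conj ((χ : G → ℂ) (y * (s : G)))) fun o _ => ?_).symm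
      · rw [Finset.sum_const, Finset.card_univ, ← Nat.card_eq_fintype_card, nsmul_eq_mul]
      refine Finset.sum_bij' (fun s _ => s * (o : cz y)) (fun s _ => s * (o : cz y)⁻¹)
        (fun s hs => hreg s _ o.2 hs) (fun s hs => hreg s _ (inv_mem o.2) hs) (fun s _ => mul_inv_cancel_right _ _)
        (fun s _ => inv_mul_cancel_right _ _) fun s _ => by rw [hF s _ o.2]
    rw [Finset.sum_eq_zero (s := A) (f := fun s => F (s : G) *
      conj (∑ o : pPrimeCore 2 (cz y), (χ : G → ℂ) (y * ((s * (o : cz y) : cz y) : G)))) fun s hs => ?_] at e2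
    · exact (mul_eq_zero.1 e2).resolve_left (Nat.cast_ne_zero.2 Nat.card_pos.ne')
    · rw [GridBlock.section_sum_zero _ hJ hy rfl (odd_core y) Sb hp hc hχ
        (by simpa [A, Subgroup.orderOf_coe] using hs), map_zero, mul_zero]
  have hK := IsCharacter.isClassFunction (irr_isCharacter χ)
  unfold row test
  split_ifs
  · rw [classInner_lift (fun d s hd => Fr.testZ_conj _ d s hd) Fr.two_z hK]
    obtain ⟨hn, hp, hc⟩ := Fr.gen.self_centralising
    rw [key z Fr.two_z _ (fun s o ho => ?_) _ hn hp hc, mul_zero]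
    rw [Fr.testZ_quot, Fr.testZ_quot, map_mul, show QuotientGroup.mk' (pPrimeCore 2 (cz z)) o = 1 from
      (QuotientGroup.eq_one_iff _).2 ho, mul_one]
  · rw [classInner_lift (fun _ _ _ => rfl) Fr.two_x hK,
      key x Fr.two_x _ (fun _ _ _ => rfl) ⊤ inferInstance (Fr.four_quot.2.to_subgroup ⊤) le_top, mul_zero]

open scoped Classical in
/-- The values of a character on the section of the involution, modulo the core. -/
noncomputable def colVal (χ : IrrCharacter G) (q : czq z) : ℂ :=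
  if ¬ 2 ∣ orderOf q then (χ : G → ℂ) (z * ((Function.surjInv (QuotientGroup.mk'_surjective _) q : cz z) : G)) else 0

theorem colVal_mk (hJ : IsPModular 2 J) {χ : IrrCharacter G} (hχ : χ ∈ principalBlock J G) (s : cz z)
    (hs : ¬ 2 ∣ orderOf (s : G)) :
    (χ : G → ℂ) (z * (s : G)) = colVal (z := z) χ (QuotientGroup.mk' _ s) := by
  haveI : Fintype (cz z) := Fintype.ofFinite _
  rw [colVal, if_pos ((regular_iff s).1 hs)]
  set t := Function.surjInv (QuotientGroup.mk'_surjective (pPrimeCore 2 (cz z))) (QuotientGroup.mk' _ s)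
  have ht : QuotientGroup.mk' (pPrimeCore 2 (cz z)) s = QuotientGroup.mk' _ t :=
    (Function.surjInv_eq (QuotientGroup.mk'_surjective (pPrimeCore 2 (cz z))) _).symm
  have e := GridBlock.section_const (x := z) (pPrimeCore 2 (cz z)) hJ Fr.two_z rfl (odd_core z) hχ (u := s)
    (v := s⁻¹ * t) (by rwa [← Subgroup.orderOf_coe]) (QuotientGroup.eq.1 ht)
  rw [mul_inv_cancel_left] at e
  exact e.symm

theorem colVal_conj (hJ : IsPModular 2 J) {χ : IrrCharacter G} (hχ : χ ∈ principalBlock J G) (q d : czq z) :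
    colVal (z := z) χ (d * q * d⁻¹) = colVal (z := z) χ q := by
  classical
  by_cases hq : ¬ 2 ∣ orderOf q
  · obtain ⟨s, rfl⟩ := QuotientGroup.mk'_surjective (pPrimeCore 2 (cz z)) q
    obtain ⟨t, rfl⟩ := QuotientGroup.mk'_surjective (pPrimeCore 2 (cz z)) d
    have hs : ¬ 2 ∣ orderOf (s : G) := (regular_iff s).2 hq
    rw [← map_inv, ← map_mul, ← map_mul, ← Fr.colVal_mk hJ hχ _ (by
      rw [Subgroup.coe_mul, Subgroup.coe_mul, Subgroup.coe_inv, BrauerSuzuki.orderOf_conj_eq]; exact hs),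
      ← Fr.colVal_mk hJ hχ _ hs]
    refine (congrArg (χ : G → ℂ) ?_).trans (irr_conj_invariant χ (z * (s : G)) (t : G))
    have hc : Commute (t : G) z := Subgroup.mem_centralizer_singleton_iff.1 t.2
    show z * ((t : G) * s * (t : G)⁻¹) = t * (z * s) * (t : G)⁻¹
    rw [← mul_assoc (t : G) z s, hc.eq]; group
  · rw [colVal, colVal, if_neg hq, if_neg (by rwa [BrauerSuzuki.orderOf_conj_eq])]

theorem wt_zeta (j : ℕ) (i : ℕ) : wt j (Fr.gen.lin Fr.ζ Fr.zeta_five (Fr.γ ^ i)) =
    if 5 ∣ i then 64 else 4 * (Fr.ζ : ℂ) ^ (j * i) := by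
  rw [Fr.gen.lin_pow, wt]
  have h : Fr.ζ ^ i = 1 ↔ 5 ∣ i := by
    rw [← Fr.prim.pow_eq_one_iff_dvd i, ← Units.val_pow_eq_pow_val, Units.ext_iff, Units.val_one]
  simp only [h, Units.val_pow_eq_pow_val, ← pow_mul, mul_comm i j]

theorem card_cz_z :
    (Nat.card (cz z) : ℂ) = 320 * Nat.card (pPrimeCore 2 (cz z)) := by
  rw [card_cz, Fr.gen.card]; push_cast; ring

theorem card_cz_x :
    (Nat.card (cz x) : ℂ) = 16 * Nat.card (pPrimeCore 2 (cz x)) := by
  rw [card_cz, Fr.four_quot.1]; push_cast; ring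

/-- The rows at the involution, as the Fourier coefficients of the values. -/
theorem row_z (hJ : IsPModular 2 J) {χ : IrrCharacter G} (hχ : χ ∈ principalBlock J G) {j : Fin 6}
    (hj : (j : ℕ) < 5) : Fr.row χ j =
      (1 / 5 : ℂ) * ∑ r : Fin 5, (Fr.ζ : ℂ) ^ ((j : ℕ) * r) * conj (colVal (z := z) χ (Fr.γ ^ (r : ℕ))) := by
  classical
  haveI : Fintype (czq z) := Fintype.ofFinite _
  have hK := IsCharacter.isClassFunction (irr_isCharacter χ)
  rw [row, test, if_pos hj, classInner_lift (fun d s hd => Fr.testZ_conj _ d s hd) Fr.two_z hK,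
    sum_regSet _ (fun q => wt j (Fr.gen.lin Fr.ζ Fr.zeta_five q) * conj (colVal (z := z) χ q))
      (fun s hs => by rw [Fr.testZ_quot, Fr.colVal_mk hJ hχ s hs]),
    Fr.gen.sum_regular (fun q d => by
      rw [Fr.colVal_conj hJ hχ]
      congr 2
      rw [map_mul, map_mul, map_inv, mul_comm (Fr.gen.lin Fr.ζ Fr.zeta_five d), mul_inv_cancel_right]),
    Fr.card_cz_z, Fin.sum_univ_succ (n := 4)]
  have h0 := Fr.wt_zeta (j : ℕ) 0
  rw [pow_zero, if_pos (dvd_zero 5)] at h0
  have hi : ∀ i : Fin 4, wt (j : ℕ) (Fr.gen.lin Fr.ζ Fr.zeta_five (Fr.γ ^ ((i : ℕ) + 1))) =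
      4 * (Fr.ζ : ℂ) ^ ((j : ℕ) * ((i : ℕ) + 1)) := fun i => by
    rw [Fr.wt_zeta, if_neg]; have := i.2; omega
  simp only [h0, hi, Fin.val_zero, Fin.val_succ, mul_zero, pow_zero, one_mul, mul_assoc, ← Finset.mul_sum]
  have hO : (Nat.card (pPrimeCore 2 (cz z)) : ℂ) ≠ 0 := Nat.cast_ne_zero.2 Nat.card_pos.ne'
  field_simp
  ring

theorem row_x (hJ : IsPModular 2 J) {χ : IrrCharacter G} (hχ : χ ∈ principalBlock J G) :
    Fr.row χ 5 = conj ((χ : G → ℂ) x) := by
  classical
  haveI : Fintype (czq x) := Fintype.ofFinite _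
  haveI : Fintype (cz x) := Fintype.ofFinite _
  have hK := IsCharacter.isClassFunction (irr_isCharacter χ)
  rw [row, test, if_neg (by decide), classInner_lift (fun _ _ _ => rfl) Fr.two_x hK,
    sum_regSet _ (fun _ : czq x => (16 : ℂ) * conj ((χ : G → ℂ) x)) (fun s hs => ?_),
    Fr.regular_four, Finset.sum_singleton, Fr.card_cz_x]
  · have hO : (Nat.card (pPrimeCore 2 (cz x)) : ℂ) ≠ 0 := Nat.cast_ne_zero.2 Nat.card_pos.ne'
    field_simp
  · have h1 := (regular_iff s).1 hs
    have h2 : QuotientGroup.mk' (pPrimeCore 2 (cz x)) s = 1 := by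
      have : QuotientGroup.mk' (pPrimeCore 2 (cz x)) s ∈ Finset.univ.filter fun q : czq x => ¬ 2 ∣ orderOf q :=
        Finset.mem_filter.2 ⟨Finset.mem_univ _, h1⟩
      rwa [Fr.regular_four, Finset.mem_singleton] at this
    have e := irr_section_of_kernel hJ Fr.two_x rfl hχ (pPrimeCore 2 (cz x)) (odd_core x)
      ((QuotientGroup.eq_one_iff _).1 h2)
    rw [e]

/-- The inner products of the test functions. -/
theorem gram (j k : Fin 6) : classInner (Fr.test j) (Fr.test k) =
    if (j : ℕ) < 5 then (if (k : ℕ) < 5 then (if j = k then 16 else 12) else 0)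
      else (if (k : ℕ) < 5 then 0 else 16) := by
  classical
  haveI : Fintype (czq z) := Fintype.ofFinite _
  haveI : Fintype (czq x) := Fintype.ofFinite _
  have hxz : ¬ IsConj x z := fun h => by
    obtain ⟨c, e⟩ := isConj_iff.1 h
    have := congrArg orderOf e
    rw [BrauerSuzuki.orderOf_conj_eq, Fr.xord, Fr.cfg.zord] at this
    norm_num at this
  have htpz : ∀ s ∈ regSet z, tp (z * s) = z := fun s hs =>
    tp_eq (isPPart_mul Fr.two_z (mem_regSet.1 hs).1 (mem_regSet.1 hs).2)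
  have htpx : ∀ s ∈ regSet x, tp (x * s) = x := fun s hs =>
    tp_eq (isPPart_mul Fr.two_x (mem_regSet.1 hs).1 (mem_regSet.1 hs).2)
  by_cases hj : (j : ℕ) < 5
  · rw [if_pos hj, test, if_pos hj, classInner_lift (fun d s hd => Fr.testZ_conj _ d s hd) Fr.two_z
      (Fr.test_class k)]
    by_cases hk : (k : ℕ) < 5
    · rw [if_pos hk, sum_regSet _ (fun q => wt j (Fr.gen.lin Fr.ζ Fr.zeta_five q) *
          conj (wt k (Fr.gen.lin Fr.ζ Fr.zeta_five q))) (fun s hs => by
        rw [test, if_pos hk, lift_section (fun d s hd => Fr.testZ_conj _ d s hd) Fr.two_z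
          (mem_regSet.2 ⟨Subgroup.mem_centralizer_singleton_iff.1 s.2, hs⟩), Fr.testZ_quot, Fr.testZ_quot]),
        Fr.gen.sum_regular (fun q d => by
          rw [map_mul, map_mul, map_inv, mul_comm (Fr.gen.lin Fr.ζ Fr.zeta_five d), mul_inv_cancel_right]),
        Fr.card_cz_z]
      have h0 : ∀ n, wt n (Fr.gen.lin Fr.ζ Fr.zeta_five 1) = 64 := fun n => by
        rw [map_one, wt, if_pos rfl]
      have hi : ∀ n, ∀ i : Fin 4, wt n (Fr.gen.lin Fr.ζ Fr.zeta_five (Fr.γ ^ ((i : ℕ) + 1))) =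
          4 * (Fr.ζ : ℂ) ^ (n * ((i : ℕ) + 1)) := fun n i => by
        rw [Fr.wt_zeta, if_neg]; have := i.2; omega
      have hnorm : conj (Fr.ζ : ℂ) = ((Fr.ζ : ℂ))⁻¹ := (Complex.inv_eq_conj
        (Complex.norm_eq_one_of_pow_eq_one Fr.prim.pow_eq_one (by norm_num))).symm
      have hz0 : (Fr.ζ : ℂ) ≠ 0 := Units.ne_zero _
      simp only [h0, hi]
      simp only [map_mul, map_ofNat, map_pow, hnorm]
      have hterm : ∀ i : Fin 4, (4 : ℂ) * (Fr.ζ : ℂ) ^ ((j : ℕ) * ((i : ℕ) + 1)) *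
          (4 * ((Fr.ζ : ℂ))⁻¹ ^ ((k : ℕ) * ((i : ℕ) + 1))) =
            16 * (((Fr.ζ : ℂ) ^ (j : ℕ) * ((Fr.ζ : ℂ))⁻¹ ^ (k : ℕ)) ^ ((i : ℕ) + 1)) := fun i => by
        rw [mul_pow, ← pow_mul, ← pow_mul]; ring
      simp only [hterm, ← Finset.mul_sum]
      set w := (Fr.ζ : ℂ) ^ (j : ℕ) * ((Fr.ζ : ℂ))⁻¹ ^ (k : ℕ) with hw
      have hw5 : w ^ 5 = 1 := by
        rw [hw, mul_pow, ← pow_mul, ← pow_mul, mul_comm (j : ℕ), mul_comm (k : ℕ), pow_mul, pow_mul, inv_pow,
          Fr.prim.pow_eq_one, inv_one, one_pow, one_pow, one_mul]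
      have hO : (Nat.card (pPrimeCore 2 (cz z)) : ℂ) ≠ 0 := Nat.cast_ne_zero.2 Nat.card_pos.ne'
      rw [show (∑ i : Fin 4, w ^ ((i : ℕ) + 1)) = w + w ^ 2 + w ^ 3 + w ^ 4 by
        simp only [Fin.sum_univ_four, Fin.val_zero, Fin.val_one, Fin.val_two]
        rw [show ((3 : Fin 4) : ℕ) = 3 from rfl]; ring]
      split_ifs with hjk
      · subst hjk
        rw [show w = 1 by rw [hw, inv_pow, mul_inv_cancel₀ (pow_ne_zero _ hz0)]]
        field_simp; ring
      · have hne : w ≠ 1 := fun e => hjk (Fin.ext (Fr.prim.pow_inj hj hk (by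
          rw [hw, inv_pow, mul_inv_eq_one₀ (pow_ne_zero _ hz0)] at e; exact e)))
        have hgeo : w + w ^ 2 + w ^ 3 + w ^ 4 = -1 := by
          have : (w - 1) * (w + w ^ 2 + w ^ 3 + w ^ 4 + 1) = 0 := by linear_combination hw5
          linear_combination (mul_eq_zero.1 this).resolve_left (sub_ne_zero.2 hne)
        rw [hgeo]
        field_simp; ring
    · rw [if_neg hk, Finset.sum_eq_zero, mul_zero]
      intro s hs
      rw [test, if_neg hk, lift_eq_zero (by rw [htpz s hs]; exact fun h => hxz h.symm), map_zero, mul_zero]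
  · rw [if_neg hj, test, if_neg hj, classInner_lift (fun _ _ _ => rfl) Fr.two_x (Fr.test_class k)]
    by_cases hk : (k : ℕ) < 5
    · rw [if_pos hk, Finset.sum_eq_zero, mul_zero]
      intro s hs
      rw [test, if_pos hk, lift_eq_zero (by rw [htpx s hs]; exact hxz), map_zero, mul_zero]
    · rw [if_neg hk, sum_regSet _ (fun _ : czq x => (256 : ℂ)) (fun s hs => by
        rw [test, if_neg hk, lift_section (fun _ _ _ => rfl) Fr.two_x
          (mem_regSet.2 ⟨Subgroup.mem_centralizer_singleton_iff.1 s.2, hs⟩), map_ofNat]; norm_num),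
        Fr.regular_four, Finset.sum_singleton, Fr.card_cz_x]
      have hO : (Nat.card (pPrimeCore 2 (cz x)) : ℂ) ≠ 0 := Nat.cast_ne_zero.2 Nat.card_pos.ne'
      field_simp
      norm_num

end Frame

end Cfsg.Agent.U34Block
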