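import Cfsg.Agent.Lib.U34Rec.BlockSearch

/-!
The numerical data of a principal 2-block of the type of `U₃(4)` without a nontrivial character `χ` with
`χ 1 + 3 χ z = 0`.  One index stands for one nontrivial character of the block with nonzero data, oriented by
the sign of its degree form `4 e - 3 a + 64 M`.
-/

namespace Cfsg.Agent.U34Block

/-- The action of a generator of the Galois group on the five Brauer characters; the sixth entry is fixed. -/
def rot : Fin 6 → Fin 6 := ![0, 2, 4, 1, 3, 5]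

/-- The inner products of the columns, the principal character removed. -/
def gram (j k : Fin 6) : ℤ :=
  (if j = 5 ∧ k = 5 then 16 else if j = 5 ∨ k = 5 then 0 else if j = k then 16 else 12) -
    (![1, 0, 0, 0, 0, 1] : Fin 6 → ℤ) j * (![1, 0, 0, 0, 0, 1] : Fin 6 → ℤ) k

/-- The unit of a single row. -/
def rowUnit (r : Fin 6 → ℤ) : Un := ⟨1, r 0, r 1 + r 2 + r 3 + r 4, r 5, 0⟩

/-- The data: rows, the constant parts of the degrees, the Galois action, and what they satisfy. -/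
structure BlockData (ι : Type*) [Fintype ι] where
  r : ι → Fin 6 → ℤ
  M : ι → ℤ
  gal : Equiv.Perm ι
  gal_row : ∀ i k, r (gal i) k = r i (rot k)
  gal_M : ∀ i, M (gal i) = M i
  row_ne : ∀ i, r i ≠ 0
  congr : ∀ i, (4 : ℤ) ∣ (rowUnit (r i)).a - r i 5
  gram_eq : ∀ j k, ∑ i, r i j * r i k = gram j k
  lin : ∀ j, ∑ i, M i * r i j = (![3, 3, 3, 3, 3, -1] : Fin 6 → ℤ) j
  fixed_ne : ∀ i, 16 * M i + r i 5 ≠ 0
  degree_ne : ∀ i, (rowUnit (r i)).F (M i) ≠ 0
  abs_le : ∀ i, |(rowUnit (r i)).a| ≤ |(rowUnit (r i)).F (M i)|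
  pos : ∀ i, 0 < (rowUnit (r i)).F (M i) → 0 ≤ M i ∧ 0 ≤ M i + r i 5
  neg : ∀ i, (rowUnit (r i)).F (M i) < 0 → M i ≤ 0 ∧ M i + r i 5 ≤ 0
  id0 : ∑ i, ((rowUnit (r i)).c0 : ℚ) / (rowUnit (r i)).F (M i) = -1
  id1 : ∑ i, ((rowUnit (r i)).c1 : ℚ) / (rowUnit (r i)).F (M i) = -4

end Cfsg.Agent.U34Block
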