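import Cfsg.Agent.Lib.U34Rec.BlockLists

/-!
The orbits of rows of a principal block of the type of `U₃(4)` and the search for all their combinations.

An orbit of rows under the Galois action is kept as its length `n`, its entries `(r0, S, e)` up to sign and
the two contributions `A`, `B` to the norms of the alternating sum and of the differences of conjugate
Brauer characters.
-/

namespace Cfsg.Agent.U34Block

/-- An orbit of rows. -/
structure Orb where
  n : ℕ
  r0 : ℤ
  S : ℤ
  e : ℤ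
  A : ℤ
  B : ℤ

/-- What is still to be reached. -/
structure Res where
  g00 : ℤ
  g0S : ℤ
  g0e : ℤ
  gSS : ℤ
  gSe : ℤ
  gee : ℤ
  gA : ℤ
  gB : ℤ

/-- The target. -/
def Res.target : Res := ⟨15, 48, -1, 208, 0, 15, 16, 16⟩

/-- The state after removing an orbit. -/
def Res.sub (R : Res) (u : Orb) : Res :=
  ⟨R.g00 - u.n * (u.r0 * u.r0), R.g0S - u.n * (u.r0 * u.S), R.g0e - u.n * (u.r0 * u.e),
    R.gSS - u.n * (u.S * u.S), R.gSe - u.n * (u.S * u.e), R.gee - u.n * (u.e * u.e), R.gA - u.A, R.gB - u.B⟩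

/-- The quadratic form at a vector. -/
def Res.quad (R : Res) (x : ℤ × ℤ × ℤ) : ℤ :=
  match x with
  | (p, r, t) => R.g00 * (p * p) + R.gSS * (r * r) + R.gee * (t * t) + 2 * R.g0S * (p * r) +
      2 * R.g0e * (p * t) + 2 * R.gSe * (r * t)

/-- The vectors at which the form is tested. -/
def tests : List (ℤ × ℤ × ℤ) :=
  [(15, (-4), 1), (5, (-2), 2), (5, (-1), (-1)), (1, 0, 1), (1, (-1), 0), (1, (-1), (-2)), (6, (-2), 3), (15, (-1), (-6)), (13, (-2), 5), (1, 0, (-2)), (0, (-1), (-6))]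

/-- Conditions which a remainder of orbits meets. -/
def Res.ok (R : Res) : Bool :=
  decide (0 ≤ R.g00) && decide (0 ≤ R.gSS) && decide (0 ≤ R.gee) && decide (0 ≤ R.gA) && decide (0 ≤ R.gB) &&
    tests.all fun x => decide (0 ≤ R.quad x)

/-- Nothing is left. -/
def Res.isZero (R : Res) : Bool :=
  decide (R.g00 = 0) && decide (R.g0S = 0) && decide (R.g0e = 0) && decide (R.gSS = 0) && decide (R.gSe = 0) &&
    decide (R.gee = 0) && decide (R.gA = 0) && decide (R.gB = 0)

/-- A norm which the orbits left cannot reach. -/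
def cut (us : List Orb) (R : Res) : Bool :=
  (!decide (R.gB = 0) && us.all fun u => decide (u.B = 0)) ||
  (!decide (R.gA = 0) && us.all fun u => decide (u.A = 0)) ||
  (!decide (R.gee = 0) && us.all fun u => decide (u.e = 0)) ||
  (!decide (R.g00 = 0) && us.all fun u => decide (u.r0 = 0))

/-- The entries of an orbit used by the search for the degrees. -/
def Orb.key (u : Orb) : ℕ × ℤ × ℤ × ℤ := (u.n, u.r0, u.S, u.e)

/-- The entries of a unit. -/
def Un.key (u : Un) : ℕ × ℤ × ℤ × ℤ := (u.n, u.r0, u.S, u.e)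

/-- Some entry of the orbit is not zero. -/
def Orb.live (u : Orb) : Bool := !(decide (u.r0 = 0) && decide (u.S = 0) && decide (u.e = 0))

/-- A combination of orbits is one of the lists of units. -/
def good (acc : List Orb) : Bool :=
  allUnits.any fun t => ((acc.filter Orb.live).map Orb.key).isPerm (t.map Un.key)

/-- All combinations of orbits reaching a state give lists of units. -/
def enum : ℕ → List Orb → Res → List Orb → Bool
  | 0, _, _, _ => false
  | fuel + 1, us, R, acc =>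
    if R.isZero then good acc
    else match us with
      | [] => true
      | u :: us' => cut (u :: us') R ||
          (enum fuel us' R acc && (!(R.sub u).ok || enum fuel (u :: us') (R.sub u) (u :: acc)))

/-- The orbits which occur. -/
def orbs : List Orb :=
  [⟨4, 1, 2, (-1), 16, 16⟩,
    ⟨4, 1, 4, 1, 0, 16⟩,
    ⟨4, 0, 0, 0, 0, 16⟩,
    ⟨4, 1, 4, 1, 16, 8⟩,
    ⟨4, 0, 0, 0, 16, 8⟩,
    ⟨4, 1, 2, (-1), 0, 8⟩,
    ⟨4, 0, 1, 1, 4, 4⟩,
    ⟨4, 1, 3, 0, 4, 4⟩,
    ⟨2, 0, 2, (-2), 8, 0⟩,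
    ⟨2, 0, 2, 2, 8, 0⟩,
    ⟨2, 1, 2, (-1), 8, 0⟩,
    ⟨2, 1, 6, (-1), 8, 0⟩,
    ⟨2, 2, 6, 0, 8, 0⟩,
    ⟨1, 1, 0, (-3), 0, 0⟩,
    ⟨1, 1, 4, (-3), 0, 0⟩,
    ⟨1, 2, 4, (-2), 0, 0⟩,
    ⟨1, 2, 4, 2, 0, 0⟩,
    ⟨1, 2, 8, (-2), 0, 0⟩,
    ⟨1, 2, 8, 2, 0, 0⟩,
    ⟨1, 3, 8, (-1), 0, 0⟩,
    ⟨1, 3, 12, (-1), 0, 0⟩,
    ⟨1, 1, 0, 1, 0, 0⟩,
    ⟨1, 1, 4, 1, 0, 0⟩,
    ⟨1, 1, 8, 1, 0, 0⟩,
    ⟨1, 0, 4, 0, 0, 0⟩]

theorem orbs_enum : enum 200 orbs Res.target [] = true := by decide +kernel

theorem orbs_nonneg : orbs.all (fun u => decide (0 ≤ u.A) && decide (0 ≤ u.B) &&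
    !(decide (u.A = 0) && decide (u.B = 0) && decide (u.r0 = 0) && decide (u.e = 0) && decide (u.S = 0))) = true := by
  decide +kernel

/-- `-3, ..., 3`. -/
def range3 : List ℤ := [-3, -2, -1, 0, 1, 2, 3]

/-- `-4, ..., 4`. -/
def range4 : List ℤ := [-4, -3, -2, -1, 0, 1, 2, 3, 4]

/-- `-2, ..., 2`. -/
def range2 : List ℤ := [-2, -1, 0, 1, 2]

/-- The length of the orbit of the four conjugate entries. -/
def quadPer (a b c d : ℤ) : ℕ :=
  if decide (a = b) && decide (a = c) && decide (a = d) then 1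
  else if decide (a = d) && decide (b = c) then 2 else 4

/-- The length, the sum and the two norms of a quadruple of conjugate entries. -/
def quads : List (ℕ × ℤ × ℤ × ℤ) :=
  (range4.flatMap fun a => range4.flatMap fun b => range2.flatMap fun x => range2.flatMap fun y =>
    let c := b + y
    let d := a + x
    let n := quadPer a b c d
    let A := n * ((a - b - c + d) * (a - b - c + d))
    let B := n * ((a - d) * (a - d) + (b - c) * (b - c))
    if decide (A ≤ 16) && decide (B ≤ 16) then [(n, a + b + c + d, A, B)] else [])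

/-- Whether the first nonzero of three entries is negative. -/
def negTriple (p S t : ℤ) : Bool :=
  decide (p < 0) || (decide (p = 0) && (decide (S < 0) || (decide (S = 0) && decide (t < 0))))

/-- The orbit with given entries, oriented. -/
def mkOrb (n : ℕ) (p S t A B : ℤ) : Orb :=
  if negTriple p S t then ⟨n, -p, -S, -t, A, B⟩ else ⟨n, p, S, t, A, B⟩

/-- Equality of orbits. -/
def Orb.beq (u v : Orb) : Bool :=
  Nat.beq u.n v.n && decide (u.r0 = v.r0) && decide (u.S = v.S) && decide (u.e = v.e) && decide (u.A = v.A) &&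
    decide (u.B = v.B)

theorem orbs_complete : quads.all (fun q => range3.all fun p => range3.all fun t =>
    !(decide ((p + q.2.1 - t) % 4 = 0)) ||
      (decide (p = 0) && decide (t = 0) && decide (q.2.1 = 0) && decide (q.2.2.1 = 0) && decide (q.2.2.2 = 0)) ||
      !(Res.target.sub (mkOrb q.1 p q.2.1 t q.2.2.1 q.2.2.2)).ok ||
      orbs.any (fun u => u.beq (mkOrb q.1 p q.2.1 t q.2.2.1 q.2.2.2))) = true := by
  decide +kernel

end Cfsg.Agent.U34Block
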