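import Cfsg.Agent.Lib.U34Rec.BlockColumns
import Cfsg.Agent.Lib.U34Rec.BlockData

/-!
The rows of the principal block: integrality, the orthogonality relations, the sum of the rows and the two identities.
-/

set_option autoImplicit false
set_option linter.unusedSectionVars false
set_option linter.style.haveILetI false

namespace Cfsg.Agent.U34Block

open Cfsg Cfsg.Agent.SylowSplit Cfsg.Agent.Char Cfsg.Agent.Blocks
open scoped ComplexConjugate

universe u

variable {G : Type u} [Group G] [Fintype G] {S : Sylow 2 G} {z x : G}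

theorem sum_shift {A : Type*} [AddCommGroup A] (f : ℕ → A) (hf : ∀ m, f (m + 5) = f m) (n : ℕ) :
    ∑ r ∈ Finset.range 5, f (n + r) = ∑ r ∈ Finset.range 5, f r := by
  induction n with
  | zero => simp
  | succ n ih =>
    rw [← ih]
    simp only [Finset.sum_range_succ, Finset.sum_range_zero, zero_add, add_zero]
    rw [show n + 1 + 4 = n + 5 by ring, hf, show n + 1 + 1 = n + 2 by ring, show n + 1 + 2 = n + 3 by ring,
      show n + 1 + 3 = n + 4 by ring]
    abel

namespace Frame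

variable (Fr : Frame S z x) {J : Ideal AlgInt} [J.IsPrime] (hJ : IsPModular 2 J)
include Fr hJ

theorem colVal_one {χ : IrrCharacter G} (hχ : χ ∈ principalBlock J G) : colVal (z := z) χ 1 = (χ : G → ℂ) z := by
  have := Fr.colVal_mk hJ hχ 1 (by simp)
  simpa using this.symm

theorem row_z_int {χ : IrrCharacter G} (hχ : χ ∈ principalBlock J G) {j : Fin 6} (hj : (j : ℕ) < 5) :
    ∃ n : ℤ, Fr.row χ j = n := by
  classical
  haveI : Fintype (cz z) := Fintype.ofFinite _
  have hcl := isClassFunction_secFun (x := z) (C := cz z) rfl (IsCharacter.isClassFunction (irr_isCharacter χ))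
  have hzz : ∀ c : cz z, Commute (c : G) z := fun c => Subgroup.mem_centralizer_singleton_iff.1 c.2
  -- translation by the central involution
  have hF : IsGeneralizedCharacter (cz z) (secFun z (cz z) (χ : G → ℂ)) := by
    refine isGeneralizedCharacter_of_classInner hcl fun φ => ?_
    set zC : cz z := ⟨z, Subgroup.mem_centralizer_singleton_iff.2 rfl⟩
    have hz2 : zC * zC = 1 := Subtype.ext (mul_self_of_two Fr.cfg.zord)
    have hmul : ∀ w, (φ : cz z → ℂ) (zC * w) * (φ : cz z → ℂ) 1 = (φ : cz z → ℂ) zC * (φ : cz z → ℂ) w := by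
      intro w
      have := irr_sum_conj_mul φ zC w
      rw [Finset.sum_congr rfl fun j _ => by
        rw [show j⁻¹ * zC * j = zC from Subtype.ext (by
          show (j : G)⁻¹ * z * j = z
          rw [mul_assoc, ← (hzz j).eq, inv_mul_cancel_left])], Finset.sum_const, Finset.card_univ,
        nsmul_eq_mul, ← Nat.card_eq_fintype_card, mul_assoc, mul_div_assoc] at this
      rw [mul_left_cancel₀ (Nat.cast_ne_zero.2 Nat.card_pos.ne') this, div_mul_cancel₀ _ (irr_one_ne_zero φ)]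
    obtain ⟨ε, hε⟩ : ∃ ε : ℤ, (φ : cz z → ℂ) zC = ε * (φ : cz z → ℂ) 1 := by
      have h2 := hmul zC
      rw [hz2] at h2
      have h3 : ((φ : cz z → ℂ) zC - (φ : cz z → ℂ) 1) * ((φ : cz z → ℂ) zC + (φ : cz z → ℂ) 1) = 0 := by
        linear_combination -h2
      rcases mul_eq_zero.1 h3 with h4 | h4
      · exact ⟨1, by push_cast; linear_combination h4⟩
      · exact ⟨-1, by push_cast; linear_combination h4⟩
    have hs : ∀ w, (φ : cz z → ℂ) (zC * w) = ε * (φ : cz z → ℂ) w := fun w =>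
      mul_right_cancel₀ (irr_one_ne_zero φ) (by rw [hmul, hε]; ring)
    obtain ⟨n, hn⟩ := IsCharacter.exists_classInner_nat (IsCharacter.restrict (irr_isCharacter χ) (cz z))
      (irr_isCharacter φ)
    refine ⟨ε * n, ?_⟩
    push_cast
    rw [← hn]
    simp only [Cfsg.classInner, Finset.mul_sum]
    refine Fintype.sum_equiv (Equiv.mulLeft zC) _ _ fun w => ?_
    have e1 : (χ : G → ℂ) ((Equiv.mulLeft zC w : cz z) : G) = secFun z (cz z) (χ : G → ℂ) w := rfl
    have e2 : conj ((φ : cz z → ℂ) (Equiv.mulLeft zC w)) = ε * conj ((φ : cz z → ℂ) w) := by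
      rw [Equiv.coe_mulLeft, hs, map_mul, map_intCast]
    have hεε : (ε : ℂ) * ε = 1 := by
      have := hs zC
      rw [hz2, hε, ← mul_assoc] at this
      exact mul_right_cancel₀ (irr_one_ne_zero φ) (by rw [one_mul]; exact this.symm)
    rw [e1, e2]
    linear_combination (-(secFun z (cz z) (χ : G → ℂ) w) * conj ((φ : cz z → ℂ) w) * (Nat.card (cz z) : ℂ)⁻¹) * hεε
  obtain ⟨t, ht⟩ := QuotientGroup.mk'_surjective (pPrimeCore 2 (cz z)) Fr.γ
  have htreg : ¬ 2 ∣ orderOf (t : G) := (regular_iff t).2 (by rw [ht, Fr.gen.1]; norm_num)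
  set E := Subgroup.zpowers t
  haveI : Fintype E := Fintype.ofFinite _
  have hreg : ∀ e : E, ¬ 2 ∣ orderOf ((e : cz z) : G) := fun e h2 => by
    obtain ⟨k, hk⟩ : ∃ k : ℕ, t ^ k = (e : cz z) := by
      have := e.2
      rwa [← mem_powers_iff_mem_zpowers] at this
    rw [← hk, SubmonoidClass.coe_pow] at h2
    exact htreg (h2.trans (orderOf_pow_dvd k))
  let μ : E →* ℂˣ :=
    { toFun := fun e => Fr.lin e ^ (j : ℕ)
      map_one' := by simp
      map_mul' := fun a b => by rw [Subgroup.coe_mul, map_mul, mul_pow] }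
  obtain ⟨n, hn⟩ := IsGeneralizedCharacter.exists_classInner_int (IsGeneralizedCharacter.comp hF E.subtype)
    (IsGeneralizedCharacter.of_isCharacter (IsIrrCharacter.isCharacter (isIrrCharacter_linear μ)))
  refine ⟨n, ?_⟩
  let g : ℕ → ℂ := fun r => colVal (z := z) χ (Fr.γ ^ r) * conj ((Fr.ζ : ℂ) ^ ((j : ℕ) * r))
  have hg : ∀ m, g (m + 5) = g m := fun m => by
    simp only [g]
    rw [pow_add, Fr.gen.pow_five, mul_one, mul_add, pow_add, mul_comm (j : ℕ) 5, pow_mul (Fr.ζ : ℂ) 5,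
      Fr.prim.pow_eq_one, one_pow, mul_one]
  have hterm : ∀ (e : E) (r : ℕ), ∀ k : ℕ, t ^ k = (e : cz z) →
      secFun z (cz z) (χ : G → ℂ) ((e : cz z) * t ^ r) * conj ((μ (e * ⟨t, Subgroup.mem_zpowers t⟩ ^ r) : ℂˣ) : ℂ) =
        g (k + r) := by
    intro e r k hk
    have hreg' := hreg (e * ⟨t, Subgroup.mem_zpowers t⟩ ^ r)
    simp only [Subgroup.coe_mul, SubmonoidClass.coe_pow] at hreg'
    have e1 := Fr.colVal_mk hJ hχ ((e : cz z) * t ^ r) (by simpa using hreg')
    have e2 : QuotientGroup.mk' (pPrimeCore 2 (cz z)) ((e : cz z) * t ^ r) = Fr.γ ^ (k + r) := by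
      rw [← hk, ← pow_add, map_pow, ht]
    show (χ : G → ℂ) (z * (((e : cz z) * t ^ r : cz z) : G)) * conj (((Fr.lin ((e : cz z) * t ^ r)) ^ (j : ℕ) : ℂˣ) : ℂ) = _
    rw [e1, e2, lin, MonoidHom.comp_apply, e2, Fr.gen.lin_pow, ← pow_mul, mul_comm (k + r), Units.val_pow_eq_pow_val]
  have h5 : (5 : ℂ) * ∑ e : E, secFun z (cz z) (χ : G → ℂ) (e : cz z) * conj ((μ e : ℂˣ) : ℂ) =
      (Nat.card E : ℂ) * ∑ r ∈ Finset.range 5, g r := by
    have hr : ∀ r : ℕ, ∑ e : E, secFun z (cz z) (χ : G → ℂ) ((e : cz z) * t ^ r) *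
        conj ((μ (e * ⟨t, Subgroup.mem_zpowers t⟩ ^ r) : ℂˣ) : ℂ) =
        ∑ e : E, secFun z (cz z) (χ : G → ℂ) (e : cz z) * conj ((μ e : ℂˣ) : ℂ) := fun r => by
      refine Fintype.sum_equiv (Equiv.mulRight ((⟨t, Subgroup.mem_zpowers t⟩ : E) ^ r)) _ _ fun e => ?_
      rfl
    have hs : ∀ e : E, ∑ r ∈ Finset.range 5, secFun z (cz z) (χ : G → ℂ) ((e : cz z) * t ^ r) *
        conj ((μ (e * ⟨t, Subgroup.mem_zpowers t⟩ ^ r) : ℂˣ) : ℂ) = ∑ r ∈ Finset.range 5, g r := fun e => by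
      obtain ⟨k, hk⟩ : ∃ k : ℕ, t ^ k = (e : cz z) := by
        have := e.2
        rwa [← mem_powers_iff_mem_zpowers] at this
      rw [Finset.sum_congr rfl fun r _ => hterm e r k hk, sum_shift g hg k]
    rw [Nat.card_eq_fintype_card, ← nsmul_eq_mul, ← Finset.card_univ, ← Finset.sum_const,
      ← Finset.sum_congr rfl fun e _ => hs e, Finset.sum_comm, Finset.sum_congr rfl fun r _ => hr r,
      Finset.sum_const, Finset.card_range, nsmul_eq_mul]
    norm_num
  have hn' : (n : ℂ) = (1 / 5 : ℂ) * ∑ r : Fin 5, g r := by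
    rw [← hn, Fin.sum_univ_eq_sum_range (n := 5)]
    simp only [Cfsg.classInner, Subgroup.coe_subtype]
    have hE : (Nat.card E : ℂ) ≠ 0 := Nat.cast_ne_zero.2 Nat.card_pos.ne'
    rw [← mul_right_inj' (show (5 : ℂ) ≠ 0 by norm_num), ← mul_assoc (5 : ℂ), mul_comm (5 : ℂ), mul_assoc, h5]
    field_simp
  rw [Fr.row_z hJ hχ hj, ← map_intCast (starRingEnd ℂ) n, hn', map_mul, map_div₀, map_one, map_ofNat, map_sum]
  congr 1
  refine Finset.sum_congr rfl fun r _ => ?_
  rw [map_mul, Complex.conj_conj, mul_comm]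

/-- Every coefficient is an integer. -/
theorem row_int (χ : IrrCharacter G) (j : Fin 6) : ∃ n : ℤ, Fr.row χ j = n := by
  by_cases hχ : χ ∈ principalBlock J G
  · by_cases hj : (j : ℕ) < 5
    · exact Fr.row_z_int hJ hχ hj
    · obtain rfl : j = 5 := Fin.ext (by have := j.2; show (j : ℕ) = 5; omega)
      obtain ⟨a, e, M, -, he, -⟩ := Fr.cfg.values χ Fr.xord
      exact ⟨e, by rw [Fr.row_x hJ hχ, he, map_intCast]⟩
  · exact ⟨0, by rw [Fr.row_outside hJ hχ j, Int.cast_zero]⟩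

theorem geom (j : ℕ) : ∑ r : Fin 5, (Fr.ζ : ℂ) ^ (j * r) = if 5 ∣ j then 5 else 0 := by
  simp only [pow_mul]
  rw [Fin.sum_univ_eq_sum_range fun r : ℕ => ((Fr.ζ : ℂ) ^ j) ^ r]
  split_ifs with h
  · rw [(Fr.prim.pow_eq_one_iff_dvd j).2 h]; simp
  · rw [geom_sum_eq (fun e => h ((Fr.prim.pow_eq_one_iff_dvd j).1 e)), ← pow_mul, mul_comm, pow_mul,
      Fr.prim.pow_eq_one, one_pow, sub_self, zero_div]

/-- The five rows at the involution add up to the value at it. -/
theorem row_sum {χ : IrrCharacter G} (hχ : χ ∈ principalBlock J G) :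
    Fr.row χ 0 + Fr.row χ 1 + Fr.row χ 2 + Fr.row χ 3 + Fr.row χ 4 = conj ((χ : G → ℂ) z) := by
  rw [Fr.row_z hJ hχ (j := 0) (by decide), Fr.row_z hJ hχ (j := 1) (by decide), Fr.row_z hJ hχ (j := 2) (by decide),
    Fr.row_z hJ hχ (j := 3) (by decide), Fr.row_z hJ hχ (j := 4) (by decide), ← mul_add, ← mul_add, ← mul_add,
    ← mul_add, ← Finset.sum_add_distrib, ← Finset.sum_add_distrib, ← Finset.sum_add_distrib,
    ← Finset.sum_add_distrib]
  have h : ∀ r : Fin 5, (∑ k : Fin 5, (Fr.ζ : ℂ) ^ ((r : ℕ) * k)) = if (r : ℕ) = 0 then 5 else 0 := fun r => by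
    rw [Fr.geom hJ]
    have := r.2
    by_cases h0 : (r : ℕ) = 0
    · rw [if_pos h0, if_pos (by rw [h0]; exact dvd_zero 5)]
    · rw [if_neg h0, if_neg (fun hd => h0 (Nat.eq_zero_of_dvd_of_lt hd this))]
  rw [Finset.sum_congr rfl (g := fun r : Fin 5 =>
    (∑ k : Fin 5, (Fr.ζ : ℂ) ^ ((r : ℕ) * k)) * conj (colVal (z := z) χ (Fr.γ ^ (r : ℕ)))) fun r _ => by
      simp only [Fin.sum_univ_five, ← add_mul]
      congr 1
      show _ = (Fr.ζ : ℂ) ^ ((r : ℕ) * 0) + (Fr.ζ : ℂ) ^ ((r : ℕ) * 1) + (Fr.ζ : ℂ) ^ ((r : ℕ) * 2) +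
        (Fr.ζ : ℂ) ^ ((r : ℕ) * 3) + (Fr.ζ : ℂ) ^ ((r : ℕ) * 4)
      simp only [mul_comm (r : ℕ)]
      rfl]
  simp only [h, Fin.sum_univ_five, Fin.val_zero, pow_zero]
  rw [Fr.colVal_one hJ hχ]
  norm_num
  ring

theorem row_principal (j : Fin 6) :
    Fr.row (Char.principal G) j = (((![1, 0, 0, 0, 0, 1] : Fin 6 → ℤ) j : ℤ) : ℂ) := by
  have hmem : Char.principal G ∈ principalBlock J G := principal_mem_principalBlock
  by_cases hj : (j : ℕ) < 5
  · rw [Fr.row_z hJ hmem hj]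
    have hc : ∀ r : Fin 5, colVal (z := z) (Char.principal G) (Fr.γ ^ (r : ℕ)) = 1 := fun r => by
      have h5 : orderOf (Fr.γ ^ (r : ℕ)) ∣ 5 := (orderOf_pow_dvd _).trans (dvd_of_eq Fr.gen.1)
      rw [colVal, if_pos fun h2 => absurd (h2.trans h5) (by norm_num)]
      simp only [Char.principal]
    simp only [hc, map_one, mul_one, Fr.geom hJ]
    by_cases h0 : j = 0
    · subst h0; simp
    · rw [if_neg (fun hd => h0 (Fin.ext (Nat.eq_zero_of_dvd_of_lt hd hj))), mul_zero,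
        (by decide : ∀ i : Fin 6, (i : ℕ) < 5 → i ≠ 0 → (![1, 0, 0, 0, 0, 1] : Fin 6 → ℤ) i = 0) j hj h0, Int.cast_zero]
  · obtain rfl : j = 5 := Fin.ext (by have := j.2; show (j : ℕ) = 5; omega)
    rw [Fr.row_x hJ hmem]
    simp [Char.principal]

theorem test_expand (j : Fin 6) (g : G) :
    ∑ χ : IrrCharacter G, Fr.row χ j * (χ : G → ℂ) g = Fr.test j g := by
  have h := congrFun (classFunction_eq_sum (Fr.test_class j)) g
  simp only [Finset.sum_apply, Pi.smul_apply, smul_eq_mul] at h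
  exact h.symm

theorem row_gram (j k : Fin 6) :
    ∑ χ : IrrCharacter G, Fr.row χ j * conj (Fr.row χ k) =
      if (j : ℕ) < 5 then (if (k : ℕ) < 5 then (if j = k then 16 else 12) else 0)
        else (if (k : ℕ) < 5 then 0 else 16) := by
  rw [← Fr.gram j k]
  conv_rhs => rw [classFunction_eq_sum (Fr.test_class j), classFunction_eq_sum (Fr.test_class k)]
  rw [classInner_combination₂]
  rfl

theorem row_degree (j : Fin 6) : ∑ χ : IrrCharacter G, Fr.row χ j * (χ : G → ℂ) 1 = 0 := by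
  rw [Fr.test_expand hJ, Fr.test_one]

/-- The identity for a combination of the test functions vanishing at the products of two conjugates. -/
theorem row_square (c : Fin 6 → ℂ)
    (hc : ∀ u : G, IsConj z u → ∑ j, c j * Fr.test j (u * z) = 0) :
    ∑ χ : IrrCharacter G, (∑ j, c j * Fr.row χ j) * ((χ : G → ℂ) z * (χ : G → ℂ) z / (χ : G → ℂ) 1) = 0 := by
  rw [sum_weighted]
  refine average_const fun i => ?_
  rw [← hc (i⁻¹ * z * i) (isConj_iff.2 ⟨i⁻¹, by group⟩)]
  simp only [Finset.sum_mul]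
  rw [Finset.sum_comm]
  refine Finset.sum_congr rfl fun j _ => ?_
  rw [← Fr.test_expand hJ j, Finset.mul_sum]
  exact Finset.sum_congr rfl fun χ _ => by ring

omit hJ in
/-- No product of two conjugates of the involution lies in the section of an element of order 4. -/
theorem test_four_product {u : G} (hu : IsConj z u) : Fr.test 5 (u * z) = 0 := by
  rw [test, if_neg (by decide)]
  refine lift_eq_zero fun h => ?_
  have h2 := Fr.cfg.tp_product (u := u) (v := z) (by
    obtain ⟨c, rfl⟩ := isConj_iff.1 hu; rw [BrauerSuzuki.orderOf_conj_eq]; exact Fr.cfg.zord) Fr.cfg.zord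
  obtain ⟨c, hc⟩ := isConj_iff.1 h
  apply Fr.xne
  rw [← hc, show c * tp (u * z) * c⁻¹ * (c * tp (u * z) * c⁻¹) = c * (tp (u * z) * tp (u * z)) * c⁻¹ by group, h2,
    mul_one, mul_inv_cancel]

omit hJ in
/-- On a product of two conjugates of the involution the linear character is trivial. -/
theorem test_two_product {u : G} (hu : IsConj z u) :
    4 * Fr.test 0 (u * z) - Fr.test 1 (u * z) - Fr.test 2 (u * z) - Fr.test 3 (u * z) - Fr.test 4 (u * z) = 0 := by
  classical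
  have ht : ∀ j : Fin 6, (j : ℕ) < 5 → Fr.test j (u * z) = lift z (Fr.testZ j) (u * z) := fun j hj => by
    rw [test, if_pos hj]
  rw [ht 0 (by decide), ht 1 (by decide), ht 2 (by decide), ht 3 (by decide), ht 4 (by decide)]
  by_cases hg : IsConj (tp (u * z)) z
  swap
  · simp only [lift_eq_zero hg]; norm_num
  have hu2 : orderOf u = 2 := by
    obtain ⟨c, rfl⟩ := isConj_iff.1 hu; rw [BrauerSuzuki.orderOf_conj_eq]; exact Fr.cfg.zord
  have huu := mul_self_of_two hu2
  have hzz := mul_self_of_two Fr.cfg.zord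
  obtain ⟨k, hk⟩ := isConj_iff.1 hg
  set y := tp (u * z) with hy
  set s := z⁻¹ * (k * (u * z) * k⁻¹)
  have hval : ∀ j : ℕ, lift z (Fr.testZ j) (u * z) = Fr.testZ j s := fun j =>
    lift_eq (fun d s hd => Fr.testZ_conj j d s hd) hk
  simp only [hval]
  by_cases hsC : s ∈ cz z
  swap
  · simp [testZ, hsC]
  have hone : Fr.lin ⟨s, hsC⟩ = 1 := by
    have hinv : u * (u * z) * u⁻¹ = (u * z)⁻¹ := by
      rw [mul_inv_rev, inv_eq_of_mul_eq_one_right hzz, inv_eq_of_mul_eq_one_right huu, ← mul_assoc u u, huu, one_mul]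
    have hyu : u * y * u⁻¹ = y⁻¹ := by
      rw [hy, ← tp_conj, hinv]
      obtain ⟨w, hw, hc, hk2, hodd⟩ := tp_spec (u * z)
      refine tp_eq ⟨w⁻¹, ?_, hc.inv_inv, by simpa using hk2, by simpa using hodd⟩
      rw [hc.inv_inv.eq, ← mul_inv_rev, hw]
    have hy2 : y⁻¹ = y := inv_eq_of_mul_eq_one_right (Fr.cfg.tp_product hu2 Fr.cfg.zord)
    have hdC : k * u * k⁻¹ ∈ cz z := by
      refine Subgroup.mem_centralizer_singleton_iff.2 ?_
      have : k * u * k⁻¹ * (k * y * k⁻¹) * (k * u * k⁻¹)⁻¹ = k * y * k⁻¹ := by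
        conv_rhs => rw [← hy2, ← hyu]
        group
      rw [hk] at this
      exact mul_inv_eq_iff_eq_mul.1 this
    have e : (⟨k * u * k⁻¹, hdC⟩ : cz z) * ⟨s, hsC⟩ * ⟨k * u * k⁻¹, hdC⟩⁻¹ = ⟨s, hsC⟩⁻¹ := by
      refine Subtype.ext ?_
      show k * u * k⁻¹ * (z⁻¹ * (k * (u * z) * k⁻¹)) * (k * u * k⁻¹)⁻¹ = (z⁻¹ * (k * (u * z) * k⁻¹))⁻¹
      have hd : Commute (k * u * k⁻¹) z := Subgroup.mem_centralizer_singleton_iff.1 hdC
      have hsz : Commute s z := Subgroup.mem_centralizer_singleton_iff.1 hsC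
      have hW : Commute z (k * (u * z) * k⁻¹) := by
        have := (Commute.refl z).mul_right hsz.symm
        rwa [mul_inv_cancel_left] at this
      calc k * u * k⁻¹ * (z⁻¹ * (k * (u * z) * k⁻¹)) * (k * u * k⁻¹)⁻¹
          = z⁻¹ * (k * u * k⁻¹) * (k * (u * z) * k⁻¹) * (k * u * k⁻¹)⁻¹ := by
            rw [← mul_assoc (k * u * k⁻¹) z⁻¹, hd.inv_right.eq]
        _ = z⁻¹ * (k * (u * (u * z) * u⁻¹) * k⁻¹) := by group
        _ = z⁻¹ * (k * (u * z) * k⁻¹)⁻¹ := by rw [hinv]; group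
        _ = (z⁻¹ * (k * (u * z) * k⁻¹))⁻¹ := by
            rw [show (z⁻¹ * (k * (u * z) * k⁻¹))⁻¹ = (k * (u * z) * k⁻¹)⁻¹ * z by group, ← hW.inv_right.eq,
              inv_eq_of_mul_eq_one_right hzz]
    have e' := congrArg Fr.lin e
    rw [map_mul, map_mul, map_inv, map_inv, mul_comm (Fr.lin ⟨k * u * k⁻¹, hdC⟩), mul_inv_cancel_right] at e'
    have h2 : Fr.lin ⟨s, hsC⟩ ^ 2 = 1 := by rw [pow_two]; conv_lhs => arg 2; rw [e']
                                            exact mul_inv_cancel _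
    have h5 := Fr.lin_five ⟨s, hsC⟩
    rwa [show (5 : ℕ) = 2 * 2 + 1 by norm_num, pow_succ, pow_mul, h2, one_pow, one_mul] at h5
  simp only [testZ, dif_pos hsC, hone, wt, if_true]
  norm_num

end Frame

end Cfsg.Agent.U34Block
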