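import Cfsg.Agent.Lib.SylowSplit.Basic
import Cfsg.Agent.Lib.SylowSplit.Sections

/-!
A function on the regular elements of the centraliser of a 2-element, carried to the section of that element.
-/

set_option autoImplicit false
set_option linter.unusedSectionVars false
set_option linter.style.haveILetI false

namespace Cfsg.Agent.U34Block

open Cfsg Cfsg.Agent.SylowSplit
open scoped ComplexConjugate

universe u

variable {G : Type u} [Group G] [Fintype G]

open scoped Classical in
/-- The function carried by `F` to the section of `y₀`. -/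
noncomputable def lift (y₀ : G) (F : G → ℂ) (g : G) : ℂ :=
  if h : IsConj (tp g) y₀ then F (y₀⁻¹ * (Classical.choose (isConj_iff.1 h) * g *
    (Classical.choose (isConj_iff.1 h))⁻¹)) else 0

variable {y₀ : G} {F : G → ℂ}

theorem lift_eq_zero {g : G} (h : ¬ IsConj (tp g) y₀) : lift y₀ F g = 0 := dif_neg h

theorem lift_eq (hF : ∀ d s : G, Commute d y₀ → F (d * s * d⁻¹) = F s) {g k : G}
    (hk : k * tp g * k⁻¹ = y₀) : lift y₀ F g = F (y₀⁻¹ * (k * g * k⁻¹)) := by
  have h : IsConj (tp g) y₀ := isConj_iff.2 ⟨k, hk⟩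
  rw [lift, dif_pos h]
  have hk0 := Classical.choose_spec (isConj_iff.1 h)
  generalize Classical.choose (isConj_iff.1 h) = k0 at hk0 ⊢
  have hd : Commute (k * k0⁻¹) y₀ := by
    refine mul_inv_eq_iff_eq_mul.1 ?_
    conv_lhs => rw [← hk0]
    conv_rhs => rw [← hk]
    group
  rw [← hF _ _ hd]
  congr 1
  have e : Commute (k * k0⁻¹) y₀⁻¹ := hd.inv_right
  calc k * k0⁻¹ * (y₀⁻¹ * (k0 * g * k0⁻¹)) * (k * k0⁻¹)⁻¹
      = y₀⁻¹ * (k * k0⁻¹) * ((k0 * g * k0⁻¹) * (k * k0⁻¹)⁻¹) := by rw [← e.eq]; group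
    _ = y₀⁻¹ * (k * g * k⁻¹) := by group

theorem lift_class (hF : ∀ d s : G, Commute d y₀ → F (d * s * d⁻¹) = F s) :
    IsClassFunction G (lift y₀ F) := by
  intro g h
  by_cases hg : IsConj (tp g) y₀
  · obtain ⟨k, hk⟩ := isConj_iff.1 hg
    rw [lift_eq hF hk, lift_eq hF (g := h * g * h⁻¹) (k := k * h⁻¹) (by rw [tp_conj, ← hk]; group)]
    congr 1
    group
  · rw [lift_eq_zero hg, lift_eq_zero]
    refine fun hc => hg ((isConj_iff.2 ⟨h, ?_⟩).trans hc)
    rw [tp_conj]

theorem lift_section (hF : ∀ d s : G, Commute d y₀ → F (d * s * d⁻¹) = F s)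
    (hy : ∃ k, orderOf y₀ = 2 ^ k) {s : G} (hs : s ∈ regSet y₀) : lift y₀ F (y₀ * s) = F s := by
  rw [lift_eq hF (k := 1) (by
    rw [tp_eq (isPPart_mul hy (mem_regSet.1 hs).1 (mem_regSet.1 hs).2)]; group)]
  congr 1
  group

/-- The inner product with a class function is computed in the centraliser. -/
theorem classInner_lift (hF : ∀ d s : G, Commute d y₀ → F (d * s * d⁻¹) = F s)
    (hy : ∃ k, orderOf y₀ = 2 ^ k) {K : G → ℂ} (hK : IsClassFunction G K) :
    classInner (lift y₀ F) K = (Nat.card (Subgroup.centralizer ({y₀} : Set G)) : ℂ)⁻¹ *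
      ∑ s ∈ regSet y₀, F s * conj (K (y₀ * s)) := by
  classical
  have hsum : ∀ y ∈ twoElts G, ∑ s ∈ regSet y, lift y₀ F (y * s) * conj (K (y * s)) =
      if IsConj y y₀ then ∑ s ∈ regSet y₀, F s * conj (K (y₀ * s)) else 0 := by
    intro y hy'
    have htp : ∀ s ∈ regSet y, tp (y * s) = y := fun s hs =>
      tp_eq (isPPart_mul (mem_twoElts.1 hy') (mem_regSet.1 hs).1 (mem_regSet.1 hs).2)
    split_ifs with hc
    · obtain ⟨k, hk⟩ := isConj_iff.1 hc
      refine Finset.sum_bij' (fun s _ => k * s * k⁻¹) (fun s _ => k⁻¹ * s * k) (fun s hs => ?_) (fun s hs => ?_)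
        (fun s _ => by group) (fun s _ => by group) fun s hs => ?_
      · refine mem_regSet.2 ⟨?_, by rw [BrauerSuzuki.orderOf_conj_eq]; exact (mem_regSet.1 hs).2⟩
        rw [← hk]
        exact (mem_regSet.1 hs).1.map (MulAut.conj k).toMonoidHom
      · refine mem_regSet.2 ⟨?_, by rw [show k⁻¹ * s * k = k⁻¹ * s * k⁻¹⁻¹ by group, BrauerSuzuki.orderOf_conj_eq]
                                    exact (mem_regSet.1 hs).2⟩
        rw [show y = k⁻¹ * y₀ * k by rw [← hk]; group]
        simpa using (mem_regSet.1 hs).1.map (MulAut.conj k⁻¹).toMonoidHom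
      · have e : y₀ * (k * s * k⁻¹) = k * (y * s) * k⁻¹ := by rw [← hk]; group
        rw [lift_eq hF (k := k) (by rw [htp s hs, hk]), e, hK]
        congr 2
        rw [← hk]; group
    · exact Finset.sum_eq_zero fun s hs => by rw [lift_eq_zero (by rw [htp s hs]; exact hc), zero_mul]
  unfold classInner
  rw [sum_sections, Finset.sum_congr rfl hsum, ← Finset.sum_filter, Finset.sum_const, nsmul_eq_mul, ← mul_assoc]
  congr 1
  have hcls : ((twoElts G).filter fun y => IsConj y y₀).card =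
      (Subgroup.centralizer ({y₀} : Set G)).index := by
    have e : MulAction.stabilizer (ConjAct G) y₀ = (Subgroup.centralizer ({y₀} : Set G) : Subgroup G) :=
      ConjAct.stabilizer_eq_centralizer y₀
    rw [Subgroup.index, ← Nat.card_eq_finsetCard]
    refine Eq.trans ?_ (congrArg (fun H : Subgroup (ConjAct G) => Nat.card (ConjAct G ⧸ H)) e)
    rw [← Nat.card_congr (MulAction.orbitEquivQuotientStabilizer (ConjAct G) y₀)]
    refine Nat.card_congr (Equiv.subtypeEquivRight fun x => ?_)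
    rw [Finset.mem_filter, ConjAct.mem_orbit_conjAct]
    refine ⟨fun h => h.2, fun h => ⟨mem_twoElts.2 ?_, h⟩⟩
    obtain ⟨c, rfl⟩ := isConj_iff.1 h.symm
    exact two_elt_conj hy c
  rw [hcls, ← Subgroup.index_mul_card (Subgroup.centralizer ({y₀} : Set G)), Nat.cast_mul, mul_inv]
  have h0 : ((Subgroup.centralizer ({y₀} : Set G)).index : ℂ) ≠ 0 := Nat.cast_ne_zero.2 Subgroup.index_ne_zero_of_finite
  field_simp

end Cfsg.Agent.U34Block
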