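import Cfsg.Agent.Lib.U34Rec.BlockSetup
import Cfsg.Agent.Lib.U34Rec.SectionLift
import Cfsg.Agent.Lib.BrauerSuzuki.Main

/-!
The two centralisers of non-trivial 2-elements, read modulo their cores.
-/

set_option autoImplicit false
set_option linter.unusedSectionVars false
set_option linter.style.haveILetI false

namespace Cfsg.Agent.U34Block

open Cfsg Cfsg.Agent.SylowSplit

universe u

variable {G : Type u} [Group G] [Finite G] {S : Sylow 2 G} {z : G}

/-- The centraliser of an element. -/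
abbrev cz (y : G) : Subgroup G := Subgroup.centralizer ({y} : Set G)

instance core_normal (y : G) : (pPrimeCore 2 (cz y)).Normal :=
  haveI : Fact (Nat.Prime 2) := ⟨Nat.prime_two⟩
  Cfsg.Agent.FittingCores.pPrimeCore_normal 2

/-- The centraliser modulo its core. -/
abbrev czq (y : G) : Type u := cz y ⧸ pPrimeCore 2 (cz y)

theorem odd_core (y : G) : ¬ 2 ∣ Nat.card (pPrimeCore 2 (cz y)) := fun h =>
  haveI : Fact (Nat.Prime 2) := ⟨Nat.prime_two⟩
  Nat.prime_two.coprime_iff_not_dvd.1 (Cfsg.Agent.FittingCores.pPrimeCore_coprime (G := cz y) 2).symm h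

/-- An element of the core whose order is a power of 2 is trivial. -/
theorem core_two {y : G} {s : cz y} (hs : s ∈ pPrimeCore 2 (cz y)) (h2 : ∃ k, orderOf (s : G) = 2 ^ k) :
    s = 1 := by
  obtain ⟨k, hk⟩ := h2
  rw [Subgroup.orderOf_coe] at hk
  rcases Nat.eq_zero_or_pos k with rfl | hpos
  · exact orderOf_eq_one_iff.1 (by simpa using hk)
  · exact absurd ((dvd_pow_self 2 hpos.ne').trans (hk ▸ Subgroup.orderOf_dvd_natCard _ hs)) (odd_core y)

/-- An element is regular exactly if its image modulo the core is. -/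
theorem regular_iff {y : G} (s : cz y) :
    ¬ 2 ∣ orderOf (s : G) ↔ ¬ 2 ∣ orderOf (QuotientGroup.mk' (pPrimeCore 2 (cz y)) s) := by
  rw [Subgroup.orderOf_coe]
  refine ⟨fun h h2 => h (h2.trans (orderOf_map_dvd _ s)), fun h h2 => ?_⟩
  set m := orderOf (QuotientGroup.mk' (pPrimeCore 2 (cz y)) s) with hm
  have h1 : s ^ m ∈ pPrimeCore 2 (cz y) := by
    rw [← QuotientGroup.eq_one_iff]
    exact (map_pow (QuotientGroup.mk' (pPrimeCore 2 (cz y))) s m).trans (pow_orderOf_eq_one _)
  have h3 : orderOf s ∣ m * Nat.card (pPrimeCore 2 (cz y)) := orderOf_dvd_of_pow_eq_one (by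
    rw [pow_mul]
    exact orderOf_dvd_iff_pow_eq_one.1 (Subgroup.orderOf_dvd_natCard _ h1))
  rcases Nat.prime_two.dvd_mul.1 (h2.trans h3) with h4 | h4
  exacts [h h4, odd_core y h4]

theorem card_cz (y : G) : Nat.card (cz y) = Nat.card (czq y) * Nat.card (pPrimeCore 2 (cz y)) :=
  Subgroup.card_eq_card_quotient_mul_card_subgroup _

open scoped Classical in
/-- A sum over a section, modulo the core. -/
theorem sum_regSet [Fintype G] {y : G} [Fintype (czq y)] (F : G → ℂ) (f : czq y → ℂ)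
    (hf : ∀ s : cz y, ¬ 2 ∣ orderOf (s : G) → F (s : G) = f (QuotientGroup.mk' _ s)) :
    ∑ s ∈ regSet y, F s =
      (Nat.card (pPrimeCore 2 (cz y)) : ℂ) * ∑ q ∈ Finset.univ.filter (fun q : czq y => ¬ 2 ∣ orderOf q), f q := by
  haveI : Fintype (cz y) := Fintype.ofFinite _
  have e1 : ∑ s ∈ regSet y, F s =
      ∑ s ∈ Finset.univ.filter (fun s : cz y => ¬ 2 ∣ orderOf (s : G)), f (QuotientGroup.mk' _ s) := by
    symm
    refine Finset.sum_bij (fun s _ => (s : G)) (fun s hs => mem_regSet.2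
      ⟨Subgroup.mem_centralizer_singleton_iff.1 s.2, (Finset.mem_filter.1 hs).2⟩)
      (fun _ _ _ _ h => Subtype.ext h) (fun s hs => ?_) (fun s hs => (hf s (Finset.mem_filter.1 hs).2).symm)
    exact ⟨⟨s, Subgroup.mem_centralizer_singleton_iff.2 (mem_regSet.1 hs).1.eq⟩,
      Finset.mem_filter.2 ⟨Finset.mem_univ _, (mem_regSet.1 hs).2⟩, rfl⟩
  rw [e1, Finset.mul_sum, ← Finset.sum_fiberwise_of_maps_to
    (g := QuotientGroup.mk' (pPrimeCore 2 (cz y))) (t := Finset.univ.filter fun q : czq y => ¬ 2 ∣ orderOf q)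
    (fun s hs => Finset.mem_filter.2 ⟨Finset.mem_univ _, (regular_iff s).1 (Finset.mem_filter.1 hs).2⟩)]
  refine Finset.sum_congr rfl fun q hq => ?_
  rw [Finset.sum_congr rfl fun s hs => by rw [(Finset.mem_filter.1 hs).2], Finset.sum_const, nsmul_eq_mul]
  congr 2
  obtain ⟨s₀, rfl⟩ := QuotientGroup.mk'_surjective (pPrimeCore 2 (cz y)) q
  rw [← Nat.card_eq_finsetCard]
  refine Nat.card_congr
    { toFun := fun s => ⟨s₀⁻¹ * (s : cz y), QuotientGroup.eq.1 (Finset.mem_filter.1 s.2).2.symm⟩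
      invFun := fun o => ⟨s₀ * (o : cz y), ?_⟩
      left_inv := fun s => Subtype.ext (mul_inv_cancel_left _ _)
      right_inv := fun o => Subtype.ext (inv_mul_cancel_left _ _) }
  have e : QuotientGroup.mk' (pPrimeCore 2 (cz y)) (s₀ * (o : cz y)) = QuotientGroup.mk' _ s₀ := by
    rw [map_mul, show QuotientGroup.mk' (pPrimeCore 2 (cz y)) (o : cz y) = 1 from
      (QuotientGroup.eq_one_iff _).2 o.2, mul_one]
  refine Finset.mem_filter.2 ⟨Finset.mem_filter.2 ⟨Finset.mem_univ _, (regular_iff _).2 ?_⟩, e⟩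
  rw [e]
  exact (Finset.mem_filter.1 hq).2

namespace Cfg

theorem orderOf_dvd_four (h : Cfg S z) {x : G} (hx : x ∈ (S : Subgroup G)) : orderOf x ∣ 4 :=
  orderOf_dvd_of_pow_eq_one (h.pow_four x hx)

theorem sq_mem (h : Cfg S z) {x : G} (hx : x ∈ (S : Subgroup G)) : x * x * (x * x) = 1 := by
  rw [← h.pow_four x hx]; simp only [pow_succ, pow_zero, one_mul, mul_assoc]

theorem orderOf_eq_four (h : Cfg S z) {x : G} (hx : x ∈ (S : Subgroup G)) (hne : x * x ≠ 1) :
    orderOf x = 4 := by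
  have h1 := h.orderOf_dvd_four hx
  have h2 : orderOf x ∈ Nat.divisors 4 := Nat.mem_divisors.2 ⟨h1, by norm_num⟩
  rw [show Nat.divisors 4 = {1, 2, 4} by decide] at h2
  simp only [Finset.mem_insert, Finset.mem_singleton] at h2
  rcases h2 with h3 | h3 | h3
  · exact absurd (by rw [orderOf_eq_one_iff.1 h3, one_mul]) hne
  · exact absurd (mul_self_of_two h3) hne
  · exact h3

/-- A 2-element of the whole group: trivial, conjugate to `z`, or conjugate to any element of order 4. -/
theorem two_elt_cases (h : Cfg S z) {y : G} (hy : ∃ k, orderOf y = 2 ^ k) :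
    y = 1 ∨ IsConj z y ∨ orderOf y = 4 := by
  obtain ⟨g, hg⟩ := exists_conj_mem S hy
  have h4 := h.orderOf_dvd_four hg
  rw [BrauerSuzuki.orderOf_conj_eq] at h4
  have h2 : orderOf y ∈ Nat.divisors 4 := Nat.mem_divisors.2 ⟨h4, by norm_num⟩
  rw [show Nat.divisors 4 = {1, 2, 4} by decide] at h2
  simp only [Finset.mem_insert, Finset.mem_singleton] at h2
  rcases h2 with h3 | h3 | h3
  · exact Or.inl (orderOf_eq_one_iff.1 h3)
  · exact Or.inr (Or.inl (h.invol y h3))
  · exact Or.inr (Or.inr h3)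

/-- The 2-part of a product of two involutions is trivial or an involution. -/
theorem tp_product (h : Cfg S z) {u v : G} (hu : orderOf u = 2) (hv : orderOf v = 2) :
    tp (u * v) * tp (u * v) = 1 := by
  haveI : Fact (Nat.Prime 2) := ⟨Nat.prime_two⟩
  set y := tp (u * v) with hy
  have huu := mul_self_of_two hu
  have hvv := mul_self_of_two hv
  have hinv : u * y * u⁻¹ = y⁻¹ := by
    have e : u * (u * v) * u⁻¹ = (u * v)⁻¹ := by
      rw [mul_inv_rev, inv_eq_of_mul_eq_one_right hvv, inv_eq_of_mul_eq_one_right huu, ← mul_assoc u u, huu,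
        one_mul]
    rw [hy, ← tp_conj, e]
    obtain ⟨s, hs, hc, hk, hodd⟩ := tp_spec (u * v)
    refine tp_eq ⟨s⁻¹, ?_, hc.inv_inv, by simpa using hk, by simpa using hodd⟩
    rw [hc.inv_inv.eq, ← mul_inv_rev, hs]
  have hT := pGroup_pair ⟨1, hu.trans (pow_one 2).symm⟩ (tp_two_elt (u * v))
    (by rw [← hy, hinv]; exact inv_mem (Subgroup.mem_zpowers _))
  obtain ⟨g, hg⟩ := exists_conj_le S hT
  have hu' := hg u (Subgroup.mem_sup_left (Subgroup.mem_zpowers u))
  have hy' := hg y (Subgroup.mem_sup_right (Subgroup.mem_zpowers _))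
  have hc := h.central _ hu' (by
    rw [show g * u * g⁻¹ * (g * u * g⁻¹) = g * (u * u) * g⁻¹ by group, huu, mul_one, mul_inv_cancel]) _ hy'
  have hc' : Commute u y := by
    have := (Commute.map hc (MulAut.conj g⁻¹).toMonoidHom)
    simpa [mul_assoc] using this
  have : y = y⁻¹ := by
    rw [← hinv, hc'.eq, mul_inv_cancel_right]
  calc y * y = y * y⁻¹ := by rw [← this]
    _ = 1 := mul_inv_cancel y

end Cfg

end Cfsg.Agent.U34Block
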