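import Mathlib.Tactic

/-!
The search excluding a principal 2-block without a character of degree `-3` times its value at an involution.

A unit stands for `n` rows with the same entries `(r0, S, e)` (the entry at the trivial Brauer character, the sum
of the other four, the entry at an element of order 4) and the same degree `|4 e - 3 a + 64 M|`, where `a = r0 + S`.
-/

namespace Cfsg.Agent.U34Block

/-- A unit, with a lower bound `m` for `|M|`. -/
structure Un where
  n : ℕ
  r0 : ℤ
  S : ℤ
  e : ℤ
  m : ℕ

/-- The value at an involution. -/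
def Un.a (u : Un) : ℤ := u.r0 + u.S

/-- The constant part of the degree. -/
def Un.K (u : Un) : ℤ := 4 * u.e - 3 * u.a

/-- The oriented degree. -/
def Un.F (u : Un) (M : ℤ) : ℤ := u.K + 64 * M

/-- The coefficient in the identity for the column of an element of order 4. -/
def Un.c0 (u : Un) : ℤ := u.n * u.a * u.a * u.e

/-- The coefficient in the identity for the difference of the Brauer characters. -/
def Un.c1 (u : Un) : ℤ := u.n * u.a * u.a * (4 * u.r0 - u.S)

/-- The conditions on `M`. -/
def Un.ok (u : Un) (M : ℤ) : Bool :=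
  Nat.ble u.m M.natAbs && !(Nat.beq (16 * M + u.e).natAbs 0) && !(Nat.beq (u.F M).natAbs 0) &&
    Nat.ble u.a.natAbs (u.F M).natAbs &&
    (match u.F M with
      | .ofNat _ => decide (0 ≤ M) && decide (0 ≤ M + u.e)
      | .negSucc _ => decide (M ≤ 0) && decide (M + u.e ≤ 0))

/-- Equality of units. -/
def Un.same (u v : Un) : Bool :=
  Nat.beq u.n v.n && decide (u.r0 = v.r0) && decide (u.S = v.S) && decide (u.e = v.e) && Nat.beq u.m v.m

/-- The state: the three linear sums still to be met and the two fractions still to be met. -/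
structure St where
  L0 : ℤ
  L1 : ℤ
  L2 : ℤ
  p0 : ℤ
  d0 : ℕ
  p1 : ℤ
  d1 : ℕ

/-- Evaluation of a natural number before use. -/
def forceN {α : Type} (n : ℕ) (k : ℕ → α) : α :=
  match n with
  | 0 => k 0
  | m + 1 => k (m + 1)

/-- Evaluation of an integer before use. -/
def forceZ {α : Type} (z : ℤ) (k : ℤ → α) : α :=
  match z with
  | .ofNat n => forceN n fun n => k (.ofNat n)
  | .negSucc n => forceN n fun n => k (.negSucc n)

/-- Fixing one unit. -/
def St.step (s : St) (u : Un) (M : ℤ) (k : St → Bool) : Bool :=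
  forceZ (u.F M) fun F =>
  forceZ (s.L0 - u.n * u.r0 * M) fun L0 =>
  forceZ (s.L1 - u.n * u.S * M) fun L1 =>
  forceZ (s.L2 - u.n * u.e * M) fun L2 =>
  forceN F.natAbs fun f =>
  forceZ (F.sign * (s.p0 * F - u.c0 * s.d0)) fun p0 =>
  forceN (s.d0 * f) fun d0 =>
  forceZ (F.sign * (s.p1 * F - u.c1 * s.d1)) fun p1 =>
  forceN (s.d1 * f) fun d1 =>
  forceN (Nat.gcd p0.natAbs d0) fun g0 =>
  forceN (Nat.gcd p1.natAbs d1) fun g1 =>
  forceZ (p0 / g0) fun q0 =>
  forceN (d0 / g0) fun e0 =>
  forceZ (p1 / g1) fun q1 =>
  forceN (d1 / g1) fun e1 =>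
  k ⟨L0, L1, L2, q0, e0, q1, e1⟩

/-- The six linear forms. -/
def form (i : ℕ) (x y z : ℤ) : ℤ :=
  match i with
  | 0 => x
  | 1 => y
  | 2 => z
  | 3 => x + z
  | 4 => x - z
  | _ => y - 4 * x

/-- The coefficient of a unit in a linear form. -/
def Un.form (u : Un) (i : ℕ) : ℤ := u.n * U34Block.form i u.r0 u.S u.e

/-- The target of a linear form. -/
def St.form (s : St) (i : ℕ) : ℤ := U34Block.form i s.L0 s.L1 s.L2

/-- The common divisor of a linear form. -/
def gcdForm (i : ℕ) : List Un → ℕ
  | [] => 0
  | u :: us => Nat.gcd (u.form i).natAbs (gcdForm i us)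

/-- A linear form which cannot be met. -/
def badForm (us : List Un) (s : St) (i : ℕ) : Bool :=
  !(Nat.beq ((s.form i).natAbs % gcdForm i us) 0)

/-- A lower bound for the degree. -/
def Un.lb (u : Un) : ℕ :=
  match u.m with
  | 0 =>
    Nat.max 1 (Nat.min (Nat.min (if u.ok 0 then (u.F 0).natAbs else 128 - u.K.natAbs)
      (if u.ok 1 then (u.F 1).natAbs else 128 - u.K.natAbs))
      (Nat.min (if u.ok (-1) then (u.F (-1)).natAbs else 128 - u.K.natAbs) (128 - u.K.natAbs)))
  | m + 1 => Nat.max 1 (64 * (m + 1) - u.K.natAbs)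

/-- The largest possible sum of the absolute contributions, as a fraction. -/
def budget (c : Un → ℤ) : List Un → ℕ × ℕ
  | [] => (0, 1)
  | u :: us => forceN u.lb fun l => match budget c us with
    | (N, D) => forceN (N * l + (c u).natAbs * D) fun N' => forceN (D * l) fun D' => (N', D')

/-- A fraction out of reach. -/
def overBudget (c : Un → ℤ) (us : List Un) (p : ℤ) (d : ℕ) : Bool :=
  match budget c us with
  | (N, D) => Nat.blt (N * d) (p.natAbs * D)

/-- The number of units occurring in an identity. -/
def cnt (c : Un → ℤ) : List Un → ℕ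
  | [] => 0
  | u :: us => if Nat.beq (c u).natAbs 0 then cnt c us else cnt c us + 1

/-- From this bound on, a contribution is below the average. -/
def lim (c : Un → ℤ) (k : ℕ) (p : ℤ) (d : ℕ) (u : Un) : ℕ :=
  Nat.max (Nat.max (((c u).natAbs * k * d / p.natAbs + u.K.natAbs) / 64 + 1) u.m) 1

/-- The cost of branching on an identity. -/
def cost (c : Un → ℤ) (us : List Un) (p : ℤ) (d : ℕ) : ℕ :=
  forceN (cnt c us) fun k =>
    k * (Nat.log2 (us.foldr (fun u t => if Nat.beq (c u).natAbs 0 then t else lim c k p d u - u.m + t) 0 + 2) + 1)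

/-- The only unit in a linear form. -/
def single (i : ℕ) : List Un → List Un → Option (Un × List Un)
  | _, [] => none
  | pre, u :: us =>
    if Nat.beq (u.form i).natAbs 0 then single i (u :: pre) us
    else if us.all (fun v => Nat.beq (v.form i).natAbs 0) then some (u, pre.reverseAux us) else none

/-- The first linear form with a single unit. -/
def findSingle (us : List Un) : List ℕ → Option (ℕ × Un × List Un)
  | [] => none
  | i :: is => match single i [] us with
    | some (u, rest) => some (i, u, rest)
    | none => findSingle us is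

/-- `P M` for all `M` with `|M| < l` allowed at `u`. -/
def allM (u : Un) (P : ℤ → Bool) : ℕ → Bool
  | 0 => true
  | l + 1 => allM u P l && forceN l fun l =>
      (!u.ok (Int.ofNat l) || P (Int.ofNat l)) &&
        (Nat.beq l 0 || !u.ok (Int.negOfNat l) || P (Int.negOfNat l))

/-- The branches: some unit has a small `|M|`; the units before it have not. -/
def branch (next : List Un → St → Bool) (c : Un → ℤ) (k : ℕ) (p : ℤ) (d : ℕ) (s : St) :
    List Un → List Un → List Un → Bool
  | _, _, [] => true
  | orig, pre, u :: us =>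
    if Nat.beq (c u).natAbs 0 then branch next c k p d s (u :: orig) (u :: pre) us
    else forceN (lim c k p d u) fun l =>
      (orig.any (fun v => v.same u) || allM u (fun M => s.step u M (next (pre.reverseAux us))) l) &&
        branch next c k p d s (u :: orig) ({ u with m := l } :: pre) us

/-- No assignment of the units meets the state. -/
def dead : ℕ → List Un → St → Bool
  | 0, us, s => us.isEmpty && !(Nat.beq s.p0.natAbs 0 && Nat.beq s.p1.natAbs 0 &&
      Nat.beq s.L0.natAbs 0 && Nat.beq s.L1.natAbs 0 && Nat.beq s.L2.natAbs 0)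
  | fuel + 1, us, s =>
    ([0, 1, 2, 3, 4, 5] : List ℕ).any (badForm us s) || overBudget Un.c0 us s.p0 s.d0 || overBudget Un.c1 us s.p1 s.d1 ||
      match findSingle us [0, 1, 2, 3, 4, 5] with
      | some (i, u, rest) =>
        forceZ (s.form i / u.form i) fun M => !u.ok M || s.step u M (dead fuel rest)
      | none =>
        if Nat.beq s.p0.natAbs 0 then
          !(Nat.beq s.p1.natAbs 0) && branch (dead fuel) Un.c1 (cnt Un.c1 us) s.p1 s.d1 s [] [] us
        else if Nat.beq s.p1.natAbs 0 || Nat.ble (cost Un.c0 us s.p0 s.d0) (cost Un.c1 us s.p1 s.d1) then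
          branch (dead fuel) Un.c0 (cnt Un.c0 us) s.p0 s.d0 s [] [] us
        else branch (dead fuel) Un.c1 (cnt Un.c1 us) s.p1 s.d1 s [] [] us

/-- The start. -/
def start : St := ⟨3, 12, -1, -1, 1, -4, 1⟩

end Cfsg.Agent.U34Block
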