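import Cfsg.Agent.Lib.U34Rec.BlockSearch

/-!
Soundness of the search: a positive answer excludes solutions.
-/

namespace Cfsg.Agent.U34Block

/-- The contribution to an identity. -/
def term (c : Un → ℤ) (q : Un × ℤ) : ℚ := (c q.1 : ℚ) / (q.1.F q.2 : ℚ)

/-- The values `M` meet a state. -/
structure Sol (l : List (Un × ℤ)) (s : St) : Prop where
  ok : ∀ q ∈ l, q.1.ok q.2 = true
  pos0 : 0 < s.d0
  pos1 : 0 < s.d1
  L0 : (l.map fun q => (q.1.n : ℤ) * q.1.r0 * q.2).sum = s.L0
  L1 : (l.map fun q => (q.1.n : ℤ) * q.1.S * q.2).sum = s.L1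
  L2 : (l.map fun q => (q.1.n : ℤ) * q.1.e * q.2).sum = s.L2
  q0 : (l.map (term Un.c0)).sum = (s.p0 : ℚ) / s.d0
  q1 : (l.map (term Un.c1)).sum = (s.p1 : ℚ) / s.d1

theorem forceN_eq {α : Type} (n : ℕ) (k : ℕ → α) : forceN n k = k n := by cases n <;> rfl

theorem forceZ_eq {α : Type} (z : ℤ) (k : ℤ → α) : forceZ z k = k z := by
  cases z <;> simp only [forceZ, forceN_eq]

/-- The state after fixing one unit. -/
def St.next (s : St) (u : Un) (M : ℤ) : St :=
  let F := u.F M
  let p0 := F.sign * (s.p0 * F - u.c0 * s.d0)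
  let d0 := s.d0 * F.natAbs
  let p1 := F.sign * (s.p1 * F - u.c1 * s.d1)
  let d1 := s.d1 * F.natAbs
  ⟨s.L0 - u.n * u.r0 * M, s.L1 - u.n * u.S * M, s.L2 - u.n * u.e * M,
    p0 / Nat.gcd p0.natAbs d0, d0 / Nat.gcd p0.natAbs d0, p1 / Nat.gcd p1.natAbs d1, d1 / Nat.gcd p1.natAbs d1⟩

theorem step_eq (s : St) (u : Un) (M : ℤ) (k : St → Bool) : s.step u M k = k (s.next u M) := by
  simp only [St.step, forceN_eq, forceZ_eq, St.next]

theorem ok_spec {u : Un} {M : ℤ} (h : u.ok M = true) :
    u.m ≤ M.natAbs ∧ u.F M ≠ 0 ∧ u.a.natAbs ≤ (u.F M).natAbs := by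
  simp only [Un.ok, Bool.and_eq_true, Bool.not_eq_true', Nat.ble_eq] at h
  obtain ⟨⟨⟨⟨h1, -⟩, h3⟩, h4⟩, -⟩ := h
  refine ⟨h1, fun e => ?_, h4⟩
  rw [e] at h3
  simp at h3

theorem ok_mono {u : Un} {M : ℤ} (h : u.ok M = true) {l : ℕ} (hl : l ≤ M.natAbs) :
    Un.ok { u with m := l } M = true := by
  simp only [Un.ok, Bool.and_eq_true, Nat.ble_eq] at h ⊢
  exact ⟨⟨⟨⟨hl, h.1.1.1.2⟩, h.1.1.2⟩, h.1.2⟩, h.2⟩

theorem fraction_step {p c F : ℤ} {d : ℕ} (hd : 0 < d) (hF : F ≠ 0) :
    let q := F.sign * (p * F - c * d)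
    let e := d * F.natAbs
    0 < e / Nat.gcd q.natAbs e ∧
      ((q / (Nat.gcd q.natAbs e : ℤ) : ℤ) : ℚ) / ((e / Nat.gcd q.natAbs e : ℕ) : ℚ) =
        (p : ℚ) / d - (c : ℚ) / F := by
  intro q e
  have he : 0 < e := Nat.mul_pos hd (Int.natAbs_pos.2 hF)
  have hg : 0 < Nat.gcd q.natAbs e := Nat.gcd_pos_of_pos_right _ he
  have h1 : (Nat.gcd q.natAbs e : ℤ) ∣ q := Int.natCast_dvd.2 (Nat.gcd_dvd_left _ _)
  have h2 := Nat.gcd_dvd_right q.natAbs e
  refine ⟨Nat.div_pos (Nat.le_of_dvd he h2) hg, ?_⟩
  rw [Int.cast_div h1 (by exact_mod_cast hg.ne'), Nat.cast_div h2 (by exact_mod_cast hg.ne')]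
  have hgq : ((Nat.gcd q.natAbs e : ℕ) : ℚ) ≠ 0 := by exact_mod_cast hg.ne'
  rw [Int.cast_natCast, div_div_div_cancel_right₀ hgq]
  have hFq : (F : ℚ) ≠ 0 := by exact_mod_cast hF
  have hdq : (d : ℚ) ≠ 0 := by exact_mod_cast hd.ne'
  have hsF : (e : ℚ) = (d : ℚ) * ((F.sign : ℚ) * F) := by
    show ((d * F.natAbs : ℕ) : ℚ) = _
    rw [Nat.cast_mul, ← Int.cast_natCast (R := ℚ) F.natAbs, ← Int.sign_mul_self_eq_natAbs, Int.cast_mul]
  have hs : (F.sign : ℚ) ≠ 0 := by
    exact_mod_cast (fun h => hF (Int.sign_eq_zero_iff_zero.1 h))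
  rw [hsF, show (q : ℚ) = (F.sign : ℚ) * ((p : ℚ) * F - c * d) by
    show ((F.sign * (p * F - c * d) : ℤ) : ℚ) = _; push_cast; ring]
  field_simp

theorem Sol.step {l1 l2 : List (Un × ℤ)} {u : Un} {M : ℤ} {s : St} (h : Sol (l1 ++ (u, M) :: l2) s) :
    Sol (l1 ++ l2) (s.next u M) := by
  have hok : u.ok M = true := h.ok (u, M) (by simp)
  obtain ⟨a0, b0⟩ := fraction_step (p := s.p0) (c := u.c0) h.pos0 (ok_spec hok).2.1
  obtain ⟨a1, b1⟩ := fraction_step (p := s.p1) (c := u.c1) h.pos1 (ok_spec hok).2.1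
  have e0 := h.L0
  have e1 := h.L1
  have e2 := h.L2
  have f0 := h.q0
  have f1 := h.q1
  simp only [List.map_append, List.map_cons, List.sum_append, List.sum_cons] at e0 e1 e2 f0 f1
  refine ⟨fun q hq => h.ok q ?_, a0, a1, ?_, ?_, ?_, ?_, ?_⟩
  · simp only [List.mem_append, List.mem_cons] at hq ⊢
    tauto
  all_goals simp only [St.next, List.map_append, List.sum_append]
  · linarith
  · linarith
  · linarith
  · rw [b0, ← f0]; simp only [term]; ring
  · rw [b1, ← f1]; simp only [term]; ring

theorem gcdForm_dvd (i : ℕ) : ∀ {us : List Un} {u : Un}, u ∈ us → gcdForm i us ∣ (u.form i).natAbs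
  | v :: us, u, h => by
    rcases List.mem_cons.1 h with rfl | h
    · exact Nat.gcd_dvd_left _ _
    · exact (Nat.gcd_dvd_right _ _).trans (gcdForm_dvd i h)

theorem Sol.form {l : List (Un × ℤ)} {s : St} (h : Sol l s) (i : ℕ) :
    (l.map fun q => q.1.form i * q.2).sum = s.form i := by
  have key : ∀ l : List (Un × ℤ), (l.map fun q => q.1.form i * q.2).sum = U34Block.form i
      (l.map fun q => (q.1.n : ℤ) * q.1.r0 * q.2).sum (l.map fun q => (q.1.n : ℤ) * q.1.S * q.2).sum
      (l.map fun q => (q.1.n : ℤ) * q.1.e * q.2).sum := by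
    intro l
    induction l with
    | nil => rcases i with _ | _ | _ | _ | _ | i <;> rfl
    | cons q l ih =>
      simp only [List.map_cons, List.sum_cons, ih]
      rcases i with _ | _ | _ | _ | _ | i <;> simp only [Un.form, U34Block.form] <;> ring
  rw [key, h.L0, h.L1, h.L2]
  rfl

theorem not_badForm {l : List (Un × ℤ)} {us : List Un} {s : St} (h : Sol l s) (hl : l.map Prod.fst = us)
    (i : ℕ) : badForm us s i = false := by
  have hd : ((gcdForm i us : ℕ) : ℤ) ∣ s.form i := by
    rw [← h.form i]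
    refine List.dvd_sum fun x hx => ?_
    obtain ⟨q, hq, rfl⟩ := List.mem_map.1 hx
    exact (Int.natCast_dvd.2 (gcdForm_dvd i (hl ▸ List.mem_map_of_mem hq))).mul_right _
  simp only [badForm, Bool.not_eq_false', Nat.beq_eq]
  exact Nat.mod_eq_zero_of_dvd (Int.natCast_dvd.1 hd)

theorem lb_le {u : Un} {M : ℤ} (h : u.ok M = true) : u.lb ≤ (u.F M).natAbs := by
  obtain ⟨h1, h2, -⟩ := ok_spec h
  have hF : 1 ≤ (u.F M).natAbs := Int.natAbs_pos.2 h2
  have hFd : u.F M = u.K + 64 * M := rfl
  rw [Un.lb]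
  split
  · refine Nat.max_le.2 ⟨hF, ?_⟩
    by_cases h0 : M = 0
    · subst h0; rw [if_pos h]; exact ((min_le_left _ _).trans (min_le_left _ _))
    by_cases hp : M = 1
    · subst hp; rw [if_pos h]; exact ((min_le_left _ _).trans (min_le_right _ _))
    by_cases hm : M = -1
    · subst hm; rw [if_pos h]; exact ((min_le_right _ _).trans (min_le_left _ _))
    refine ((min_le_right _ _).trans (min_le_right _ _)).trans ?_
    omega
  · rename_i m hm
    refine Nat.max_le.2 ⟨hF, ?_⟩
    omega

theorem budget_spec (c : Un → ℤ) : ∀ {l : List (Un × ℤ)}, (∀ q ∈ l, q.1.ok q.2 = true) →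
    0 < (budget c (l.map Prod.fst)).2 ∧ |(l.map (term c)).sum| ≤
      ((budget c (l.map Prod.fst)).1 : ℚ) / (budget c (l.map Prod.fst)).2
  | [], _ => by simp [budget]
  | (u, M) :: l, h => by
    obtain ⟨hD, hle⟩ := budget_spec c (l := l) fun q hq => h q (List.mem_cons_of_mem _ hq)
    have hu : u.ok M = true := h _ (List.mem_cons_self)
    have hl : 0 < u.lb := by rw [Un.lb]; split <;> exact lt_of_lt_of_le one_pos (le_max_left _ _)
    simp only [List.map_cons, budget, forceN_eq, List.sum_cons]
    set N := (budget c (l.map Prod.fst)).1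
    set D := (budget c (l.map Prod.fst)).2
    refine ⟨Nat.mul_pos hD hl, ?_⟩
    have hDq : (0 : ℚ) < D := by exact_mod_cast hD
    have hlq : (0 : ℚ) < u.lb := by exact_mod_cast hl
    have h1 : |term c (u, M)| ≤ ((c u).natAbs : ℚ) / u.lb := by
      rw [term, abs_div]
      show |((c u : ℤ) : ℚ)| / |((u.F M : ℤ) : ℚ)| ≤ _
      rw [← Int.cast_abs, ← Int.cast_abs, Int.abs_eq_natAbs, Int.abs_eq_natAbs, Int.cast_natCast,
        Int.cast_natCast]
      exact div_le_div_of_nonneg_left (by positivity) hlq (by exact_mod_cast lb_le hu)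
    refine (abs_add_le _ _).trans ((add_le_add h1 hle).trans (le_of_eq ?_))
    push_cast
    field_simp
    ring

theorem not_over (c : Un → ℤ) {l : List (Un × ℤ)} {p : ℤ} {d : ℕ} (hd : 0 < d)
    (hok : ∀ q ∈ l, q.1.ok q.2 = true) (h : (l.map (term c)).sum = (p : ℚ) / d) :
    overBudget c (l.map Prod.fst) p d = false := by
  obtain ⟨hD, hle⟩ := budget_spec c hok
  rw [h, abs_div, Nat.abs_cast, div_le_div_iff₀ (by exact_mod_cast hd) (by exact_mod_cast hD),
    ← Int.cast_abs, Int.abs_eq_natAbs, Int.cast_natCast] at hle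
  rw [← Bool.not_eq_true]
  intro hb
  simp only [overBudget, Nat.blt_eq] at hb
  have : ((p.natAbs * (budget c (l.map Prod.fst)).2 : ℕ) : ℚ) ≤
      (((budget c (l.map Prod.fst)).1 * d : ℕ) : ℚ) := by push_cast; exact hle
  exact absurd (Nat.cast_le.1 this) (not_le.2 hb)

theorem single_spec (i : ℕ) : ∀ {pre us : List Un} {u : Un} {rest : List Un},
    single i pre us = some (u, rest) → (∀ v ∈ pre, v.form i = 0) →
    ∃ l1 l2, pre.reverse ++ us = l1 ++ u :: l2 ∧ rest = l1 ++ l2 ∧ u.form i ≠ 0 ∧
      ∀ v ∈ l1 ++ l2, v.form i = 0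
  | pre, v :: us, u, rest, h, hpre => by
    rw [single] at h
    by_cases hv : v.form i = 0
    · rw [if_pos (by simp [hv])] at h
      obtain ⟨l1, l2, e, r⟩ := single_spec i h fun w hw => by
        rcases List.mem_cons.1 hw with rfl | hw
        exacts [hv, hpre w hw]
      exact ⟨l1, l2, by simpa using e, r⟩
    · rw [if_neg (by simpa using hv)] at h
      split at h
      · rename_i hall
        obtain ⟨rfl, rfl⟩ := Prod.mk.injEq .. ▸ Option.some.inj h
        refine ⟨pre.reverse, us, rfl, List.reverseAux_eq, hv, fun w hw => ?_⟩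
        rcases List.mem_append.1 hw with hw | hw
        · exact hpre w (List.mem_reverse.1 hw)
        · simpa using List.all_eq_true.1 hall w hw
      · simp at h

theorem findSingle_spec {us : List Un} : ∀ {is : List ℕ} {i : ℕ} {u : Un} {rest : List Un},
    findSingle us is = some (i, u, rest) → single i [] us = some (u, rest)
  | j :: is, i, u, rest, h => by
    rw [findSingle] at h
    split at h
    · rename_i u' rest' e
      simp only [Option.some.injEq, Prod.mk.injEq] at h
      obtain ⟨rfl, rfl, rfl⟩ := h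
      exact e
    · exact findSingle_spec h

theorem allM_spec (u : Un) (P : ℤ → Bool) : ∀ {l : ℕ}, allM u P l = true → ∀ M : ℤ, M.natAbs < l →
    u.ok M = true → P M = true
  | l + 1, h, M, hM, hok => by
    simp only [allM, forceN_eq, Bool.and_eq_true, Bool.or_eq_true, Bool.not_eq_true', Nat.beq_eq] at h
    obtain ⟨h0, h1, h2⟩ := h
    rcases Nat.lt_or_ge M.natAbs l with hlt | hge
    · exact allM_spec u P h0 M hlt hok
    have he : M.natAbs = l := by omega
    rcases Int.natAbs_eq M with e | e <;> rw [he] at e <;> subst e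
    · rcases h1 with h1 | h1
      · exact absurd hok (by simpa using h1)
      · exact h1
    · have hn : -(l : ℤ) = Int.negOfNat l := by cases l <;> rfl
      rw [hn] at hok ⊢
      rcases h2 with (h2 | h2) | h2
      · subst h2
        rcases h1 with h1 | h1
        · exact absurd hok (Bool.eq_false_iff.1 h1)
        · exact h1
      · exact absurd hok (by simpa using h2)
      · exact h2

/-- Raising the bound of a unit which occurs. -/
def raise (c : Un → ℤ) (k : ℕ) (p : ℤ) (d : ℕ) (v : Un) : Un :=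
  if c v = 0 then v else { v with m := lim c k p d v }

theorem branch_spec (next : List Un → St → Bool) (c : Un → ℤ) (k : ℕ) (p : ℤ) (d : ℕ) (s : St) :
    ∀ {us orig pre : List Un}, branch next c k p d s orig pre us = true → ∀ {us1 us2 : List Un} {u : Un},
      us = us1 ++ u :: us2 → c u ≠ 0 → (∀ v, v ∈ orig ∨ v ∈ us1 → v.same u = false) → ∀ M : ℤ,
      u.ok M = true → M.natAbs < lim c k p d u →
      next (pre.reverse ++ us1.map (raise c k p d) ++ us2) (s.next u M) = true
  | [], _, _, _, us1, us2, u, e, _, _, _, _, _ => by simp at e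
  | v :: us, orig, pre, h, us1, us2, u, e, hc, hdup, M, hok, hlt => by
    rw [branch] at h
    rcases us1 with _ | ⟨w, us1⟩
    · simp only [List.nil_append, List.cons.injEq] at e
      obtain ⟨rfl, rfl⟩ := e
      rw [if_neg (by simpa using hc), forceN_eq] at h
      simp only [Bool.and_eq_true, Bool.or_eq_true, List.any_eq_true] at h
      rcases h.1 with ⟨w, hw, hsame⟩ | h1
      · rw [hdup w (Or.inl hw)] at hsame; simp at hsame
      · have := allM_spec v _ h1 M hlt hok
        rw [step_eq, List.reverseAux_eq] at this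
        simpa using this
    · simp only [List.cons_append, List.cons.injEq] at e
      obtain ⟨rfl, rfl⟩ := e
      have hdup' : ∀ x, x ∈ v :: orig ∨ x ∈ us1 → x.same u = false := fun x hx => by
        rcases hx with hx | hx
        · rcases List.mem_cons.1 hx with rfl | hx
          exacts [hdup x (Or.inr List.mem_cons_self), hdup x (Or.inl hx)]
        · exact hdup x (Or.inr (List.mem_cons_of_mem _ hx))
      by_cases hv : c v = 0
      · rw [if_pos (by simp [hv])] at h
        have := branch_spec next c k p d s h rfl hc hdup' M hok hlt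
        simpa [raise, hv] using this
      · rw [if_neg (by simpa using hv), forceN_eq, Bool.and_eq_true] at h
        have := branch_spec next c k p d s h.2 rfl hc hdup' M hok hlt
        simpa [raise, hv] using this

theorem same_eq {u v : Un} (h : u.same v = true) : u = v := by
  obtain ⟨n, r0, S, e, m⟩ := u
  obtain ⟨n', r0', S', e', m'⟩ := v
  simp only [Un.same, Bool.and_eq_true, Nat.beq_eq, decide_eq_true_eq] at h
  obtain ⟨⟨⟨⟨rfl, rfl⟩, rfl⟩, rfl⟩, rfl⟩ := h
  rfl

theorem lim_le {c : Un → ℤ} {k : ℕ} {p : ℤ} {d : ℕ} {u : Un} {M : ℤ} (hp : p ≠ 0)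
    (hM : lim c k p d u ≤ M.natAbs) : (c u).natAbs * k * d < p.natAbs * (u.F M).natAbs := by
  have h1 : (((c u).natAbs * k * d / p.natAbs + u.K.natAbs) / 64 + 1) ≤ M.natAbs :=
    ((le_max_left _ _).trans (le_max_left _ _)).trans hM
  obtain ⟨x, hx⟩ : ∃ x, x = (c u).natAbs * k * d / p.natAbs := ⟨_, rfl⟩
  rw [← hx] at h1
  have hFd : u.F M = u.K + 64 * M := rfl
  have h2 : x + 1 ≤ (u.F M).natAbs := by omega
  have h3 := Nat.lt_mul_div_succ ((c u).natAbs * k * d) (Int.natAbs_pos.2 hp)
  rw [← hx] at h3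
  exact h3.trans_le (Nat.mul_le_mul_left _ h2)

/-- Some unit of an identity has a small `|M|`. -/
theorem exists_small (c : Un → ℤ) {l : List (Un × ℤ)} {p : ℤ} {d : ℕ} (hd : 0 < d) (hp : p ≠ 0)
    (hok : ∀ q ∈ l, q.1.ok q.2 = true) (h : (l.map (term c)).sum = (p : ℚ) / d) :
    ∃ q ∈ l, c q.1 ≠ 0 ∧ q.2.natAbs < lim c (cnt c (l.map Prod.fst)) p d q.1 := by
  by_contra hcon
  push Not at hcon
  obtain ⟨k, hk⟩ : ∃ k, k = cnt c (l.map Prod.fst) := ⟨_, rfl⟩
  have hdq : (0 : ℚ) < d := by exact_mod_cast hd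
  have hpq : (0 : ℚ) < |(p : ℚ)| / d := div_pos (abs_pos.2 (by exact_mod_cast hp)) hdq
  have key : ∀ l' : List (Un × ℤ), (∀ q ∈ l', q ∈ l) →
      |(l'.map (term c)).sum| * k ≤ (cnt c (l'.map Prod.fst) : ℚ) * (|(p : ℚ)| / d) ∧
        (0 < cnt c (l'.map Prod.fst) →
          |(l'.map (term c)).sum| * k < (cnt c (l'.map Prod.fst) : ℚ) * (|(p : ℚ)| / d)) := by
    intro l'
    induction l' with
    | nil => simp [cnt]
    | cons q l' ih =>
      intro hsub
      obtain ⟨i1, i2⟩ := ih fun x hx => hsub x (List.mem_cons_of_mem _ hx)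
      simp only [List.map_cons, List.sum_cons, cnt]
      by_cases hc : c q.1 = 0
      · rw [if_pos (by simp [hc]), show term c q = 0 by simp [term, hc], zero_add]
        exact ⟨i1, i2⟩
      rw [if_neg (by simpa using hc)]
      have hq := hsub q List.mem_cons_self
      have h1 := lim_le (c := c) (u := q.1) hp (hk ▸ hcon q hq hc)
      have hF := (ok_spec (hok q hq)).2.1
      have h2 : |term c q| * k < |(p : ℚ)| / d := by
        have h1' : (((c q.1).natAbs : ℚ) * k * d) < (p.natAbs : ℚ) * ((q.1.F q.2).natAbs : ℚ) := by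
          exact_mod_cast h1
        have hFq : (0 : ℚ) < ((q.1.F q.2).natAbs : ℚ) := by exact_mod_cast Int.natAbs_pos.2 hF
        rw [term, abs_div]
        rw [show |((c q.1 : ℤ) : ℚ)| = ((c q.1).natAbs : ℚ) by
            rw [← Int.cast_abs, Int.abs_eq_natAbs, Int.cast_natCast],
          show |((q.1.F q.2 : ℤ) : ℚ)| = ((q.1.F q.2).natAbs : ℚ) by
            rw [← Int.cast_abs, Int.abs_eq_natAbs, Int.cast_natCast],
          show |(p : ℚ)| = (p.natAbs : ℚ) by rw [← Int.cast_abs, Int.abs_eq_natAbs, Int.cast_natCast],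
          div_mul_eq_mul_div, div_lt_div_iff₀ hFq hdq]
        exact h1'
      have h3 : (|term c q + (l'.map (term c)).sum|) * k ≤ |term c q| * k + |(l'.map (term c)).sum| * k := by
        rw [← add_mul]; exact mul_le_mul_of_nonneg_right (abs_add_le _ _) (by positivity)
      push_cast
      rw [add_mul, one_mul]
      exact ⟨by linarith, fun _ => by linarith⟩
  obtain ⟨h1, h2⟩ := key l fun q hq => hq
  rw [h, abs_div, Nat.abs_cast, ← hk, mul_comm] at h1 h2
  rcases Nat.eq_zero_or_pos k with h0 | h0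
  · have hz : ∀ l' : List (Un × ℤ), cnt c (l'.map Prod.fst) = 0 → (l'.map (term c)).sum = 0 := by
      intro l'
      induction l' with
      | nil => simp
      | cons q l' ih =>
        simp only [List.map_cons, cnt, List.sum_cons]
        split
        · rename_i hc
          intro h'
          rw [ih h', show term c q = 0 by simp [term, show c q.1 = 0 by simpa using hc], add_zero]
        · omega
    rw [hz l (hk ▸ h0)] at h
    have : (|(p : ℚ)| / d) = 0 := by rw [← Nat.abs_cast d, ← abs_div, ← h, abs_zero]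
    linarith
  · exact absurd (h2 h0) (lt_irrefl _)

/-- The first small unit which is not preceded by an equal one. -/
theorem exists_first (c : Un → ℤ) (k : ℕ) (p : ℤ) (d : ℕ) {us : List Un} {s : St} :
    ∀ (n : ℕ) (l : List (Un × ℤ)), Sol l s → l.map Prod.fst = us →
      (∃ l1 q l2, l = l1 ++ q :: l2 ∧ l1.length = n ∧ c q.1 ≠ 0 ∧ q.2.natAbs < lim c k p d q.1) →
      ∃ l1 q l2, Sol (l1 ++ q :: l2) s ∧ (l1 ++ q :: l2).map Prod.fst = us ∧ c q.1 ≠ 0 ∧
        q.2.natAbs < lim c k p d q.1 ∧
        (∀ x ∈ l1, x.1.same q.1 = false ∧ (c x.1 ≠ 0 → lim c k p d x.1 ≤ x.2.natAbs)) := by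
  intro n
  induction n using Nat.strong_induction_on with
  | _ n ih =>
    rintro l hS hl ⟨l1, q, l2, rfl, hn, hc, hq⟩
    by_cases hsmall : ∃ x ∈ l1, c x.1 ≠ 0 ∧ x.2.natAbs < lim c k p d x.1
    · obtain ⟨x, hx, hxc, hxl⟩ := hsmall
      obtain ⟨a, b, rfl⟩ := List.append_of_mem hx
      exact ih a.length (by simp at hn; omega) _ hS hl ⟨a, x, b ++ q :: l2, by simp, rfl, hxc, hxl⟩
    push Not at hsmall
    by_cases hdup : ∃ x ∈ l1, x.1.same q.1 = true
    · obtain ⟨⟨v, N⟩, hx, hxs⟩ := hdup
      obtain ⟨u, M⟩ := q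
      have huv : v = u := same_eq hxs
      subst huv
      obtain ⟨a, b, rfl⟩ := List.append_of_mem hx
      have hperm : ((a ++ (v, M) :: b) ++ (v, N) :: l2).Perm ((a ++ (v, N) :: b) ++ (v, M) :: l2) := by
        simp only [List.append_assoc, List.cons_append]
        refine List.Perm.append_left a ?_
        refine (List.Perm.cons _ List.perm_middle).trans ?_
        exact (List.Perm.swap _ _ _).trans (List.Perm.cons _ List.perm_middle.symm)
      have hS' : Sol ((a ++ (v, M) :: b) ++ (v, N) :: l2) s := by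
        refine ⟨fun x hx => hS.ok x (hperm.mem_iff.1 hx), hS.pos0, hS.pos1, ?_, ?_, ?_, ?_, ?_⟩
        all_goals rw [(hperm.map _).sum_eq]
        exacts [hS.L0, hS.L1, hS.L2, hS.q0, hS.q1]
      exact ih a.length (by simp at hn; omega) _ hS' (by rw [← hl]; simp)
        ⟨a, (v, M), b ++ (v, N) :: l2, by simp, rfl, hc, hq⟩
    push Not at hdup
    exact ⟨l1, q, l2, hS, hl, hc, hq, fun x hx => ⟨by simpa using hdup x hx, hsmall x hx⟩⟩

/-- A positive answer of the search excludes solutions. -/
theorem dead_sound : ∀ {fuel : ℕ} {us : List Un} {s : St}, dead fuel us s = true →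
    ∀ l : List (Un × ℤ), Sol l s → l.map Prod.fst ≠ us
  | 0, us, s, h, l, hS => by
    intro hl
    simp only [dead, Bool.and_eq_true, List.isEmpty_iff] at h
    obtain ⟨rfl, h⟩ := h
    obtain rfl : l = [] := List.map_eq_nil_iff.1 hl
    have e0 := hS.L0
    have e1 := hS.L1
    have e2 := hS.L2
    have f0 := hS.q0
    have f1 := hS.q1
    simp only [List.map_nil, List.sum_nil] at e0 e1 e2 f0 f1
    have hp0 : s.p0 = 0 := by
      have := (div_eq_zero_iff.1 f0.symm).resolve_right (Nat.cast_ne_zero.2 hS.pos0.ne')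
      exact_mod_cast this
    have hp1 : s.p1 = 0 := by
      have := (div_eq_zero_iff.1 f1.symm).resolve_right (Nat.cast_ne_zero.2 hS.pos1.ne')
      exact_mod_cast this
    simp [hp0, hp1, ← e0, ← e1, ← e2] at h
  | fuel + 1, us, s, h, l, hS => by
    intro hl
    subst hl
    rw [dead] at h
    simp only [Bool.or_eq_true, List.any_eq_true] at h
    rcases h with ((⟨i, -, hb⟩ | hb) | hb) | h
    · rw [not_badForm hS rfl i] at hb; simp at hb
    · rw [not_over Un.c0 hS.pos0 hS.ok hS.q0] at hb; simp at hb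
    · rw [not_over Un.c1 hS.pos1 hS.ok hS.q1] at hb; simp at hb
    split at h
    · rename_i i u rest he
      obtain ⟨v1, v2, e, rfl, hu, hz⟩ := single_spec i (findSingle_spec he) (by simp)
      rw [List.reverse_nil, List.nil_append] at e
      obtain ⟨l1, l', rfl, rfl, e'⟩ := List.map_eq_append_iff.1 e
      obtain ⟨q, l2, rfl, hq, rfl⟩ := List.map_eq_cons_iff.1 e'
      obtain ⟨qu, M⟩ := q
      simp only at hq
      subst hq
      have hform := hS.form i
      have z : ∀ r : List (Un × ℤ), (∀ x ∈ r, x.1.form i = 0) → (r.map fun x => x.1.form i * x.2).sum = 0 :=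
        fun r hr => List.sum_eq_zero fun y hy => by
          obtain ⟨x, hx, rfl⟩ := List.mem_map.1 hy; rw [hr x hx, zero_mul]
      rw [List.map_append, List.sum_append, List.map_cons, List.sum_cons,
        z l1 (fun x hx => hz _ (List.mem_append_left _ (List.mem_map_of_mem hx))),
        z l2 (fun x hx => hz _ (List.mem_append_right _ (List.mem_map_of_mem hx))), zero_add, add_zero] at hform
      have hM : s.form i / qu.form i = M := by rw [← hform, Int.mul_ediv_cancel_left _ hu]
      rw [forceZ_eq, hM] at h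
      simp only [Bool.or_eq_true, Bool.not_eq_true', hS.ok (qu, M) (by simp), Bool.true_eq_false, false_or,
        step_eq] at h
      exact dead_sound h _ hS.step (by simp)
    · have key : ∀ (c : Un → ℤ) (p : ℤ) (d : ℕ), 0 < d → p ≠ 0 → (l.map (term c)).sum = (p : ℚ) / d →
          branch (dead fuel) c (cnt c (l.map Prod.fst)) p d s [] [] (l.map Prod.fst) = true → False := by
        intro c p d hd hp hsum hbr
        obtain ⟨k, hk⟩ : ∃ k, k = cnt c (l.map Prod.fst) := ⟨_, rfl⟩
        rw [← hk] at hbr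
        obtain ⟨q, hq, hc, hlt⟩ := exists_small c hd hp hS.ok hsum
        obtain ⟨a, b, hab⟩ := List.append_of_mem hq
        obtain ⟨l1, ⟨u, M⟩, l2, hS', hl', hc', hlt', hbefore⟩ :=
          exists_first c k p d a.length l hS rfl ⟨a, q, b, hab, rfl, hc, hk ▸ hlt⟩
        have := branch_spec (dead fuel) c k p d s hbr (us1 := l1.map Prod.fst) (us2 := l2.map Prod.fst)
          (u := u) (by rw [← hl']; simp) hc'
          (fun v hv => by
            rcases hv with hv | hv
            · simp at hv
            · obtain ⟨x, hx, rfl⟩ := List.mem_map.1 hv; exact (hbefore x hx).1)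
          M (hS'.ok (u, M) (by simp)) hlt'
        have hstep := hS'.step
        refine dead_sound this (l1.map (fun x => (raise c k p d x.1, x.2)) ++ l2) ⟨?_, hstep.pos0, hstep.pos1,
          ?_, ?_, ?_, ?_, ?_⟩ (by simp [List.map_map, Function.comp_def])
        · intro x hx
          rcases List.mem_append.1 hx with hx | hx
          · obtain ⟨y, hy, rfl⟩ := List.mem_map.1 hx
            have hy' := hS'.ok y (by simp [hy])
            simp only [raise]
            split
            · exact hy'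
            · rename_i hcy; exact ok_mono hy' ((hbefore y hy).2 hcy)
          · exact hS'.ok x (by simp [hx])
        all_goals rw [List.map_append, List.map_map]
        · rw [← hstep.L0, List.map_append]
          congr 2; refine List.map_congr_left fun x _ => ?_; simp only [Function.comp_apply, raise]; split <;> rfl
        · rw [← hstep.L1, List.map_append]
          congr 2; refine List.map_congr_left fun x _ => ?_; simp only [Function.comp_apply, raise]; split <;> rfl
        · rw [← hstep.L2, List.map_append]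
          congr 2; refine List.map_congr_left fun x _ => ?_; simp only [Function.comp_apply, raise]; split <;> rfl
        · rw [← hstep.q0, List.map_append]
          congr 2; refine List.map_congr_left fun x _ => ?_; simp only [Function.comp_apply, raise]; split <;> rfl
        · rw [← hstep.q1, List.map_append]
          congr 2; refine List.map_congr_left fun x _ => ?_; simp only [Function.comp_apply, raise]; split <;> rfl
      by_cases h0 : s.p0 = 0
      · rw [if_pos (by simp [h0]), Bool.and_eq_true] at h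
        exact key _ _ _ hS.pos1 (fun e => by simp [e] at h) hS.q1 h.2
      rw [if_neg (by simpa using h0)] at h
      split at h
      · exact key _ _ _ hS.pos0 h0 hS.q0 h
      · rename_i hcond
        simp only [not_or] at hcond
        exact key _ _ _ hS.pos1 (fun e => hcond.1 (by simp [e])) hS.q1 h

end Cfsg.Agent.U34Block
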