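import Cfsg.Prelude.Def_Solvable
import Mathlib.GroupTheory.Sylow

/-!
What the block half of the recognition of `U₃(4)` (automiser of order 15) uses about the group.
-/

set_option autoImplicit false

namespace Cfsg.Agent.U34Block

universe u

variable {G : Type u} [Group G]

/-- The core of the centraliser of an element, in the group itself. -/
def oddPart (y : G) : Subgroup G :=
  (Cfsg.pPrimeCore 2 (Subgroup.centralizer ({y} : Set G))).map
    (Subgroup.centralizer ({y} : Set G)).subtype

/-- A Sylow 2-subgroup of the type of `U₃(4)`, with one class of involutions and one of elements of order 4, and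
an element of odd order acting on it with order 5 inside the centraliser of an involution. -/
structure Cfg (S : Sylow 2 G) (z : G) : Prop where
  card : Nat.card (S : Subgroup G) = 64
  pow_four : ∀ x ∈ (S : Subgroup G), x ^ 4 = 1
  four : Nat.card {x : G // x ∈ (S : Subgroup G) ∧ x * x = 1} = 4
  central : ∀ x ∈ (S : Subgroup G), x * x = 1 → ∀ y ∈ (S : Subgroup G), x * y = y * x
  zmem : z ∈ (S : Subgroup G)
  zord : orderOf z = 2
  invol : ∀ u : G, orderOf u = 2 → IsConj z u
  conjFour : ∀ u v : G, orderOf u = 4 → orderOf v = 4 → IsConj u v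
  comm : ∀ x ∈ (S : Subgroup G), x * x ≠ 1 → ∀ w ∈ (S : Subgroup G), w * w = 1 →
    ∃ y ∈ (S : Subgroup G), y * x * y⁻¹ = x * w
  cenFour : ∀ x ∈ (S : Subgroup G), x * x ≠ 1 → ∀ g : G, g * x = x * g →
    ∃ o ∈ oddPart x, o⁻¹ * g ∈ (S : Subgroup G)
  five : ∃ c : G, Odd (orderOf c) ∧ c * z = z * c ∧ (∀ y ∈ (S : Subgroup G), c * y * c⁻¹ ∈ (S : Subgroup G)) ∧
    c ^ 5 ∈ oddPart z ∧ (∀ y ∈ (S : Subgroup G), c * y = y * c ↔ y * y = 1) ∧
    ∀ g : G, g * z = z * g → ∃ o ∈ oddPart z, ∃ y ∈ (S : Subgroup G), ∃ i : ℕ, g = o * y * c ^ i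

end Cfsg.Agent.U34Block
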