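import Cfsg.Agent.Lib.U34Rec.BlockSearch

/-!
A checker for certificates that a list of units has no solution: congruences modulo powers of 2 and the
splitting of an identity by bounds for the `|M|`.
-/

namespace Cfsg.Agent.U34Block

/-- A unit with lower bounds for a nonnegative and for a nonpositive `M`. -/
structure Slot where
  u : Un
  lp : ℕ
  ln : ℕ

/-- The values of `M` allowed at a slot. -/
def Slot.ok (w : Slot) (M : ℤ) : Bool :=
  w.u.ok M &&
    match M with
    | .ofNat k => Nat.ble w.lp k && (!Nat.beq k 0 || Nat.beq w.ln 0)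
    | .negSucc k => Nat.ble w.ln (k + 1)

/-- The sums still to be met: three integers and two fractions with one denominator. -/
structure Goal3 where
  L0 : ℤ
  L1 : ℤ
  L2 : ℤ
  p0 : ℤ
  p1 : ℤ
  D : ℕ

/-- A list of slots with what is to be met. -/
abbrev Job : Type := List Slot × Goal3

/-- Fixing the value at one unit. -/
def Goal3.step (s : Goal3) (u : Un) (M : ℤ) : Goal3 :=
  ⟨s.L0 - u.n * u.r0 * M, s.L1 - u.n * u.S * M, s.L2 - u.n * u.e * M,
    s.p0 * (u.F M).natAbs - u.c0 * (u.F M).sign * s.D, s.p1 * (u.F M).natAbs - u.c1 * (u.F M).sign * s.D,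
    s.D * (u.F M).natAbs⟩

/-- A combination of the five sums. -/
structure Comb5 where
  a : ℤ
  b : ℤ
  c : ℤ
  x : ℤ
  y : ℤ

/-- Certificates for the nonexistence of solutions of a list of jobs. -/
inductive Tree where
  | nil
  | cons (hd tl : Tree)
  | cong (P s : ℕ) (v : Comb5) (per : List (ℕ × ℤ))
  | solve (a b c : ℤ) (i : ℕ) (kid : Tree)
  | split (la mu : ℤ) (bounds : List (ℕ × ℕ)) (kids : Tree)

/-- The coefficient of `M` in a combination. -/
def Un.lin (u : Un) (a b c : ℤ) : ℤ := u.n * (a * u.r0 + b * u.S + c * u.e)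

/-- A combination of the coefficients in the identities. -/
def Un.comb (u : Un) (x y : ℤ) : ℤ := x * u.c0 + y * u.c1

/-- At every `M` the contribution of a unit is `k` modulo `2 ^ P`. -/
def unitCong (P : ℕ) (v : Comb5) (u : Un) (tk : ℕ × ℤ) : Bool :=
  match tk with
  | (t, k) =>
    let m : ℤ := (2 ^ P : ℕ)
    let T : ℤ := (2 ^ t : ℕ)
    let K' := u.K / T
    let q : ℤ := (2 ^ (6 - t) : ℕ)
    let l := u.lin v.a v.b v.c
    let w := u.comb v.x v.y
    Nat.ble t 5 && decide (u.K % T = 0) && decide (K' % 2 = 1) && decide (w % T = 0) &&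
      decide ((2 * (q * l)) % m = 0) && decide ((q * l + (K' * l - q * k)) % m = 0) &&
      decide ((w / T - K' * k) % m = 0)

/-- All units are checked against their constants. -/
def congList (P : ℕ) (v : Comb5) : List Slot → List (ℕ × ℤ) → Bool
  | [], [] => true
  | w :: ws, tk :: per => unitCong P v w.u tk && congList P v ws per
  | _, _ => false

/-- The congruence excludes the sums to be met. -/
def congTest (P s : ℕ) (v : Comb5) (per : List (ℕ × ℤ)) (j : Job) : Bool :=
  congList P v j.1 per && decide ((j.2.D : ℤ) % (2 ^ s : ℕ) = 0) &&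
    !decide (((v.a * j.2.L0 + v.b * j.2.L1 + v.c * j.2.L2 - (per.map Prod.snd).sum) * j.2.D +
      (v.x * j.2.p0 + v.y * j.2.p1)) % (2 ^ (P + s) : ℕ) = 0)

/-- The least degree at a slot on one side. -/
def Slot.least (w : Slot) : Bool → ℕ
  | true =>
    if decide (0 < w.u.F w.lp) && w.u.ok w.lp then (w.u.F w.lp).natAbs
    else Nat.max 1 (w.u.F (w.lp + 1)).toNat
  | false =>
    if decide (w.u.F (-(w.ln : ℤ)) < 0) && w.u.ok (-(w.ln : ℤ)) then (w.u.F (-(w.ln : ℤ))).natAbs
    else Nat.max 1 (-(w.u.F (-(w.ln : ℤ) - 1))).toNat

/-- The largest possible sum of a combination of the identities, as a fraction. -/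
def top (la mu : ℤ) : List Slot → ℕ × ℕ
  | [] => (0, 1)
  | w :: ws => match w.u.comb la mu, top la mu ws with
    | .ofNat c, (N, D) => if Nat.beq c 0 then (N, D)
        else forceN (w.least true) fun l => forceN (N * l + c * D) fun N' => forceN (D * l) fun D' => (N', D')
    | .negSucc c, (N, D) =>
        forceN (w.least false) fun l => forceN (N * l + (c + 1) * D) fun N' => forceN (D * l) fun D' => (N', D')

/-- Raising the bounds. -/
def Slot.raise (w : Slot) (b : ℕ × ℕ) : Slot := ⟨w.u, Nat.max w.lp b.1, Nat.max w.ln b.2⟩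

/-- Raising all bounds. -/
def raiseAll : List Slot → List (ℕ × ℕ) → List Slot
  | w :: ws, b :: bs => w.raise b :: raiseAll ws bs
  | ws, _ => ws

/-- Equality of slots with their new bounds. -/
def sameSlot (x y : Slot × (ℕ × ℕ)) : Bool :=
  x.1.u.same y.1.u && Nat.beq x.1.lp y.1.lp && Nat.beq x.1.ln y.1.ln && Nat.beq x.2.1 y.2.1 && Nat.beq x.2.2 y.2.2

/-- The values of `M` at a slot outside new bounds. -/
def outside (w : Slot) (b : ℕ × ℕ) : List ℤ :=
  ((List.range (b.1 - w.lp)).map fun i => Int.ofNat (w.lp + i)) ++
    ((List.range (b.2 - w.ln)).filterMap fun i =>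
      if Nat.beq (w.ln + i) 0 && Nat.blt 0 b.1 && Nat.beq w.lp 0 then none else some (Int.negOfNat (w.ln + i)))

/-- The jobs left by new bounds: the first unit outside them gets its value. -/
def kidsOf (s : Goal3) : List (Slot × (ℕ × ℕ)) → List Slot → List Slot → List (ℕ × ℕ) → List Job
  | orig, pre, w :: ws, b :: bs =>
    (if orig.any (fun o => sameSlot o (w, b)) then []
     else ((outside w b).filter fun M => w.ok M).map fun M => (pre.reverseAux ws, s.step w.u M)) ++
      kidsOf s ((w, b) :: orig) (w.raise b :: pre) ws bs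
  | _, _, _, _ => []

/-- The bounds fit and no value within them reaches the combination. -/
def splitTest (la mu : ℤ) (bounds : List (ℕ × ℕ)) (j : Job) : Bool :=
  Nat.beq bounds.length j.1.length &&
    match top la mu (raiseAll j.1 bounds) with
    | (N, D) => decide ((N : ℤ) * j.2.D < (la * j.2.p0 + mu * j.2.p1) * D)

/-- The job left by solving for the single unit in a combination of the linear forms. -/
def solveKids (a b c : ℤ) (i : ℕ) (j : Job) : Option (List Job) :=
  match j.1.splitAt i with
  | (pre, w :: post) =>
    if !decide (w.u.lin a b c = 0) && (pre ++ post).all (fun v => decide (v.u.lin a b c = 0)) then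
      let z := a * j.2.L0 + b * j.2.L1 + c * j.2.L2
      let M := z / w.u.lin a b c
      if decide (z % w.u.lin a b c = 0) && w.ok M then some [(pre ++ post, j.2.step w.u M)] else some []
    else none
  | _ => none

/-- Checking a certificate. -/
def Tree.check : Tree → List Job → Bool
  | .nil, js => js.isEmpty
  | .cons hd tl, js => match js with
    | [] => false
    | j :: js => hd.check [j] && tl.check js
  | .cong P s v per, js => match js with
    | [j] => congTest P s v per j
    | _ => false
  | .solve a b c i kid, js => match js with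
    | [j] => match solveKids a b c i j with
      | some ks => kid.check ks
      | none => false
    | _ => false
  | .split la mu bounds kids, js => match js with
    | [j] => splitTest la mu bounds j && kids.check (kidsOf j.2 [] [] j.1 bounds)
    | _ => false

/-- The start. -/
def rootJob (us : List Un) : Job := (us.map fun u => ⟨u, 0, 0⟩, ⟨3, 12, -1, -1, -4, 1⟩)

end Cfsg.Agent.U34Block
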