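import Cfsg.Agent.Lib.U34Rec.Shape
import Cfsg.Agent.Lib.U34Rec.BlockSetup
import Cfsg.Agent.Lib.Transfer.Basic
import Cfsg.Agent.Lib.ClassBound.Main
import Mathlib.GroupTheory.Transfer

/-!
A Sylow 2-subgroup of the type of `U₃(4)`: the centraliser of an element of order four is 2-nilpotent.
-/

set_option autoImplicit false
set_option linter.style.haveILetI false
set_option linter.unusedSectionVars false

namespace Cfsg.Agent.U34Group

open Subgroup
open Cfsg.Agent.U34Block (oddPart)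

universe u

variable {G : Type u} [Group G]

/-- The square roots of `1` in `S`. -/
def Zs (S : Subgroup G) : Subgroup G := Subgroup.closure {x | x ∈ S ∧ x * x = 1}

/-- An element of odd order fixing its own commutator with `b`, an involution, fixes `b`. -/
theorem fix_of_sq {n b : G} {k : ℕ} (hk : Odd k) (hn : n ^ k = 1)
    (hd : n * b * n⁻¹ * b⁻¹ * (n * b * n⁻¹ * b⁻¹) = 1)
    (hfix : n * (n * b * n⁻¹ * b⁻¹) * n⁻¹ = n * b * n⁻¹ * b⁻¹) : n * b * n⁻¹ = b := by
  have key : ∀ j : ℕ, n ^ j * b * (n ^ j)⁻¹ = (n * b * n⁻¹ * b⁻¹) ^ j * b := by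
    intro j
    induction j with
    | zero => simp
    | succ j ih =>
      calc n ^ (j + 1) * b * (n ^ (j + 1))⁻¹ = n * (n ^ j * b * (n ^ j)⁻¹) * n⁻¹ := by rw [pow_succ']; group
        _ = (n * (n * b * n⁻¹ * b⁻¹) * n⁻¹) ^ j * (n * b * n⁻¹) := by rw [ih, conj_pow]; group
        _ = (n * b * n⁻¹ * b⁻¹) ^ (j + 1) * b := by rw [hfix, pow_succ]; group
  have h := key k
  rw [hn, one_mul, inv_one, mul_one] at h
  obtain ⟨i, hi⟩ := hk
  rw [hi, pow_succ, pow_mul, pow_two, hd, one_pow, one_mul] at h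
  exact mul_inv_eq_one.1 (right_eq_mul.1 h)

/-- A maximal 2-subgroup given by a bound on the orders of all of them is a Sylow 2-subgroup. -/
theorem exists_sylow_of_bound [Finite G] {P : Subgroup G} (hP : IsPGroup 2 P)
    (hb : ∀ R : Subgroup G, IsPGroup 2 R → Nat.card R ≤ Nat.card P) :
    ∃ Q : Sylow 2 G, (Q : Subgroup G) = P := by
  obtain ⟨Q, hQ⟩ := hP.exists_le_sylow
  exact ⟨Q, (Subgroup.eq_of_le_of_card_ge hQ (hb _ Q.2)).symm⟩

/-- A factor of coprime order is a power of the product. -/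
theorem split_left_pow {X : Type*} [Group X] {n a b : X} (hab : a * b = n) (hc : Commute a b)
    (hco : (orderOf b).Coprime (orderOf a)) : ∃ i : ℕ, n ^ i = a := by
  obtain ⟨m, hm⟩ := exists_pow_eq_self_of_coprime hco
  exact ⟨orderOf b * m, by rw [pow_mul, ← hab, hc.mul_pow, pow_orderOf_eq_one b, mul_one, hm]⟩

/-- Splitting off the 2-part, as powers. -/
theorem exists_two_split {X : Type*} [Group X] [Finite X] (n : X) :
    ∃ a b : X, ((∃ k, orderOf a = 2 ^ k) ∧ a * b = n) ∧ (∃ i, n ^ i = a) ∧ (∃ j, n ^ j = b) ∧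
      Odd (orderOf b) := by
  haveI : Fact (Nat.Prime 2) := ⟨Nat.prime_two⟩
  obtain ⟨a, b, hab, hc, ⟨i, hi⟩, hb, -⟩ := ClassBound.exists_split (p := 2) n
  have hb' : Odd (orderOf b) := by rwa [Nat.odd_iff, ← Nat.two_dvd_ne_zero]
  have hco : (orderOf a).Coprime (orderOf b) := by
    rw [hi]; exact (Nat.coprime_two_left.2 hb').pow_left i
  exact ⟨a, b, ⟨⟨i, hi⟩, hab⟩, split_left_pow hab hc hco.symm,
    split_left_pow (hc.eq ▸ hab) hc.symm hco, hb'⟩

section Shape

variable {S : Subgroup G} (hS : Shape S)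
include hS

theorem mem_Zs {x : G} : x ∈ Zs S ↔ x ∈ S ∧ x * x = 1 := by
  refine ⟨fun hx => ?_, fun hx => subset_closure hx⟩
  induction hx using Subgroup.closure_induction with
  | mem y hy => exact hy
  | one => exact ⟨one_mem _, one_mul 1⟩
  | mul a b _ _ ha hb =>
    refine ⟨mul_mem ha.1 hb.1, ?_⟩
    rw [show a * b * (a * b) = a * (b * a) * b by group, ← hS.central a ha.1 ha.2 b hb.1,
      show a * (a * b) * b = a * a * (b * b) by group, ha.2, hb.2, one_mul]
  | inv a _ ha => exact ⟨inv_mem ha.1, by rw [← mul_inv_rev, ha.2, inv_one]⟩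

theorem Zs_le : Zs S ≤ S := fun _ hx => ((mem_Zs hS).1 hx).1

theorem card_Zs : Nat.card (Zs S) = 4 := by
  rw [← hS.four]
  exact Nat.card_congr (Equiv.subtypeEquivRight fun x => mem_Zs hS)

theorem Zs_comm {w y : G} (hw : w ∈ Zs S) (hy : y ∈ S) : w * y = y * w :=
  hS.central w ((mem_Zs hS).1 hw).1 ((mem_Zs hS).1 hw).2 y hy

theorem sq_mem_Zs {x : G} (hx : x ∈ S) : x * x ∈ Zs S :=
  (mem_Zs hS).2 ⟨mul_mem hx hx, hS.sq x hx⟩

theorem comm_mem_Zs {x y : G} (hx : x ∈ S) (hy : y ∈ S) : x * y * x⁻¹ * y⁻¹ ∈ Zs S :=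
  (mem_Zs hS).2 ⟨mul_mem (mul_mem (mul_mem hx hy) (inv_mem hx)) (inv_mem hy), hS.commV x hx y hy⟩

/-- The centraliser in `S` of an element outside `Z` has order 16. -/
theorem card_cen {x : G} (hx : x ∈ S) (hx2 : x * x ≠ 1) [Finite G] :
    Nat.card ↥(S ⊓ centralizer ({x} : Set G)) = 16 := by
  let f : ↥S →* ↥(Zs S) :=
    { toFun := fun y => ⟨(y : G) * x * (y : G)⁻¹ * x⁻¹, comm_mem_Zs hS y.2 hx⟩
      map_one' := Subtype.ext (by simp)
      map_mul' := fun a b => Subtype.ext (by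
        show ((a * b : ↥S) : G) * x * ((a * b : ↥S) : G)⁻¹ * x⁻¹ =
          (a : G) * x * (a : G)⁻¹ * x⁻¹ * ((b : G) * x * (b : G)⁻¹ * x⁻¹)
        rw [show ((a * b : ↥S) : G) * x * ((a * b : ↥S) : G)⁻¹ * x⁻¹ =
            (a : G) * ((b : G) * x * (b : G)⁻¹ * x⁻¹) * (a : G)⁻¹ * ((a : G) * x * (a : G)⁻¹ * x⁻¹) by
              push_cast; group,
          ← Zs_comm hS (comm_mem_Zs hS b.2 hx) a.2, mul_inv_cancel_right]
        exact Zs_comm hS (comm_mem_Zs hS b.2 hx)
          (mul_mem (mul_mem (mul_mem a.2 hx) (inv_mem a.2)) (inv_mem hx))) }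
  have hf : Function.Surjective f := fun w => by
    obtain ⟨hw, hw2⟩ := (mem_Zs hS).1 w.2
    obtain ⟨y, hy, e⟩ := hS.comm x hx hx2 w hw hw2
    exact ⟨⟨y, hy⟩, Subtype.ext (by
      show y * x * y⁻¹ * x⁻¹ = w
      rw [e, show x * (w : G) = w * x from (Zs_comm hS w.2 hx).symm, mul_inv_cancel_right])⟩
  have h1 := Subgroup.card_mul_index f.ker
  rw [index_ker, MonoidHom.range_eq_top.2 hf, Subgroup.card_top, card_Zs hS, hS.card] at h1
  have h2 : Nat.card f.ker = Nat.card ↥(S ⊓ centralizer ({x} : Set G)) := Nat.card_congr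
    { toFun := fun y => ⟨y.1.1, Subgroup.mem_inf.2 ⟨y.1.2, mem_centralizer_singleton_iff.2 (by
        have h3 : (y.1 : G) * x * (y.1 : G)⁻¹ * x⁻¹ = 1 := congrArg Subtype.val (MonoidHom.mem_ker.1 y.2)
        exact (mul_inv_eq_iff_eq_mul.1 (mul_inv_eq_one.1 h3)))⟩⟩
      invFun := fun y => ⟨⟨y.1, y.2.1⟩, MonoidHom.mem_ker.2 (Subtype.ext (by
        show (y.1 : G) * x * (y.1 : G)⁻¹ * x⁻¹ = 1
        rw [mem_centralizer_singleton_iff.1 y.2.2, mul_inv_cancel_right, mul_inv_cancel]))⟩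
      left_inv := fun y => rfl
      right_inv := fun y => rfl }
  omega

/-- and is abelian. -/
theorem cen_comm {x a b : G} (hx : x ∈ S) (hx2 : x * x ≠ 1) (ha : a ∈ S) (hax : a * x = x * a)
    (hb : b ∈ S) (hbx : b * x = x * b) [Finite G] : a * b = b * a := by
  set B := S ⊓ centralizer ({x} : Set G) with hB
  have hbB : b ∈ B := ⟨hb, mem_centralizer_singleton_iff.2 hbx⟩
  by_cases h1 : a ∈ Zs S
  · exact Zs_comm hS h1 hb
  by_cases h2 : x⁻¹ * a ∈ Zs S
  · rw [show a = x * (x⁻¹ * a) by group, mul_assoc, Zs_comm hS h2 hb, ← mul_assoc, ← hbx, mul_assoc]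
  set C := B ⊓ centralizer ({a} : Set G) with hC
  have hZC : ∀ w ∈ Zs S, w ∈ C := fun w hw =>
    ⟨⟨Zs_le hS hw, mem_centralizer_singleton_iff.2 (Zs_comm hS hw hx)⟩,
      mem_centralizer_singleton_iff.2 (Zs_comm hS hw ha)⟩
  have hxC : x ∈ C := ⟨⟨hx, mem_centralizer_singleton_iff.2 rfl⟩, mem_centralizer_singleton_iff.2 hax.symm⟩
  have haC : a ∈ C := ⟨⟨ha, mem_centralizer_singleton_iff.2 hax⟩, mem_centralizer_singleton_iff.2 rfl⟩
  have hxZ : x ∉ Zs S := fun h => hx2 ((mem_Zs hS).1 h).2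
  have hinj : Function.Injective (fun p : (Zs S) × Fin 3 =>
      (⟨(![1, x, a] p.2 : G) * p.1, by
        obtain ⟨w, i⟩ := p
        fin_cases i
        · exact mul_mem (one_mem _) (hZC _ w.2)
        · exact mul_mem hxC (hZC _ w.2)
        · exact mul_mem haC (hZC _ w.2)⟩ : C)) := by
    rintro ⟨w, i⟩ ⟨w', i'⟩ e
    have e' : (![1, x, a] i : G) * w = ![1, x, a] i' * w' := congrArg Subtype.val e
    have h3 : (![1, x, a] i' : G)⁻¹ * ![1, x, a] i ∈ Zs S := by
      have : (![1, x, a] i' : G)⁻¹ * ![1, x, a] i = w' * (w : G)⁻¹ := by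
        calc (![1, x, a] i' : G)⁻¹ * ![1, x, a] i
            = (![1, x, a] i' : G)⁻¹ * (![1, x, a] i * w) * (w : G)⁻¹ := by group
          _ = _ := by rw [e']; group
      rw [this]; exact mul_mem w'.2 (inv_mem w.2)
    have hi : i = i' := by
      have hax' : a⁻¹ * x ∉ Zs S := fun h => h2 (by simpa using inv_mem h)
      fin_cases i <;> fin_cases i' <;> first | rfl | (exfalso; simp at h3; tauto)
    subst hi
    exact Prod.ext (Subtype.ext (mul_left_cancel e')) rfl
  have h3 := Nat.card_le_card_of_injective _ hinj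
  rw [Nat.card_prod, card_Zs hS, Nat.card_fin] at h3
  have h4 : C = B := by
    refine Subgroup.eq_of_le_of_card_ge inf_le_left ?_
    have h5 := Subgroup.card_dvd_of_le (inf_le_left : C ≤ B)
    have hB16 : Nat.card B = 16 := card_cen hS hx hx2
    rw [hB16] at h5 ⊢
    obtain ⟨k, -, hk⟩ := (Nat.dvd_prime_pow Nat.prime_two (m := 4)).1 (show Nat.card C ∣ 2 ^ 4 from h5)
    rw [hk] at h3 ⊢
    by_contra h6
    have : k ≤ 3 := by
      by_contra h7
      exact h6 (le_trans (by norm_num) (Nat.pow_le_pow_right two_pos (show 4 ≤ k by omega)))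
    have := Nat.pow_le_pow_right (n := 2) two_pos this
    omega
  exact (mem_centralizer_singleton_iff.1 ((h4.symm ▸ hbB : b ∈ C)).2).symm

end Shape

variable [Finite G] {S : Sylow 2 G} (hS : Shape (S : Subgroup G))
include hS

theorem exists_conj_into {R : Subgroup G} (hR : IsPGroup 2 R) :
    ∃ g : G, ∀ r ∈ R, g * r * g⁻¹ ∈ (S : Subgroup G) := by
  haveI : Fact (Nat.Prime 2) := ⟨Nat.prime_two⟩
  obtain ⟨Q, hQ⟩ := hR.exists_le_sylow
  obtain ⟨g, hg⟩ := MulAction.exists_smul_eq G Q S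
  refine ⟨g, fun r hr => ?_⟩
  rw [← hg, Sylow.smul_def, Sylow.pointwise_smul_def]
  exact Subgroup.smul_mem_pointwise_smul _ _ _ (hQ hr)

/-- A 2-group of involutions has order at most four. -/
theorem card_le_four {R : Subgroup G} (hR : ∀ r ∈ R, r * r = 1) : Nat.card R ≤ 4 := by
  obtain ⟨g, hg⟩ := exists_conj_into hS (R := R) fun r => ⟨1, by
    rw [pow_one, pow_two]; exact Subtype.ext (hR r r.2)⟩
  rw [← card_Zs hS]
  refine Nat.card_le_card_of_injective (fun r : R => (⟨g * r * g⁻¹, (mem_Zs hS).2 ⟨hg r r.2, by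
    rw [conj_mul, hR r r.2, mul_one, mul_inv_cancel]⟩⟩ : Zs (S : Subgroup G))) fun a b e => Subtype.ext ?_
  exact mul_left_cancel (mul_right_cancel (congrArg Subtype.val e))

/-- A 2-group centralising an element of order four has order at most 16. -/
theorem card_le_sixteen {x : G} (hx : x ∈ (S : Subgroup G)) (hx2 : x * x ≠ 1) {R : Subgroup G}
    (hR : IsPGroup 2 R) (hRx : R ≤ centralizer ({x} : Set G)) : Nat.card R ≤ 16 := by
  haveI : Fact (Nat.Prime 2) := ⟨Nat.prime_two⟩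
  have hxp : IsPGroup 2 (zpowers x) := S.isPGroup'.to_le (zpowers_le.2 hx)
  obtain ⟨g, hg⟩ := exists_conj_into hS (R := R ⊔ zpowers x) (hR.to_sup_of_normal_right'
    hxp fun r hr => mem_normalizer_of_cj' hr) 
  have hx' : g * x * g⁻¹ ∈ (S : Subgroup G) := hg x (mem_sup_right (mem_zpowers x))
  have hx2' : g * x * g⁻¹ * (g * x * g⁻¹) ≠ 1 := fun e => hx2 (by
    rw [conj_mul, mul_inv_eq_one, mul_eq_left] at e; exact e)
  rw [← card_cen hS hx' hx2']
  refine Nat.card_le_card_of_injective (fun r : R =>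
    (⟨g * r * g⁻¹, hg r (mem_sup_left r.2), mem_centralizer_singleton_iff.2 (by
      rw [conj_mul, conj_mul, mem_centralizer_singleton_iff.1 (hRx r.2)])⟩ :
      ↥((S : Subgroup G) ⊓ centralizer ({g * x * g⁻¹} : Set G)))) fun a b e => Subtype.ext ?_
  exact mul_left_cancel (mul_right_cancel (congrArg Subtype.val e))
where
  mem_normalizer_of_cj' {r : G} (hr : r ∈ R) : r ∈ normalizer (zpowers x : Set G) := by
    refine mem_normalizer_iff.2 fun y => ?_
    have h1 : ∀ y ∈ zpowers x, r * y * r⁻¹ = y := by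
      rintro _ ⟨i, rfl⟩
      rw [← conj_zpow, mem_centralizer_singleton_iff.1 (hRx hr), mul_inv_cancel_right]
    refine ⟨fun hy => by rwa [h1 y hy], fun hy => ?_⟩
    have h2 : r⁻¹ * (r * y * r⁻¹) * r⁻¹⁻¹ = r * y * r⁻¹ := by
      conv_lhs => rw [← h1 _ hy]
      group
    rw [show r⁻¹ * (r * y * r⁻¹) * r⁻¹⁻¹ = y by group] at h2
    rwa [h2]

/-- An element of odd order normalising `Z` and fixing an element of `Z#` centralises `Z`. -/
theorem fix_Zs {n : G} (hn : Odd (orderOf n)) (hnZ : n ∈ normalizer (Zs (S : Subgroup G) : Set G))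
    {z : G} (hz : z ∈ Zs (S : Subgroup G)) (hz1 : z ≠ 1) (hfix : n * z * n⁻¹ = z) :
    ∀ w ∈ Zs (S : Subgroup G), n * w * n⁻¹ = w := by
  intro w hw
  have hz2 : z * z = 1 := ((mem_Zs hS).1 hz).2
  have hnw := (mem_normalizer_iff.1 hnZ w).1 hw
  have hw2 : w * w = 1 := ((mem_Zs hS).1 hw).2
  by_cases h1 : w = 1
  · simp [h1]
  by_cases h2 : w = z
  · rw [h2, hfix]
  by_cases h3 : n * w * n⁻¹ = w
  · exact h3
  -- the fourth element is `z * w`
  have h4 : n * w * n⁻¹ = z * w := by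
    by_contra h5
    have hcard := card_Zs hS
    have e1 : z * w ≠ 1 := fun e => h2 (by rw [eq_inv_of_mul_eq_one_right e, inv_eq_of_mul_eq_one_right hz2])
    have e2 : z * w ≠ z := fun e => h1 (mul_eq_left.1 e)
    have e3 : z * w ≠ w := fun e => hz1 (mul_eq_right.1 e)
    have e4 : n * w * n⁻¹ ≠ 1 := fun e => h1 (by
      rw [mul_inv_eq_one, mul_eq_left] at e; exact e)
    have e5 : n * w * n⁻¹ ≠ z := fun e => h2 (by
      rw [← hfix] at e
      exact mul_left_cancel (mul_right_cancel e))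
    have h6 : ({n * w * n⁻¹, z * w, w, z, 1} : Set G) ⊆ (Zs (S : Subgroup G) : Set G) := by
      intro y hy
      simp only [Set.mem_insert_iff, Set.mem_singleton_iff] at hy
      rcases hy with rfl | rfl | rfl | rfl | rfl
      exacts [hnw, mul_mem hz hw, hw, hz, one_mem _]
    have h7 : ({n * w * n⁻¹, z * w, w, z, 1} : Set G).ncard = 5 := by
      rw [Set.ncard_insert_of_notMem (by simp [h5, h3, e4, e5]),
        Set.ncard_insert_of_notMem (by simp [e1, e2, e3]),
        Set.ncard_insert_of_notMem (by simp [h1, h2]), Set.ncard_pair hz1]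
    have h8 := Set.ncard_le_ncard h6 (Set.toFinite _)
    rw [h7, ← Nat.card_coe_set_eq] at h8
    have h9 : 5 ≤ Nat.card (Zs (S : Subgroup G)) := h8
    omega
  refine fix_of_sq hn (pow_orderOf_eq_one n) ?_ ?_ <;> rw [h4, mul_inv_cancel_right]
  · exact hz2
  · exact hfix

/-- An element of odd order fixing `Z` and normalising an abelian subgroup of `S` centralises it. -/
theorem fix_abelian {n : G} (hn : Odd (orderOf n)) (hfix : ∀ w ∈ Zs (S : Subgroup G), n * w * n⁻¹ = w)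
    {B : Subgroup G} (hBS : B ≤ (S : Subgroup G)) (hBc : ∀ a ∈ B, ∀ b ∈ B, a * b = b * a)
    (hnB : ∀ b ∈ B, n * b * n⁻¹ ∈ B) {b : G} (hb : b ∈ B) : n * b * n⁻¹ = b := by
  have hd : n * b * n⁻¹ * b⁻¹ * (n * b * n⁻¹ * b⁻¹) = 1 := by
    rw [show n * b * n⁻¹ * b⁻¹ * (n * b * n⁻¹ * b⁻¹) = n * b * n⁻¹ * (b⁻¹ * (n * b * n⁻¹)) * b⁻¹ by group,
      hBc _ (inv_mem hb) _ (hnB b hb), show n * b * n⁻¹ * (n * b * n⁻¹ * b⁻¹) * b⁻¹ =
        n * (b * b) * n⁻¹ * (b * b)⁻¹ by group, hfix _ (sq_mem_Zs hS (hBS hb)), mul_inv_cancel]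
  exact fix_of_sq hn (pow_orderOf_eq_one n) hd
    (hfix _ ((mem_Zs hS).2 ⟨hBS (mul_mem (hnB b hb) (inv_mem hb)), hd⟩))

/-- The centraliser of an element of order four is 2-nilpotent. -/
theorem cen_four {x : G} (hx : x ∈ (S : Subgroup G)) (hx2 : x * x ≠ 1) {g : G} (hg : g * x = x * g) :
    ∃ o ∈ oddPart x, o⁻¹ * g ∈ (S : Subgroup G) := by
  classical
  haveI : Fact (Nat.Prime 2) := ⟨Nat.prime_two⟩
  set X := centralizer ({x} : Set G) with hX
  set B := (S : Subgroup G) ⊓ X with hB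
  have hBc : ∀ a ∈ B, ∀ b ∈ B, a * b = b * a := fun a ha b hb =>
    cen_comm hS hx hx2 ha.1 (mem_centralizer_singleton_iff.1 ha.2) hb.1 (mem_centralizer_singleton_iff.1 hb.2)
  obtain ⟨Q, hQ⟩ := exists_sylow_of_bound (P := B.subgroupOf X)
    ((S.isPGroup'.to_le inf_le_left).comap_of_injective X.subtype X.subtype_injective) fun R hR => by
      have hB16 : Nat.card B = 16 := card_cen hS hx hx2
      rw [Nat.card_congr (subgroupOfEquivOfLe (inf_le_right : B ≤ X)).toEquiv, hB16,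
        ← card_map_of_injective X.subtype_injective]
      exact card_le_sixteen hS hx hx2 (hR.map _) (map_subtype_le _)
  have hQm : ∀ y : X, y ∈ (Q : Subgroup X) ↔ (y : G) ∈ B := fun y => by rw [hQ, mem_subgroupOf]
  have hP : normalizer ((Q : Subgroup X) : Set X) ≤ centralizer ((Q : Subgroup X) : Set X) := by
    intro n hn
    obtain ⟨a, b, hab, ⟨i, hi⟩, ⟨j, hj⟩, hb⟩ := exists_two_split n
    have han : a ∈ normalizer ((Q : Subgroup X) : Set X) := hi ▸ pow_mem hn i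
    have hbn : b ∈ normalizer ((Q : Subgroup X) : Set X) := hj ▸ pow_mem hn j
    have haQ : a ∈ (Q : Subgroup X) := by
      have ha2 : IsPGroup 2 (zpowers a) := IsPGroup.of_card (n := hab.1.choose) (by
        rw [Nat.card_zpowers]; exact hab.1.choose_spec)
      have h1 := Q.3 ((Q.2).to_sup_of_normal_left' ha2 (zpowers_le.2 han)) le_sup_left
      exact h1 ▸ mem_sup_right (mem_zpowers a)
    have hbB : ∀ c ∈ normalizer ((Q : Subgroup X) : Set X), ∀ y ∈ B, (c : G) * y * (c : G)⁻¹ ∈ B := by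
      intro c hc y hy
      have h1 := (mem_normalizer_iff.1 hc ⟨y, hy.2⟩).1 ((hQm _).2 hy)
      exact (hQm _).1 h1
    have hbx : (b : G) * x * (b : G)⁻¹ = x := by
      rw [mem_centralizer_singleton_iff.1 b.2, mul_inv_cancel_right]
    have hbZ : ∀ c ∈ normalizer ((Q : Subgroup X) : Set X), ∀ w ∈ Zs (S : Subgroup G),
        (c : G) * w * (c : G)⁻¹ ∈ Zs (S : Subgroup G) := fun c hc w hw => by
      have h1 := hbB c hc w ⟨Zs_le hS hw, mem_centralizer_singleton_iff.2 (Zs_comm hS hw hx)⟩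
      exact (mem_Zs hS).2 ⟨h1.1, by
        rw [conj_mul, ((mem_Zs hS).1 hw).2, mul_one, mul_inv_cancel]⟩
    have hbN : (b : G) ∈ normalizer (Zs (S : Subgroup G) : Set G) := mem_normalizer_iff.2 fun w =>
      ⟨hbZ b hbn w, fun h => by
        have h1 := hbZ b⁻¹ (inv_mem hbn) _ h
        rwa [Subgroup.coe_inv, show (b : G)⁻¹ * ((b : G) * w * (b : G)⁻¹) * ((b : G)⁻¹)⁻¹ = w by group] at h1⟩
    have hbo : Odd (orderOf (b : G)) := by rw [orderOf_submonoid]; exact hb
    have hxx : (b : G) * (x * x) * (b : G)⁻¹ = x * x := by rw [← conj_mul, hbx]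
    have hbfix : ∀ y ∈ B, (b : G) * y * (b : G)⁻¹ = y := fun y hy =>
      fix_abelian hS hbo (fix_Zs hS hbo hbN (sq_mem_Zs hS hx) hx2 hxx) (B := B) inf_le_left hBc
        (hbB b hbn) hy
    refine mem_centralizer_iff.2 fun q hq => Subtype.ext ?_
    have h1 : (q : G) * b = b * q := by
      have h2 := hbfix _ ((hQm q).1 hq)
      rw [mul_inv_eq_iff_eq_mul] at h2
      exact h2.symm
    have h3 : (q : G) * a = a * q := hBc _ ((hQm q).1 hq) _ ((hQm a).1 haQ)
    show (q : G) * n = n * q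
    rw [← hab.2, Subgroup.coe_mul, ← mul_assoc, h3, mul_assoc, h1, mul_assoc]
  have hcompl := MonoidHom.ker_transferSylow_isComplement' Q hP
  set N := (MonoidHom.transferSylow Q hP).ker with hN
  have hNodd : (Nat.card N).Coprime 2 := by
    have h2 := Q.not_dvd_index
    rw [hN, ← hcompl.index_eq_card]
    exact (Nat.prime_two.coprime_iff_not_dvd.2 h2).symm
  obtain ⟨⟨⟨o, ho⟩, ⟨p, hp⟩⟩, hop⟩ := hcompl.existsUnique ⟨g, mem_centralizer_singleton_iff.2 hg⟩ |>.exists
  refine ⟨o, ⟨o, PBasic.le_pPrimeCore (MonoidHom.normal_ker _) hNodd ho, rfl⟩, ?_⟩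
  have e : (o : G) * p = g := congrArg Subtype.val hop
  rw [← e, inv_mul_cancel_left]
  exact ((hQm p).1 hp).1

end Cfsg.Agent.U34Group
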