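import Cfsg.Agent.Lib.U34Rec.BlockSetup
import Cfsg.Agent.Lib.Transfer.Basic
import Cfsg.Agent.Lib.Signalizer.SFT.Main
import Cfsg.Agent.Lib.OddChar.OddTheorem
import Cfsg.Agent.Lib.Involutions.StronglyEmbedded

/-!
An elementary abelian Sylow 2-subgroup of order at least eight, all of whose centralisers are 2-nilpotent
with Sylow subgroup in it, and with two classes of involutions: its normaliser and the odd core generate the
group.
-/

set_option autoImplicit false
set_option linter.style.haveILetI false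
set_option linter.unusedSectionVars false

namespace Cfsg.Agent.U34Group

open Subgroup
open Cfsg.Agent.U34Block (oddPart)

universe u

variable {G : Type u} [Group G] [Finite G]

theorem oddPart_le (a : G) : oddPart a ≤ centralizer ({a} : Set G) := map_subtype_le _

theorem oddPart_coprime (a : G) : (Nat.card (oddPart a)).Coprime 2 := by
  haveI : Fact (Nat.Prime 2) := ⟨Nat.prime_two⟩
  rw [show oddPart a = (Cfsg.pPrimeCore 2 (centralizer ({a} : Set G))).map
    (centralizer ({a} : Set G)).subtype from rfl, card_map_of_injective (Subgroup.subtype_injective _)]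
  exact PBasic.pPrimeCore_coprime 2 _

theorem oddPart_conj {a c n : G} (hc : c * a = a * c) (hn : n ∈ oddPart a) : c * n * c⁻¹ ∈ oddPart a := by
  haveI : Fact (Nat.Prime 2) := ⟨Nat.prime_two⟩
  obtain ⟨m, hm, rfl⟩ := hn
  exact ⟨⟨c, mem_centralizer_singleton_iff.2 hc⟩ * m * ⟨c, mem_centralizer_singleton_iff.2 hc⟩⁻¹,
    (FittingCores.pPrimeCore_normal 2).conj_mem _ hm _, rfl⟩

theorem le_oddPart {a : G} {N : Subgroup G} (hle : N ≤ centralizer ({a} : Set G))
    (hco : (Nat.card N).Coprime 2) (hn : ∀ c : G, c * a = a * c → ∀ n ∈ N, c * n * c⁻¹ ∈ N) :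
    N ≤ oddPart a := by
  intro n h
  refine ⟨⟨n, hle h⟩, PBasic.le_pPrimeCore (N := N.subgroupOf (centralizer ({a} : Set G))) ?_ ?_ h, rfl⟩
  · exact ⟨fun m hm c => hn _ (mem_centralizer_singleton_iff.1 c.2) _ hm⟩
  · rwa [Nat.card_congr (subgroupOfEquivOfLe hle).toEquiv]

theorem oddPart_odd {a n : G} (hn : n ∈ oddPart a) : Odd (orderOf n) := by
  refine Odd.of_dvd_nat ?_ (Subgroup.orderOf_dvd_natCard (oddPart a) hn)
  exact Nat.coprime_two_right.1 (oddPart_coprime a)

theorem oddPart_equivariant (g : G) {a n : G} (hn : n ∈ oddPart a) :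
    g * n * g⁻¹ ∈ oddPart (g * a * g⁻¹) := by
  refine le_oddPart (N := (oddPart a).map (MulAut.conj g).toMonoidHom) ?_ ?_ ?_ ⟨n, hn, rfl⟩
  · rintro _ ⟨m, hm, rfl⟩
    refine mem_centralizer_singleton_iff.2 ?_
    show g * m * g⁻¹ * (g * a * g⁻¹) = g * a * g⁻¹ * (g * m * g⁻¹)
    rw [conj_mul, conj_mul, mem_centralizer_singleton_iff.1 (oddPart_le a hm)]
  · rw [card_map_of_injective (MulAut.conj g).injective]
    exact oddPart_coprime a
  · rintro c hc _ ⟨m, hm, rfl⟩
    have hc' : g⁻¹ * c * g * a = a * (g⁻¹ * c * g) := by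
      calc g⁻¹ * c * g * a = g⁻¹ * (c * (g * a * g⁻¹)) * g := by group
        _ = _ := by rw [hc]; group
    exact ⟨g⁻¹ * c * g * m * (g⁻¹ * c * g)⁻¹, oddPart_conj hc' hm, by
      show g * (g⁻¹ * c * g * m * (g⁻¹ * c * g)⁻¹) * g⁻¹ = c * (g * m * g⁻¹) * c⁻¹
      group⟩

/-- With a strongly embedded subgroup all involutions are conjugate. -/
theorem isConj_of_se {H : Subgroup G} (hH : Cfsg.IsStronglyEmbedded H) {t t' : G} (ht : orderOf t = 2)
    (ht' : orderOf t' = 2) (htH : t ∈ H) (htH' : t' ∈ H) : IsConj t t' := by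
  obtain ⟨g, hg⟩ : ∃ g : G, g ∉ H := by
    by_contra h
    simp only [not_exists, not_not] at h
    exact hH.1 (eq_top_iff.2 fun x _ => h x)
  have hs : g * t * g⁻¹ ∉ H := fun h => hg (Invol.se_mem_of_conj hH ht htH h)
  have hso : orderOf (g * t * g⁻¹) = 2 := by rw [Invol.order_conj, ht]
  have key : ∀ y : G, orderOf y = 2 → y ∈ H → IsConj (g * t * g⁻¹) y := by
    intro y hy hyH
    rcases Nat.even_or_odd (orderOf ((g * t * g⁻¹) * y)) with he | ho
    · obtain ⟨h1, h2⟩ := Invol.half_commute hso hy he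
      have h3 := Invol.half_order hso hy he (orderOf_pos _)
      have h4 := Invol.se_centralizer_le hH hy hyH (mem_centralizer_singleton_iff.2 h2.eq)
      exact absurd (Invol.se_centralizer_le hH h3 h4 (mem_centralizer_singleton_iff.2 h1.eq.symm)) hs
    · obtain ⟨d, -, hd⟩ := Invol.conj_of_odd hso hy ho
      exact isConj_iff.2 ⟨d, hd⟩
  exact (key t ht htH).symm.trans (key t' ht' htH')

variable (T : Sylow 2 G)

/-- The conclusion of the signalizer functor argument. -/
theorem sylow_control (hT : Cfsg.IsElementaryAbelian 2 (T : Subgroup G))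
    (h8 : 8 ≤ Nat.card (T : Subgroup G))
    (hC : ∀ a ∈ (T : Subgroup G), a ≠ 1 → ∀ g : G, g * a = a * g →
      ∃ o ∈ oddPart a, o⁻¹ * g ∈ (T : Subgroup G))
    (h2 : ∃ a ∈ (T : Subgroup G), ∃ b ∈ (T : Subgroup G), a ≠ 1 ∧ b ≠ 1 ∧ ¬ IsConj a b) (g : G) :
    ∃ w ∈ Cfsg.pPrimeCore 2 G, w⁻¹ * g ∈ normalizer ((T : Subgroup G) : Set G) := by
  classical
  haveI : Fact (Nat.Prime 2) := ⟨Nat.prime_two⟩
  have hsq : ∀ a ∈ (T : Subgroup G), a * a = 1 := fun a ha => by
    rw [← pow_two]; exact hT.2 a ha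
  have hTc : ∀ a ∈ (T : Subgroup G), ∀ b ∈ (T : Subgroup G), a * b = b * a := fun a ha b hb => by
    haveI := hT.1
    exact congrArg Subtype.val (mul_comm' (⟨a, ha⟩ : (T : Subgroup G)) ⟨b, hb⟩)
  have hθ : IsSolvableSignalizerFunctor 2 (T : Subgroup G) oddPart := by
    refine ⟨⟨fun a _ _ => oddPart_le a, fun a _ _ hd => ?_, fun a ha _ b hb x hx =>
      oddPart_conj (hTc b hb a ha) hx, fun a ha _ b hb hb1 x hx => ?_⟩, fun a _ _ => ?_⟩
    · exact absurd (Nat.eq_one_of_dvd_coprimes (oddPart_coprime a) hd dvd_rfl) (by norm_num)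
    · obtain ⟨o, ho, hy⟩ := hC b hb hb1 x (mem_centralizer_singleton_iff.1 hx.2)
      have h1 : x * x ∈ oddPart b := by
        have e : x * x = o * ((o⁻¹ * x) * o * (o⁻¹ * x)⁻¹) * ((o⁻¹ * x) * (o⁻¹ * x)) := by group
        rw [e, hsq _ hy, mul_one]
        exact mul_mem ho (oddPart_conj (hTc _ hy b hb) ho)
      obtain ⟨k, hk⟩ := oddPart_odd hx.1
      have e : x = ((x * x) ^ k)⁻¹ := by
        refine eq_inv_of_mul_eq_one_left ?_
        rw [← pow_two, ← pow_mul, ← pow_succ', ← hk]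
        exact pow_orderOf_eq_one x
      rw [e]
      exact inv_mem (pow_mem h1 k)
    · exact OddChar.oddSolvable _ (Nat.coprime_two_right.1 (oddPart_coprime a))
  obtain ⟨hW, hWθ⟩ := Signalizer.SFT.iSup_props hT (by norm_num; omega) hθ
  set W := ⨆ a : {a : G // a ∈ (T : Subgroup G) ∧ a ≠ 1}, oddPart a.1 with hWdef
  set N := normalizer ((T : Subgroup G) : Set G) with hN
  have hNW : ∀ n ∈ N, ∀ w ∈ W, n * w * n⁻¹ ∈ W := by
    intro n hn
    have : W ≤ W.comap (MulAut.conj n).toMonoidHom := by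
      refine iSup_le fun a x hx => ?_
      show n * x * n⁻¹ ∈ W
      have hna : n * a.1 * n⁻¹ ∈ (T : Subgroup G) ∧ n * a.1 * n⁻¹ ≠ 1 :=
        ⟨(mem_normalizer_iff.1 hn _).1 a.2.1, fun e => a.2.2 (by
          rw [mul_inv_eq_one, mul_eq_left] at e; exact e)⟩
      exact mem_iSup_of_mem (⟨_, hna⟩ : {a : G // a ∈ (T : Subgroup G) ∧ a ≠ 1}) (oddPart_equivariant n hx)
    exact this
  have hNn : N ≤ normalizer (W : Set G) := fun n hn =>
    mem_normalizer_iff.2 fun w => ⟨hNW n hn w, fun h => by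
      have h1 := hNW n⁻¹ (inv_mem hn) _ h
      rwa [show n⁻¹ * (n * w * n⁻¹) * n⁻¹⁻¹ = w by group] at h1⟩
  set M := W ⊔ N with hM
  have hTN : (T : Subgroup G) ≤ N := le_normalizer
  have hTM : (T : Subgroup G) ≤ M := hTN.trans le_sup_right
  have hCM : ∀ a ∈ (T : Subgroup G), a ≠ 1 → centralizer ({a} : Set G) ≤ M := fun a ha ha1 c hc => by
    obtain ⟨o, ho, hy⟩ := hC a ha ha1 c (mem_centralizer_singleton_iff.1 hc)
    rw [show c = o * (o⁻¹ * c) by group]
    exact mul_mem (mem_sup_left (mem_iSup_of_mem (⟨a, ha, ha1⟩ : {a : G // a ∈ (T : Subgroup G) ∧ a ≠ 1}) ho))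
      (hTM hy)
  have htop : M = ⊤ := by
    by_contra hne
    obtain ⟨a, ha, b, hb, ha1, hb1, hab⟩ := h2
    have hmap : ((T.subtype hTM : Sylow 2 M) : Subgroup M).map M.subtype = (T : Subgroup G) := by
      rw [Sylow.coe_subtype, subgroupOf_map_subtype]
      exact inf_eq_left.2 hTM
    have heven : Even (Nat.card M) :=
      Invol.even_of_invol_mem (Invol.order_two_of_sq (hsq a ha) ha1) (hTM ha)
    have hSE : Cfsg.IsStronglyEmbedded M := by
      refine Invol.se_of_centralizers hne (T.subtype hTM) heven (by rw [hmap]; exact le_sup_right)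
        fun t htM ht c hc => ?_
      have hp : IsPGroup 2 (zpowers (⟨t, htM⟩ : M)) :=
        IsPGroup.of_card (n := 1) (by rw [Nat.card_zpowers, Subgroup.orderOf_mk, ht, pow_one])
      obtain ⟨T', hT'⟩ := hp.exists_le_sylow
      obtain ⟨m, hm⟩ := MulAction.exists_smul_eq M T' (T.subtype hTM)
      have h1 : (m : G) * t * (m : G)⁻¹ ∈ (T : Subgroup G) := by
        have h := Subgroup.smul_mem_pointwise_smul _ (MulAut.conj m) _ (hT' (mem_zpowers _))
        rw [← Sylow.pointwise_smul_def, ← Sylow.smul_def, hm] at h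
        rw [← hmap]
        exact ⟨_, h, rfl⟩
      have h1' : (m : G) * t * (m : G)⁻¹ ≠ 1 := fun e => Invol.ne_one ht (by
        rw [mul_inv_eq_one, mul_eq_left] at e; exact e)
      have h3 : (m : G) * c * (m : G)⁻¹ ∈ M := hCM _ h1 h1' (mem_centralizer_singleton_iff.2 (by
        rw [conj_mul, conj_mul, mem_centralizer_singleton_iff.1 hc]))
      rw [show c = (m : G)⁻¹ * ((m : G) * c * (m : G)⁻¹) * m by group]
      exact mul_mem (mul_mem (inv_mem m.2) h3) m.2
    exact hab (isConj_of_se hSE (Invol.order_two_of_sq (hsq a ha) ha1)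
      (Invol.order_two_of_sq (hsq b hb) hb1) (hTM ha) (hTM hb))
  have hWn : W.Normal := normalizer_eq_top_iff.1 (top_le_iff.1 (htop ▸ sup_le le_normalizer hNn))
  have hWO : W ≤ Cfsg.pPrimeCore 2 G :=
    PBasic.le_pPrimeCore hWn (Nat.prime_two.coprime_iff_not_dvd.2 hW.2.1).symm
  have hg : g ∈ W ⊔ N := hM ▸ htop ▸ mem_top g
  haveI := hWn
  obtain ⟨w, hw, n, hn, rfl⟩ := Subgroup.mem_sup_of_normal_left.1 hg
  exact ⟨w, hWO hw, by rwa [inv_mul_cancel_left]⟩

end Cfsg.Agent.U34Group
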