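import Cfsg.Agent.Lib.U34Rec.CenFour
import Cfsg.Agent.Lib.U34Rec.SylowControl
import Cfsg.Agent.Lib.McLTwoA8.Isolated

/-!
A Sylow 2-subgroup of the type of `U₃(4)`: the centraliser of an involution `z` is the odd core times
`N(S) ∩ C(Z)`.
-/

set_option autoImplicit false
set_option linter.style.haveILetI false
set_option linter.unusedSectionVars false

namespace Cfsg.Agent.U34Group

open Subgroup
open Cfsg.Agent.U34Block (oddPart)

universe u

/-- A central Sylow 2-subgroup: the odd elements form the odd core, and that is a complement. -/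
theorem of_central_sylow {H : Type*} [Group H] [Finite H] (Zn : Subgroup H) (hc : Zn ≤ center H)
    (hp : IsPGroup 2 Zn) (hi : ¬ 2 ∣ Zn.index) :
    (∀ b : H, Odd (orderOf b) → b ∈ Cfsg.pPrimeCore 2 H) ∧
      ∀ h : H, ∃ b ∈ Cfsg.pPrimeCore 2 H, b⁻¹ * h ∈ Zn := by
  classical
  haveI : Fact (Nat.Prime 2) := ⟨Nat.prime_two⟩
  set P : Sylow 2 H := hp.toSylow hi with hP0
  have hmem : ∀ x : H, x ∈ (P : Subgroup H) ↔ x ∈ Zn := fun x => Iff.rfl
  have hP : normalizer ((P : Subgroup H) : Set H) ≤ centralizer ((P : Subgroup H) : Set H) := fun n _ =>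
    mem_centralizer_iff.2 fun q hq => (mem_center_iff.1 (hc ((hmem q).1 hq)) n).symm
  have hcompl := MonoidHom.ker_transferSylow_isComplement' P hP
  have hNodd : (Nat.card (MonoidHom.transferSylow P hP).ker).Coprime 2 := by
    rw [← hcompl.index_eq_card]
    exact (Nat.prime_two.coprime_iff_not_dvd.2 P.not_dvd_index).symm
  have hle : (MonoidHom.transferSylow P hP).ker ≤ Cfsg.pPrimeCore 2 H :=
    PBasic.le_pPrimeCore (MonoidHom.normal_ker _) hNodd
  refine ⟨fun b hb => hle (MonoidHom.mem_ker.2 ?_), fun h => ?_⟩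
  · obtain ⟨k, hk⟩ := P.2 (MonoidHom.transferSylow P hP b)
    refine orderOf_eq_one_iff.1 (Nat.eq_one_of_dvd_coprimes ((Nat.coprime_two_left.2 hb).pow_left k)
      (orderOf_dvd_of_pow_eq_one hk) (orderOf_map_dvd _ b))
  · obtain ⟨⟨⟨o, ho⟩, ⟨p, hp'⟩⟩, hop⟩ := (hcompl.existsUnique h).exists
    refine ⟨o, hle ho, ?_⟩
    have e : o * p = h := hop
    rw [← e, inv_mul_cancel_left]
    exact (hmem p).1 hp'

/-- An element of the odd core of the quotient by a central 2-group comes from the odd core. -/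
theorem lift_odd {K : Type*} [Group K] [Finite K] (Zn : Subgroup K) [Zn.Normal] (hc : Zn ≤ center K)
    (hp : IsPGroup 2 Zn) {w : K} (hw : QuotientGroup.mk' Zn w ∈ Cfsg.pPrimeCore 2 (K ⧸ Zn)) :
    ∃ b ∈ Cfsg.pPrimeCore 2 K, b⁻¹ * w ∈ Zn := by
  classical
  haveI : Fact (Nat.Prime 2) := ⟨Nat.prime_two⟩
  set P := (Cfsg.pPrimeCore 2 (K ⧸ Zn)).comap (QuotientGroup.mk' Zn) with hP
  haveI : P.Normal := Subgroup.Normal.comap (FittingCores.pPrimeCore_normal 2) _
  let f : ↥P →* ↥(Cfsg.pPrimeCore 2 (K ⧸ Zn)) := (QuotientGroup.mk' Zn).subgroupComap _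
  have hker : Zn.subgroupOf P = f.ker := by
    ext x
    rw [MonoidHom.mem_ker, mem_subgroupOf, ← QuotientGroup.eq_one_iff, Subtype.ext_iff]
    rfl
  obtain ⟨b, hb, hbw⟩ := (of_central_sylow (Zn.subgroupOf P)
    (fun x hx => mem_center_iff.2 fun y => Subtype.ext (mem_center_iff.1 (hc hx) y))
    hp.comap_subtype (fun h => by
      rw [hker, index_ker] at h
      exact absurd (Nat.eq_one_of_dvd_coprimes (PBasic.pPrimeCore_coprime 2 (K ⧸ Zn))
        (h.trans (card_subgroup_dvd_card _)) dvd_rfl) (by norm_num))).2 ⟨w, hw⟩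
  exact ⟨b, PBasic.map_pPrimeCore_le_of_normal P ⟨b, hb, rfl⟩, hbw⟩

variable {G : Type u} [Group G] [Finite G] {S : Sylow 2 G} (hS : Shape (S : Subgroup G))
include hS

theorem S_le_cenZs : (S : Subgroup G) ≤ centralizer (Zs (S : Subgroup G) : Set G) :=
  fun _ hy => mem_centralizer_iff.2 fun _ hw => Zs_comm hS hw hy

theorem pow_four {x : G} (hx : x ∈ (S : Subgroup G)) : x ^ 4 = 1 := by
  rw [show (4 : ℕ) = 2 * 2 from rfl, pow_mul, pow_two, pow_two]
  exact hS.sq x hx

/-- An element of odd order centralising an element outside `Z` is in the odd core of its centraliser. -/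
theorem odd_mem_oddPart {x g : G} (hx : x ∈ (S : Subgroup G)) (hx2 : x * x ≠ 1) (hg : g * x = x * g)
    (ho : Odd (orderOf g)) : g ∈ oddPart x := by
  haveI : Fact (Nat.Prime 2) := ⟨Nat.prime_two⟩
  obtain ⟨o, ho', hs⟩ := cen_four hS hx hx2 hg
  obtain ⟨o', hoc, hoe⟩ := ho'
  haveI := FittingCores.pPrimeCore_normal (G := centralizer ({x} : Set G)) 2
  set q := QuotientGroup.mk' (Cfsg.pPrimeCore 2 (centralizer ({x} : Set G))) with hq
  set g' : centralizer ({x} : Set G) := ⟨g, mem_centralizer_singleton_iff.2 hg⟩ with hg'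
  have h4 : (o'⁻¹ * g') ^ 4 = 1 := Subtype.ext (by
    rw [SubgroupClass.coe_pow, Subgroup.coe_one, Subgroup.coe_mul, Subgroup.coe_inv]
    rw [show (o' : G) = o from hoe]
    exact pow_four hS hs)
  have h5 : q g' ^ 4 = 1 := by
    have : q (o'⁻¹ * g') = q g' := by
      rw [map_mul, map_inv, show q o' = 1 from (QuotientGroup.eq_one_iff _).2 hoc, inv_one, one_mul]
    rw [← this, ← map_pow, h4, map_one]
  have h6 : q g' = 1 := orderOf_eq_one_iff.1 (Nat.eq_one_of_dvd_coprimes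
    ((Nat.coprime_two_left.2 ho).pow_left 2) (orderOf_dvd_of_pow_eq_one h5)
    ((orderOf_map_dvd q g').trans (by rw [hg', Subgroup.orderOf_mk])))
  exact ⟨g', (QuotientGroup.eq_one_iff _).1 h6, rfl⟩

/-- Two elements outside `Z` with different squares. -/
theorem exists_two_sq : ∃ x ∈ (S : Subgroup G), ∃ y ∈ (S : Subgroup G),
    x * x ≠ 1 ∧ y * y ≠ 1 ∧ x * x ≠ y * y := by
  classical
  by_contra hcon
  simp only [not_exists, not_and, not_not] at hcon
  obtain ⟨x, hx, hxZ⟩ : ∃ x ∈ (S : Subgroup G), x ∉ Zs (S : Subgroup G) := by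
    by_contra h
    simp only [not_exists, not_and, not_not] at h
    have h1 := Nat.le_of_dvd Nat.card_pos (card_dvd_of_le (show (S : Subgroup G) ≤ Zs (S : Subgroup G) from h))
    rw [hS.card, card_Zs hS] at h1
    omega
  have hx2 : x * x ≠ 1 := fun e => hxZ ((mem_Zs hS).2 ⟨hx, e⟩)
  obtain ⟨y, hy, hyZ, hxy⟩ : ∃ y ∈ (S : Subgroup G), y ∉ Zs (S : Subgroup G) ∧ x * y ∉ Zs (S : Subgroup G) := by
    by_contra h
    simp only [not_exists, not_and, not_not] at h
    let f : ↥(S : Subgroup G) → ↥(Zs (S : Subgroup G)) × Bool := fun y =>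
      if hy : (y : G) ∈ Zs (S : Subgroup G) then (⟨y, hy⟩, true) else (⟨x * y, h y y.2 hy⟩, false)
    have hf : Function.Injective f := by
      intro a b e
      simp only [f] at e
      split_ifs at e with ha hb hb
      · exact Subtype.ext (congrArg (fun p : ↥(Zs (S : Subgroup G)) × Bool => (p.1 : G)) e)
      · exact absurd (congrArg Prod.snd e) (by simp)
      · exact absurd (congrArg Prod.snd e) (by simp)
      · exact Subtype.ext (mul_left_cancel (congrArg (fun p : ↥(Zs (S : Subgroup G)) × Bool => (p.1 : G)) e))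
    have h1 := Nat.card_le_card_of_injective f hf
    rw [hS.card, Nat.card_prod, card_Zs hS] at h1
    simp at h1
  have hy2 : y * y ≠ 1 := fun e => hyZ ((mem_Zs hS).2 ⟨hy, e⟩)
  have hxy2 : x * y * (x * y) ≠ 1 := fun e => hxy ((mem_Zs hS).2 ⟨mul_mem hx hy, e⟩)
  exact hS.noQ x hx y hy hx2 (hcon x hx y hy hx2 hy2) (hcon _ (mul_mem hx hy) x hx hxy2 hx2)

/-- The centraliser of `Z` is its odd core times the normaliser of `S` in it. -/
theorem cenZ {k : G} (hk : k ∈ centralizer (Zs (S : Subgroup G) : Set G)) :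
    ∃ o ∈ (Cfsg.pPrimeCore 2 (centralizer (Zs (S : Subgroup G) : Set G))).map
        (centralizer (Zs (S : Subgroup G) : Set G)).subtype,
      o⁻¹ * k ∈ normalizer ((S : Subgroup G) : Set G) := by
  classical
  haveI : Fact (Nat.Prime 2) := ⟨Nat.prime_two⟩
  set K := centralizer (Zs (S : Subgroup G) : Set G) with hK
  have hSK : (S : Subgroup G) ≤ K := S_le_cenZs hS
  set Zn := (Zs (S : Subgroup G)).subgroupOf K with hZn
  have hZc : Zn ≤ center K := fun w hw => mem_center_iff.2 fun y =>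
    Subtype.ext (mem_centralizer_iff.1 y.2 _ hw).symm
  haveI hZN : Zn.Normal := ⟨fun w hw y => by
    rw [mem_center_iff.1 (hZc hw) y, mul_inv_cancel_right]; exact hw⟩
  have hZp : IsPGroup 2 Zn := (S.isPGroup'.to_le (Zs_le hS)).comap_subtype
  set π := QuotientGroup.mk' Zn with hπ
  have hπs : Function.Surjective π := QuotientGroup.mk'_surjective Zn
  set T : Sylow 2 (K ⧸ Zn) := (S.subtype hSK).mapSurjective hπs with hT
  have hTm : ∀ a, a ∈ (T : Subgroup (K ⧸ Zn)) ↔ ∃ x : K, (x : G) ∈ (S : Subgroup G) ∧ π x = a := fun a => by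
    rw [hT, Sylow.coe_mapSurjective, Sylow.coe_subtype]; rfl
  have hπeq : ∀ a b : K, π a = π b ↔ (a : G)⁻¹ * b ∈ Zs (S : Subgroup G) := fun a b => by
    rw [hπ, QuotientGroup.mk'_apply, QuotientGroup.mk'_apply, QuotientGroup.eq]; rfl
  have hπ1 : ∀ a : K, π a = 1 ↔ (a : G) ∈ Zs (S : Subgroup G) := fun a => QuotientGroup.eq_one_iff a
  have hTea : Cfsg.IsElementaryAbelian 2 (T : Subgroup (K ⧸ Zn)) := by
    refine ⟨⟨⟨fun a b => ?_⟩⟩, fun a ha => ?_⟩
    · obtain ⟨x, hx, hxa⟩ := (hTm _).1 a.2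
      obtain ⟨y, hy, hyb⟩ := (hTm _).1 b.2
      refine Subtype.ext ?_
      show (a : K ⧸ Zn) * b = b * a
      rw [← hxa, ← hyb, ← map_mul, ← map_mul, hπeq]
      have e : ((x * y : K) : G)⁻¹ * ((y * x : K) : G) = (y : G)⁻¹ * (x : G)⁻¹ * (y : G)⁻¹⁻¹ * (x : G)⁻¹⁻¹ := by
        push_cast; group
      rw [e]
      exact comm_mem_Zs hS (inv_mem hy) (inv_mem hx)
    · obtain ⟨x, hx, rfl⟩ := (hTm _).1 ha
      rw [← map_pow, hπ1, SubgroupClass.coe_pow, pow_two]
      exact sq_mem_Zs hS hx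
  have hT8 : 8 ≤ Nat.card (T : Subgroup (K ⧸ Zn)) := by
    let f : ↥(S : Subgroup G) →* K ⧸ Zn := π.comp (inclusion hSK)
    have h1 := Subgroup.card_mul_index f.ker
    rw [index_ker, hS.card] at h1
    have h2 : Nat.card f.ker ≤ 4 := by
      rw [← card_Zs hS]
      exact Nat.card_le_card_of_injective
        (fun y : f.ker => (⟨((y : (S : Subgroup G)) : G), (hπ1 _).1 (MonoidHom.mem_ker.1 y.2)⟩ :
          Zs (S : Subgroup G)))
        fun a b e => Subtype.ext (Subtype.ext (congrArg (fun p : Zs (S : Subgroup G) => (p : G)) e))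
    have h3 : Nat.card f.range ≤ Nat.card (T : Subgroup (K ⧸ Zn)) :=
      Nat.le_of_dvd Nat.card_pos (card_dvd_of_le (fun _ ⟨y, e⟩ => (hTm _).2 ⟨_, y.2, e⟩))
    have h4 := Nat.mul_le_mul h2 h3
    omega
  have hC : ∀ a ∈ (T : Subgroup (K ⧸ Zn)), a ≠ 1 → ∀ c : K ⧸ Zn, c * a = a * c →
      ∃ o ∈ oddPart a, o⁻¹ * c ∈ (T : Subgroup (K ⧸ Zn)) := by
    intro a ha ha1 c hc
    obtain ⟨x, hx, rfl⟩ := (hTm _).1 ha
    have hx2 : (x : G) * x ≠ 1 := fun e => ha1 ((hπ1 x).2 ((mem_Zs hS).2 ⟨hx, e⟩))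
    have hle : ((oddPart (x : G)).subgroupOf K).map π ≤ oddPart (π x) := by
      refine le_oddPart ?_ ?_ fun c' hc' => ?_
      · rintro _ ⟨n, hn, rfl⟩
        refine mem_centralizer_singleton_iff.2 ?_
        rw [← map_mul, ← map_mul]
        exact congrArg π (Subtype.ext (mem_centralizer_singleton_iff.1 (oddPart_le _ hn)))
      · refine (oddPart_coprime (x : G)).coprime_dvd_left ((card_map_dvd _ _).trans ?_)
        exact card_comap_dvd_of_injective _ K.subtype K.subtype_injective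
      · rintro _ ⟨n, hn, rfl⟩
        obtain ⟨k', rfl⟩ := hπs c'
        refine ⟨k' * n * k'⁻¹, ?_, by rw [map_mul, map_mul, map_inv]⟩
        have h1 : ((k' * x : K) : G)⁻¹ * ((x * k' : K) : G) ∈ Zs (S : Subgroup G) :=
          (hπeq _ _).1 (by rw [map_mul, map_mul]; exact hc')
        obtain ⟨w, hw, hwe⟩ : ∃ w ∈ Zs (S : Subgroup G), (k' : G) * x * (k' : G)⁻¹ = x * w := by
          refine ⟨_, inv_mem h1, ?_⟩
          have hwk : (k' : G) * (((k' * x : K) : G)⁻¹ * ((x * k' : K) : G)) =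
              ((k' * x : K) : G)⁻¹ * ((x * k' : K) : G) * k' := (mem_centralizer_iff.1 k'.2 _ h1).symm
          calc (k' : G) * x * (k' : G)⁻¹ =
                (x : G) * ((k' : G) * (((k' * x : K) : G)⁻¹ * ((x * k' : K) : G)) * (k' : G)⁻¹)⁻¹ := by
                push_cast; group
            _ = _ := by rw [hwk, mul_inv_cancel_right]
        show (k' : G) * n * (k' : G)⁻¹ ∈ oddPart (x : G)
        refine odd_mem_oddPart hS hx hx2 ?_ (by rw [Invol.order_conj]; exact oddPart_odd hn)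
        have h2 : (n : G) * ((k' : G)⁻¹ * x * k') = (k' : G)⁻¹ * x * k' * n := by
          have e : (k' : G)⁻¹ * x * k' = x * w⁻¹ := by
            have hxw : (k' : G)⁻¹ * (x * w) * k' = x := by rw [← hwe]; group
            have hwk' : w * (k' : G) = k' * w := (mem_centralizer_iff.1 k'.2 _ hw)
            calc (k' : G)⁻¹ * x * k' = (k' : G)⁻¹ * (x * w) * (k' * (k' : G)⁻¹ * w⁻¹ * k') := by group
              _ = (k' : G)⁻¹ * (x * w) * k' * w⁻¹ := by
                rw [show (k' : G) * (k' : G)⁻¹ * w⁻¹ * k' = (k' : G) * w⁻¹ by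
                  rw [mul_inv_cancel, one_mul, eq_mul_inv_iff_mul_eq, mul_assoc, inv_mul_eq_iff_eq_mul]
                  exact hwk'.symm]
                group
              _ = _ := by rw [hxw]
          rw [e]
          have hn1 : (n : G) * x = x * n := mem_centralizer_singleton_iff.1 (oddPart_le _ hn)
          have hn2 : (n : G) * w⁻¹ = w⁻¹ * n := (mem_centralizer_iff.1 n.2 _ (inv_mem hw)).symm
          rw [← mul_assoc, hn1, mul_assoc, hn2, mul_assoc]
        calc (k' : G) * n * (k' : G)⁻¹ * x = (k' : G) * ((n : G) * ((k' : G)⁻¹ * x * k')) * (k' : G)⁻¹ := by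
              group
          _ = _ := by rw [h2]; group
    obtain ⟨k, rfl⟩ := hπs c
    have h1 : ((x * k : K) : G)⁻¹ * ((k * x : K) : G) ∈ Zs (S : Subgroup G) :=
      (hπeq _ _).1 (by rw [map_mul, map_mul]; exact hc.symm)
    have h1e : ((x * k : K) : G)⁻¹ * ((k * x : K) : G) = (k : G)⁻¹ * (x : G)⁻¹ * k * x := by push_cast; group
    rw [h1e] at h1
    obtain ⟨y, hy, hye⟩ := hS.comm x hx hx2 _ (Zs_le hS h1) ((mem_Zs hS).1 h1).2
    have hg : y⁻¹ * k * (x : G) = x * (y⁻¹ * k) := by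
      have hwk : (k : G) * ((k : G)⁻¹ * (x : G)⁻¹ * k * x) = (k : G)⁻¹ * (x : G)⁻¹ * k * x * k :=
        (mem_centralizer_iff.1 k.2 _ h1).symm
      have h3 : (k : G) * x = x * ((k : G)⁻¹ * (x : G)⁻¹ * k * x) * k := by
        rw [mul_assoc, ← hwk]; group
      calc y⁻¹ * k * (x : G) = y⁻¹ * (x * ((k : G)⁻¹ * (x : G)⁻¹ * k * x)) * k := by
            rw [mul_assoc, h3]; group
        _ = y⁻¹ * (y * x * y⁻¹) * k := by rw [hye]
        _ = _ := by group
    obtain ⟨o, ho, hs⟩ := cen_four hS hx hx2 hg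
    have hoK : o ∈ K := by
      have h4 := mul_mem (mul_mem (inv_mem (hSK hy)) k.2) (inv_mem (hSK hs))
      rwa [show y⁻¹ * (k : G) * (o⁻¹ * (y⁻¹ * k))⁻¹ = o by group] at h4
    set y' : K := ⟨y, hSK hy⟩ with hy'
    set o' : K := ⟨o, hoK⟩ with ho'
    have hyc : π y' * π x = π x * π y' := by
      rw [← map_mul, ← map_mul, hπeq]
      have e : ((y' * x : K) : G)⁻¹ * ((x * y' : K) : G) =
          (x : G)⁻¹ * y⁻¹ * (x : G)⁻¹⁻¹ * y⁻¹⁻¹ := by rw [hy']; push_cast; group
      rw [e]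
      exact comm_mem_Zs hS (inv_mem hx) (inv_mem hy)
    refine ⟨π y' * π o' * (π y')⁻¹, oddPart_conj hyc (hle ⟨o', ho, rfl⟩), ?_⟩
    refine (hTm _).2 ⟨y' * (o'⁻¹ * (y'⁻¹ * k)), ?_, ?_⟩
    · show y * (o⁻¹ * (y⁻¹ * k)) ∈ (S : Subgroup G)
      exact mul_mem hy hs
    · rw [map_mul, map_mul, map_mul, map_inv, map_inv]; group
  have h2 : ∃ a ∈ (T : Subgroup (K ⧸ Zn)), ∃ b ∈ (T : Subgroup (K ⧸ Zn)), a ≠ 1 ∧ b ≠ 1 ∧ ¬ IsConj a b := by
    obtain ⟨x, hx, y, hy, hx2, hy2, hxy⟩ := exists_two_sq hS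
    refine ⟨π ⟨x, hSK hx⟩, (hTm _).2 ⟨_, hx, rfl⟩, π ⟨y, hSK hy⟩, (hTm _).2 ⟨_, hy, rfl⟩,
      fun e => hx2 ((mem_Zs hS).1 ((hπ1 _).1 e)).2, fun e => hy2 ((mem_Zs hS).1 ((hπ1 _).1 e)).2, fun h => ?_⟩
    obtain ⟨c, hc⟩ := isConj_iff.1 h
    obtain ⟨k', rfl⟩ := hπs c
    rw [← map_inv, ← map_mul, ← map_mul, hπeq] at hc
    push_cast at hc
    set d := ((k' : G) * x * (k' : G)⁻¹)⁻¹ * y with hd
    have hsq : (k' : G) * (x * x) * (k' : G)⁻¹ = x * x := by
      rw [← mem_centralizer_iff.1 k'.2 _ (sq_mem_Zs hS hx), mul_inv_cancel_right]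
    have hdy : d * y = y * d := Zs_comm hS hc hy
    refine hxy ?_
    calc x * x = (k' : G) * x * (k' : G)⁻¹ * ((k' : G) * x * (k' : G)⁻¹) := by rw [conj_mul, hsq]
      _ = y * d⁻¹ * (y * d⁻¹) := by rw [hd]; group
      _ = y * (d⁻¹ * y) * d⁻¹ := by group
      _ = y * y * (d * d)⁻¹ := by
        rw [show d⁻¹ * y = y * d⁻¹ from (eq_mul_inv_iff_mul_eq.2 (by
          rw [mul_assoc, ← hdy, inv_mul_cancel_left]))]
        group
      _ = y * y := by rw [((mem_Zs hS).1 hc).2, inv_one, mul_one]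
  obtain ⟨w, hw, hn⟩ := sylow_control T hTea hT8 hC h2 (π ⟨k, hk⟩)
  obtain ⟨w', rfl⟩ := hπs w
  obtain ⟨b, hb, hbw⟩ := lift_odd Zn hZc hZp hw
  have hn' : π (b⁻¹ * ⟨k, hk⟩) ∈ normalizer ((T : Subgroup (K ⧸ Zn)) : Set (K ⧸ Zn)) := by
    rwa [map_mul, map_inv, show π b = π w' from (hπeq b w').2 hbw]
  refine ⟨(b : G), ⟨b, hb, rfl⟩, Subgroup.mem_normalizer_fintype fun y hy => ?_⟩
  have h3 := (mem_normalizer_iff.1 hn' (π ⟨y, hSK hy⟩)).1 ((hTm _).2 ⟨_, hy, rfl⟩)
  rw [← map_inv, ← map_mul, ← map_mul] at h3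
  obtain ⟨x, hx, hxe⟩ := (hTm _).1 h3
  have h4 := mul_mem hx (Zs_le hS ((hπeq _ _).1 hxe))
  rwa [mul_inv_cancel_left] at h4

/-- An involution of `Z` is isolated in the centraliser of another one. -/
theorem isolated_in_cen {z z1 g : G} (hz : z ∈ Zs (S : Subgroup G)) (hz0 : z ≠ 1)
    (h1 : z1 ∈ Zs (S : Subgroup G)) (h10 : z1 ≠ 1) (hne : z1 ≠ z) (hg : g * z = z * g)
    (hc : z1 * (g * z1 * g⁻¹) = g * z1 * g⁻¹ * z1) : g * z1 * g⁻¹ = z1 := by
  classical
  haveI : Fact (Nat.Prime 2) := ⟨Nat.prime_two⟩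
  set t := g * z1 * g⁻¹ with ht
  have hz2 : z * z = 1 := ((mem_Zs hS).1 hz).2
  have h12 : z1 * z1 = 1 := ((mem_Zs hS).1 h1).2
  have ht2 : t * t = 1 := by rw [ht, conj_mul, h12, mul_one, mul_inv_cancel]
  have hzt : z * t = t * z := by
    rw [ht]
    calc z * (g * z1 * g⁻¹) = z * g * z1 * g⁻¹ := by group
      _ = g * z * z1 * g⁻¹ := by rw [← hg]
      _ = g * z1 * (z * g⁻¹) := by rw [mul_assoc g, Zs_comm hS hz (Zs_le hS h1)]; group
      _ = g * z1 * (g⁻¹ * z) := by
        rw [show z * g⁻¹ = g⁻¹ * z by rw [eq_inv_mul_iff_mul_eq, ← mul_assoc, hg, mul_inv_cancel_right]]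
      _ = _ := by group
  -- the group generated by `Z` and `t` consists of involutions
  set R := Zs (S : Subgroup G) ⊔ zpowers t with hR
  have hZt : ∀ w ∈ Zs (S : Subgroup G), w * t = t * w := by
    intro w hw
    have hmem : w ∈ Subgroup.closure ({z, z1} : Set G) := by
      have hcl : Subgroup.closure ({z, z1} : Set G) = Zs (S : Subgroup G) := by
        refine Subgroup.eq_of_le_of_card_ge ((closure_le _).2 fun v hv => ?_) ?_
        · rcases hv with rfl | rfl
          · exact hz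
          · exact h1
        · rw [card_Zs hS]
          have h6 : ({z * z1, z1, z, 1} : Set G) ⊆ (Subgroup.closure ({z, z1} : Set G) : Set G) := by
            intro v hv
            rcases hv with rfl | rfl | rfl | rfl
            exacts [mul_mem (subset_closure (by simp)) (subset_closure (by simp)), subset_closure (by simp),
              subset_closure (by simp), one_mem _]
          have h7 : ({z * z1, z1, z, 1} : Set G).ncard = 4 := by
            have e1 : z * z1 ≠ z1 := fun e => hz0 (mul_eq_right.1 e)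
            have e2 : z * z1 ≠ z := fun e => h10 (mul_eq_left.1 e)
            have e3 : z * z1 ≠ 1 := fun e => hne (by
              rw [eq_inv_of_mul_eq_one_right e, inv_eq_of_mul_eq_one_right hz2])
            rw [Set.ncard_insert_of_notMem (by simp [e1, e2, e3]),
              Set.ncard_insert_of_notMem (by simp [hne, h10]), Set.ncard_pair hz0]
          have h8 := Set.ncard_le_ncard h6 (Set.toFinite _)
          rw [h7, ← Nat.card_coe_set_eq] at h8
          exact h8
      rw [hcl]; exact hw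
    clear hw
    induction hmem using Subgroup.closure_induction with
    | mem v hv =>
      rcases hv with rfl | rfl
      · exact hzt
      · exact hc
    | one => simp
    | mul a b _ _ ha hb => rw [mul_assoc, hb, ← mul_assoc, ha, mul_assoc]
    | inv a _ ha => exact (Commute.inv_left ha).eq
  have hmemR : ∀ r ∈ R, r ∈ Zs (S : Subgroup G) ∨ ∃ w ∈ Zs (S : Subgroup G), r = w * t := by
    intro r hr
    rw [hR, Subgroup.sup_eq_closure] at hr
    induction hr using Subgroup.closure_induction with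
    | mem v hv =>
      rcases hv with hv | ⟨i, rfl⟩
      · exact Or.inl hv
      · rcases Int.even_or_odd i with ⟨j, rfl⟩ | ⟨j, rfl⟩
        · exact Or.inl (by
            show t ^ (j + j) ∈ _
            rw [← two_mul, zpow_mul, zpow_two, ht2, one_zpow]; exact one_mem _)
        · exact Or.inr ⟨1, one_mem _, by
            show t ^ (2 * j + 1) = 1 * t
            rw [zpow_add, zpow_mul, zpow_two, ht2, one_zpow, zpow_one]⟩
    | one => exact Or.inl (one_mem _)
    | mul a b _ _ ha hb =>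
      rcases ha with ha | ⟨w, hw, rfl⟩ <;> rcases hb with hb | ⟨v, hv, rfl⟩
      · exact Or.inl (mul_mem ha hb)
      · exact Or.inr ⟨a * v, mul_mem ha hv, by group⟩
      · exact Or.inr ⟨w * b, mul_mem hw hb, by rw [mul_assoc, ← hZt b hb, mul_assoc]⟩
      · refine Or.inl ?_
        rw [show w * t * (v * t) = w * (t * v) * t by group, ← hZt v hv,
          show w * (v * t) * t = w * v * (t * t) by group, ht2, mul_one]
        exact mul_mem hw hv
    | inv a _ ha =>
      rcases ha with ha | ⟨w, hw, rfl⟩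
      · exact Or.inl (inv_mem ha)
      · exact Or.inr ⟨w⁻¹, inv_mem hw, by
          rw [mul_inv_rev, inv_eq_of_mul_eq_one_right ht2, ← hZt _ (inv_mem hw)]⟩
  have hRsq : ∀ r ∈ R, r * r = 1 := by
    intro r hr
    rcases hmemR r hr with h | ⟨w, hw, rfl⟩
    · exact ((mem_Zs hS).1 h).2
    · rw [show w * t * (w * t) = w * (t * w) * t by group, ← hZt w hw,
        show w * (w * t) * t = w * w * (t * t) by group, ht2, ((mem_Zs hS).1 hw).2, one_mul]
  have hRZ : Zs (S : Subgroup G) = R :=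
    Subgroup.eq_of_le_of_card_ge le_sup_left ((card_le_four hS hRsq).trans (card_Zs hS).ge)
  have htZ : t ∈ Zs (S : Subgroup G) := hRZ ▸ mem_sup_right (mem_zpowers t)
  by_contra htne
  -- `g` normalises `Z` and moves `z1`
  have hgz : ∀ w ∈ Zs (S : Subgroup G), g * w * g⁻¹ ∈ Zs (S : Subgroup G) := by
    intro w hw
    by_cases hw1 : w = 1
    · simp [hw1]
    by_cases hwz : w = z
    · rw [hwz, hg, mul_inv_cancel_right]; exact hz
    by_cases hwz1 : w = z1
    · rw [hwz1]; exact htZ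
    have hw' : w = z * z1 := by
      by_contra h
      have h6 : ({w, z * z1, z1, z, 1} : Set G) ⊆ (Zs (S : Subgroup G) : Set G) := by
        intro v hv
        rcases hv with rfl | rfl | rfl | rfl | rfl
        exacts [hw, mul_mem hz h1, h1, hz, one_mem _]
      have e1 : z * z1 ≠ z1 := fun e => hz0 (mul_eq_right.1 e)
      have e2 : z * z1 ≠ z := fun e => h10 (mul_eq_left.1 e)
      have e3 : z * z1 ≠ 1 := fun e => hne (by
        rw [eq_inv_of_mul_eq_one_right e, inv_eq_of_mul_eq_one_right hz2])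
      have h7 : ({w, z * z1, z1, z, 1} : Set G).ncard = 5 := by
        rw [Set.ncard_insert_of_notMem (by simp [h, hw1, hwz, hwz1]),
          Set.ncard_insert_of_notMem (by simp [e1, e2, e3]),
          Set.ncard_insert_of_notMem (by simp [hne, h10]), Set.ncard_pair hz0]
      have h8 := Set.ncard_le_ncard h6 (Set.toFinite _)
      rw [h7, ← Nat.card_coe_set_eq] at h8
      have h9 : 5 ≤ Nat.card (Zs (S : Subgroup G)) := h8
      rw [card_Zs hS] at h9
      omega
    rw [hw', show g * (z * z1) * g⁻¹ = g * z * g⁻¹ * t by rw [ht]; group, hg, mul_inv_cancel_right]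
    exact mul_mem hz htZ
  set Nz := normalizer (Zs (S : Subgroup G) : Set G) with hNz
  have hgN : g ∈ Nz := Subgroup.mem_normalizer_fintype hgz
  obtain ⟨a, b, ⟨⟨ka, hka⟩, hab⟩, ⟨i, hi⟩, ⟨j, hj⟩, hb⟩ := exists_two_split g
  have haN : a ∈ Nz := hi ▸ pow_mem hgN i
  have hbN : b ∈ Nz := hj ▸ pow_mem hgN j
  have hbfix : ∀ w ∈ Zs (S : Subgroup G), b * w * b⁻¹ = w := fix_Zs hS hb hbN hz hz0 (by
    rw [← hj, ((Commute.pow_left (show Commute g z from hg) j)).eq, mul_inv_cancel_right])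
  -- conjugate `a` into `S` inside `N(Z)`
  have hSN : (S : Subgroup G) ≤ Nz := fun y hy => Subgroup.mem_normalizer_fintype fun w hw => by
    show y * w * y⁻¹ ∈ Zs (S : Subgroup G)
    rw [← Zs_comm hS hw hy, mul_inv_cancel_right]
    exact hw
  have hp : IsPGroup 2 (zpowers (⟨a, haN⟩ : Nz)) :=
    IsPGroup.of_card (n := ka) (by rw [Nat.card_zpowers, Subgroup.orderOf_mk, hka])
  obtain ⟨P, hP⟩ := hp.exists_le_sylow
  obtain ⟨h, hh⟩ := MulAction.exists_smul_eq Nz P (S.subtype hSN)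
  have haS : (h : G) * a * (h : G)⁻¹ ∈ (S : Subgroup G) := by
    have h' := Subgroup.smul_mem_pointwise_smul _ (MulAut.conj h) _ (hP (mem_zpowers _))
    rw [← Sylow.pointwise_smul_def, ← Sylow.smul_def, hh, Sylow.coe_subtype, mem_subgroupOf] at h'
    exact h'
  have hhz : (h : G) * z1 * (h : G)⁻¹ ∈ Zs (S : Subgroup G) := (mem_normalizer_iff.1 h.2 z1).1 h1
  have haz : a * z1 * a⁻¹ = z1 := by
    have h5 : (h : G) * a * (h : G)⁻¹ * ((h : G) * z1 * (h : G)⁻¹) =
        (h : G) * z1 * (h : G)⁻¹ * ((h : G) * a * (h : G)⁻¹) := (Zs_comm hS hhz haS).symm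
    rw [conj_mul, conj_mul] at h5
    rw [mul_left_cancel (mul_right_cancel h5), mul_inv_cancel_right]
  apply htne
  rw [ht, ← hab, show a * b * z1 * (a * b)⁻¹ = a * (b * z1 * b⁻¹) * a⁻¹ by group, hbfix z1 h1, haz]

/-- `C(z)` is its odd core times `N(S) ∩ C(Z)`, and an odd subgroup normalised by this lies in the core. -/
theorem cen_invol {z : G} (hz : z ∈ Zs (S : Subgroup G)) (hz0 : z ≠ 1) :
    (∀ g : G, g * z = z * g → ∃ o ∈ oddPart z, o⁻¹ * g ∈
        centralizer (Zs (S : Subgroup G) : Set G) ⊓ normalizer ((S : Subgroup G) : Set G)) ∧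
      ∀ D : Subgroup G, D ≤ centralizer ({z} : Set G) → (Nat.card D).Coprime 2 →
        (∀ n ∈ centralizer (Zs (S : Subgroup G) : Set G) ⊓ normalizer ((S : Subgroup G) : Set G),
          ∀ d ∈ D, n * d * n⁻¹ ∈ D) → D ≤ oddPart z := by
  classical
  haveI : Fact (Nat.Prime 2) := ⟨Nat.prime_two⟩
  set K := centralizer (Zs (S : Subgroup G) : Set G) with hK
  set X := centralizer ({z} : Set G) with hX
  have hKX : K ≤ X := fun k hk => mem_centralizer_singleton_iff.2 (mem_centralizer_iff.1 hk z hz).symm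
  haveI hOn := FittingCores.pPrimeCore_normal (G := X) 2
  set q := QuotientGroup.mk' (Cfsg.pPrimeCore 2 X) with hq
  obtain ⟨z1, h1, h10, hne⟩ : ∃ z1 ∈ Zs (S : Subgroup G), z1 ≠ 1 ∧ z1 ≠ z := by
    by_contra hcon
    simp only [not_exists, not_and, not_not] at hcon
    have h6 : (Zs (S : Subgroup G) : Set G) ⊆ {1, z} := fun v hv => by
      by_cases h : v = 1
      · exact Or.inl h
      · exact Or.inr (hcon v hv h)
    have h8 := Set.ncard_le_ncard h6 (Set.toFinite _)
    rw [Set.ncard_pair hz0.symm, ← Nat.card_coe_set_eq] at h8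
    have h9 : Nat.card (Zs (S : Subgroup G)) ≤ 2 := h8
    rw [card_Zs hS] at h9
    omega
  set z1' : X := ⟨z1, hKX (S_le_cenZs hS (Zs_le hS h1))⟩ with hz1'
  have hiso : Cfsg.IsIsolated z1' := fun g hc => Subtype.ext
    (isolated_in_cen hS hz hz0 h1 h10 hne (mem_centralizer_singleton_iff.1 g.2)
      (congrArg Subtype.val hc.eq))
  have htop := McLTwoA8.sup_oddCore_of_isolated z1' (by
    rw [hz1', Subgroup.orderOf_mk]
    exact Invol.order_two_of_sq ((mem_Zs hS).1 h1).2 h10) hiso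
  -- every element of `X` is an element of `K` modulo the odd core
  have hXK : ∀ g : X, ∃ k : X, (k : G) ∈ K ∧ q k = q g := by
    intro g
    have hg : g ∈ Subgroup.centralizer ({z1'} : Set X) ⊔ Cfsg.pPrimeCore 2 X := htop ▸ mem_top g
    obtain ⟨k, hk, o, ho, rfl⟩ := Subgroup.mem_sup_of_normal_right.1 hg
    refine ⟨k, mem_centralizer_iff.2 fun w hw => ?_, by
      rw [map_mul, show q o = 1 from (QuotientGroup.eq_one_iff _).2 ho, mul_one]⟩
    have hk1 : z1 * (k : G) = k * z1 := (congrArg Subtype.val (mem_centralizer_singleton_iff.1 hk)).symm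
    have hkz : z * (k : G) = k * z := (mem_centralizer_singleton_iff.1 k.2).symm
    by_cases hw1 : w = 1
    · simp [hw1]
    by_cases hwz : w = z
    · rw [hwz]; exact hkz
    by_cases hwz1 : w = z1
    · rw [hwz1]; exact hk1
    have e3 : z * z1 ≠ 1 := fun e => hne (by
      rw [eq_inv_of_mul_eq_one_right e, inv_eq_of_mul_eq_one_right ((mem_Zs hS).1 hz).2])
    have hw' : w = z * z1 := by
      by_contra h
      have h6 : ({w, z * z1, z1, z, 1} : Set G) ⊆ (Zs (S : Subgroup G) : Set G) := by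
        intro v hv
        rcases hv with rfl | rfl | rfl | rfl | rfl
        exacts [hw, mul_mem hz h1, h1, hz, one_mem _]
      have e1 : z * z1 ≠ z1 := fun e => hz0 (mul_eq_right.1 e)
      have e2 : z * z1 ≠ z := fun e => h10 (mul_eq_left.1 e)
      have h7 : ({w, z * z1, z1, z, 1} : Set G).ncard = 5 := by
        rw [Set.ncard_insert_of_notMem (by simp [h, hw1, hwz, hwz1]),
          Set.ncard_insert_of_notMem (by simp [e1, e2, e3]),
          Set.ncard_insert_of_notMem (by simp [hne, h10]), Set.ncard_pair hz0]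
      have h8 := Set.ncard_le_ncard h6 (Set.toFinite _)
      rw [h7, ← Nat.card_coe_set_eq] at h8
      have h9 : 5 ≤ Nat.card (Zs (S : Subgroup G)) := h8
      rw [card_Zs hS] at h9
      omega
    rw [hw', mul_assoc, hk1, ← mul_assoc, hkz, mul_assoc]
  -- an odd subgroup whose image is normal is in the odd core
  have key : ∀ D : Subgroup X, (Nat.card D).Coprime 2 →
      (∀ g : X, ∃ n : X, q n = q g ∧ ∀ d ∈ D, n * d * n⁻¹ ∈ D) → D ≤ Cfsg.pPrimeCore 2 X := by
    intro D hD hn d hd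
    have hnorm : (D.map q).Normal := ⟨fun e he c => by
      obtain ⟨g, rfl⟩ := QuotientGroup.mk'_surjective _ c
      obtain ⟨n, hne', hnd⟩ := hn g
      obtain ⟨e', he', rfl⟩ := he
      exact ⟨n * e' * n⁻¹, hnd e' he', by rw [map_mul, map_mul, map_inv, hne']⟩⟩
    have h := PBasic.le_pPrimeCore hnorm (hD.coprime_dvd_left (card_map_dvd _ _)) ⟨d, hd, rfl⟩
    rw [PBasic.pPrimeCore_quotient_pPrimeCore, mem_bot] at h
    exact (QuotientGroup.eq_one_iff _).1 h
  -- the odd core of `K` is in that of `X`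
  have hOK : (Cfsg.pPrimeCore 2 K).map K.subtype ≤ oddPart z := by
    rintro _ ⟨d, hd, rfl⟩
    refine ⟨⟨d, hKX d.2⟩, key ((Cfsg.pPrimeCore 2 K).map (inclusion hKX)) ?_ ?_ ⟨d, hd, rfl⟩, rfl⟩
    · exact (PBasic.pPrimeCore_coprime 2 _).coprime_dvd_left (card_map_dvd _ _)
    · intro g
      obtain ⟨k, hk, hkg⟩ := hXK g
      refine ⟨k, hkg, ?_⟩
      rintro _ ⟨d', hd', rfl⟩
      exact ⟨⟨k, hk⟩ * d' * ⟨k, hk⟩⁻¹, (FittingCores.pPrimeCore_normal 2).conj_mem _ hd' _, rfl⟩
  have hNK : ∀ g : G, g * z = z * g → ∃ o ∈ oddPart z, o⁻¹ * g ∈ K ⊓ normalizer ((S : Subgroup G) : Set G) := by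
    intro g hg
    obtain ⟨k, hk, hkg⟩ := hXK ⟨g, mem_centralizer_singleton_iff.2 hg⟩
    obtain ⟨o, ho, hn⟩ := cenZ hS hk
    have hoK : o ∈ K := map_subtype_le _ ho
    have hgk : g * (k : G)⁻¹ ∈ oddPart z :=
      ⟨⟨g, mem_centralizer_singleton_iff.2 hg⟩ * k⁻¹, (QuotientGroup.eq_one_iff _).1 (by
        rw [← QuotientGroup.mk'_apply, ← hq, map_mul, map_inv, ← hkg, mul_inv_cancel]), rfl⟩
    refine ⟨g * (k : G)⁻¹ * o, mul_mem hgk (hOK ho), ?_⟩
    rw [show (g * (k : G)⁻¹ * o)⁻¹ * g = o⁻¹ * k by group]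
    exact mem_inf.2 ⟨mul_mem (inv_mem hoK) hk, hn⟩
  refine ⟨hNK, fun D hDX hD hDn d hd => ⟨⟨d, hDX hd⟩, key (D.subgroupOf X) ?_ ?_ hd, rfl⟩⟩
  · rwa [Nat.card_congr (subgroupOfEquivOfLe hDX).toEquiv]
  · intro g
    obtain ⟨o, ho, hn⟩ := hNK g (mem_centralizer_singleton_iff.1 g.2)
    obtain ⟨o', hoc, hoe⟩ := ho
    refine ⟨o'⁻¹ * g, by rw [map_mul, map_inv, show q o' = 1 from (QuotientGroup.eq_one_iff _).2 hoc,
      inv_one, one_mul], fun d' hd' => ?_⟩
    show ((o'⁻¹ * g : X) : G) * d' * ((o'⁻¹ * g : X) : G)⁻¹ ∈ D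
    exact hDn _ (by push_cast; rw [show (o' : G) = o from hoe]; exact hn) _ hd'

end Cfsg.Agent.U34Group
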