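import Cfsg.Agent.Lib.U34Rec.BlockSetup
import Cfsg.Agent.Lib.Solvable.Fitting
import Cfsg.Agent.Lib.Feit.CyclicMult
import Cfsg.Agent.Lib.Char.DegreeCenter
import Cfsg.Prelude.Def_Involutions
import Mathlib.GroupTheory.Transfer

/-!
From a character with `χ(1) + 3 χ(z) = 0` that is constant on `z t(z)` to a strongly embedded subgroup:
`t(z)` centralises the four group `Z` of the involutions of `S`, so `C(z) ≤ N(Z)`.
-/

set_option autoImplicit false
set_option linter.unusedSectionVars false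
set_option linter.style.haveILetI false

namespace Cfsg.Agent.U34Block

open Cfsg Subgroup
open scoped Classical Pointwise

universe u

variable {G : Type u} [Group G] [Finite G] {S : Sylow 2 G} {z : G}

/-- Two commuting involutions with `χ 1 + χ z + χ u + χ (z u) = 0` for a faithful `χ` constant on `z W`:
`u` centralises `W`. -/
theorem commute_of_char {n : ℕ} (ρ : Representation ℂ G (Fin n → ℂ)) (hρ : Function.Injective ρ)
    {u : G} (hz : z * z = 1) (hu : u * u = 1) (hzu : z * u = u * z)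
    (hsum : ρ.character 1 + ρ.character z + ρ.character u + ρ.character (z * u) = 0)
    {W : Subgroup G} (hzW : ∀ y ∈ W, z * y = y * z) (huW : ∀ y ∈ W, u * y * u⁻¹ ∈ W)
    (hconst : ∀ y ∈ W, ρ.character (z * y) = ρ.character z) {y : G} (hy : y ∈ W) :
    u * y = y * u := by
  have hu' : u⁻¹ = u := inv_eq_of_mul_eq_one_right hu
  set T : G →* Matrix (Fin n) (Fin n) ℂ :=
    { toFun := fun g => LinearMap.toMatrixAlgEquiv' (ρ g)
      map_one' := by rw [map_one, map_one]
      map_mul' := fun a b => by rw [map_mul, map_mul] } with hT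
  have htr : ∀ g, (T g).trace = ρ.character g := fun g => by
    have := Feit.CMult.trace_pow ρ g 1
    rwa [pow_one, pow_one] at this
  have hP : (1 + T z) * (1 + T u) = 0 := by
    set P := (4 : ℂ)⁻¹ • ((1 + T z) * (1 + T u)) with hPdef
    have e1 : (1 + T z) * (1 + T z) = (2 : ℂ) • (1 + T z) := by
      rw [mul_add, mul_one, add_mul, one_mul, ← map_mul, hz, map_one, two_smul]; abel
    have e2 : (1 + T u) * (1 + T u) = (2 : ℂ) • (1 + T u) := by
      rw [mul_add, mul_one, add_mul, one_mul, ← map_mul, hu, map_one, two_smul]; abel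
    have e3 : Commute (1 + T u) (1 + T z) := by
      refine (Commute.one_right _).add_right ((Commute.one_left _).add_left ?_)
      show T u * T z = T z * T u
      rw [← map_mul, ← map_mul, hzu]
    have hid : P * P = P := by
      rw [hPdef, smul_mul_smul_comm, mul_assoc, ← mul_assoc (1 + T u), e3.eq, mul_assoc, e2, ← mul_assoc, e1,
        smul_mul_smul_comm, smul_smul]
      norm_num
    have h0 : P.trace = 0 := by
      rw [hPdef, mul_add, mul_one, add_mul, one_mul, Matrix.trace_smul, Matrix.trace_add, Matrix.trace_add,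
        Matrix.trace_add, ← map_mul, htr, htr, htr, ← map_one T, htr, ← add_assoc, hsum, smul_zero]
    rw [Feit.CMult.trace_eq_rank hid, Nat.cast_eq_zero, Matrix.rank, Submodule.finrank_eq_zero,
      LinearMap.range_eq_bot] at h0
    have hP0 : P = 0 := by
      apply Matrix.toLin'.injective
      rw [map_zero, Matrix.toLin'_apply', h0]
    rw [hPdef, smul_eq_zero] at hP0
    exact hP0.resolve_left (by norm_num)
  have hA : (1 + T z) * T u = -(1 + T z) := by
    rw [mul_add, mul_one] at hP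
    exact eq_neg_of_add_eq_zero_right hP
  set w := y⁻¹ * (u * y * u⁻¹) with hw
  have hwW : w ∈ W := W.mul_mem (W.inv_mem hy) (huW y hy)
  have hcz : ∀ a, z * a = a * z → (1 + T z) * T a = T a * (1 + T z) := fun a ha => by
    rw [add_mul, mul_add, one_mul, mul_one, ← map_mul, ← map_mul, ha]
  have hwA : (1 + T z) * T w = 1 + T z := by
    rw [hw, hu', map_mul, map_mul, map_mul, ← mul_assoc, hcz y⁻¹ (hzW _ (W.inv_mem hy)), mul_assoc,
      ← mul_assoc (1 + T z), ← mul_assoc (1 + T z), hA, neg_mul, hcz y (hzW _ hy), neg_mul, mul_assoc (T y), hA,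
      mul_neg, mul_neg, mul_neg, neg_neg, ← mul_assoc, ← map_mul, inv_mul_cancel, map_one, one_mul]
  have hchi : ρ.character w = ρ.character 1 := by
    have h1 := congrArg Matrix.trace hwA
    rw [add_mul, one_mul, ← map_mul, Matrix.trace_add, Matrix.trace_add, htr, htr, htr, ← map_one T, htr,
      hconst w hwW, add_left_inj] at h1
    exact h1
  have hw1 : w = 1 := by
    rw [Representation.char_one, Char.char_eq_degree_iff] at hchi
    exact hρ (hchi.trans (map_one ρ).symm)
  rw [hw, inv_mul_eq_one, eq_mul_inv_iff_mul_eq] at hw1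
  exact hw1.symm

theorem oddPart_le_cent (y : G) : oddPart y ≤ centralizer ({y} : Set G) :=
  map_subtype_le _

theorem oddPart_conj {y g x : G} (hg : g ∈ centralizer ({y} : Set G)) (hx : x ∈ oddPart y) :
    g * x * g⁻¹ ∈ oddPart y := by
  haveI := FittingCores.pPrimeCore_normal (G := centralizer ({y} : Set G)) 2
  obtain ⟨x, hx, rfl⟩ := hx
  exact ⟨⟨g, hg⟩ * x * ⟨g, hg⟩⁻¹,
    (inferInstance : (Cfsg.pPrimeCore 2 (centralizer ({y} : Set G))).Normal).conj_mem x hx _, rfl⟩

variable (h : Cfg S z)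

include h

/-- The four square roots of one in `S`. -/
theorem Cfg.exists_four : ∃ Z : Subgroup G, Nat.card Z = 4 ∧ z ∈ Z ∧ Z ≤ (S : Subgroup G) ∧
    ∀ x, x ∈ Z ↔ x ∈ (S : Subgroup G) ∧ x * x = 1 := by
  refine ⟨{ carrier := {x | x ∈ (S : Subgroup G) ∧ x * x = 1}
            one_mem' := ⟨one_mem _, one_mul 1⟩
            mul_mem' := fun {a b} ha hb => ⟨mul_mem ha.1 hb.1, ?_⟩
            inv_mem' := fun {a} ha => ⟨inv_mem ha.1, ?_⟩ }, h.four, ⟨h.zmem, ?_⟩, fun x hx => hx.1, fun x => Iff.rfl⟩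
  · rw [mul_assoc, ← mul_assoc b, ← h.central a ha.1 ha.2 b hb.1, mul_assoc, hb.2, mul_one, ha.2]
  · rw [← mul_inv_rev, ha.2, inv_one]
  · rw [← pow_two, ← h.zord, pow_orderOf_eq_one]

/-- With the character, `N(Z)` is strongly embedded. -/
theorem Cfg.exists_stronglyEmbedded [IsSimpleGroup G]
    (hchar : ∃ χ : IrrCharacter G, (∀ y ∈ oddPart z, (χ : G → ℂ) (z * y) = (χ : G → ℂ) z) ∧
      (χ : G → ℂ) 1 + 3 * (χ : G → ℂ) z = 0) :
    ∃ H : Subgroup G, Cfsg.IsStronglyEmbedded H := by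
  haveI : Fact (Nat.Prime 2) := ⟨Nat.prime_two⟩
  obtain ⟨χ, hconst, hsum⟩ := hchar
  obtain ⟨n, ρ, hirr, hχ⟩ := id χ.2
  rw [← hχ] at hconst hsum
  haveI := hirr
  have hρ : Function.Injective ρ := by
    rcases (MonoidHom.normal_ker (ρ : G →* Module.End ℂ (Fin n → ℂ))).eq_bot_or_eq_top with hk | hk
    · intro a b e
      have h1 : a * b⁻¹ ∈ (ρ : G →* Module.End ℂ (Fin n → ℂ)).ker := by
        rw [MonoidHom.mem_ker]
        show ρ (a * b⁻¹) = 1
        rw [map_mul, e, ← map_mul, mul_inv_cancel, map_one]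
      rw [hk, mem_bot, mul_inv_eq_one] at h1
      exact h1
    · exfalso
      haveI : Nontrivial (Fin n → ℂ) := Cfsg.Agent.Char.nontrivial_of_irreducible ρ
      have hn : 0 < n := by
        have := Module.finrank_pos (R := ℂ) (M := Fin n → ℂ)
        rwa [Module.finrank_fin_fun] at this
      have h1 : ρ z = LinearMap.id := (MonoidHom.mem_ker.1 (hk ▸ mem_top z) :)
      rw [(Char.char_eq_degree_iff ρ z).2 h1, Representation.char_one, Module.finrank_fin_fun] at hsum
      have h4 : ((4 * n : ℕ) : ℂ) = 0 := by push_cast; linear_combination hsum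
      rw [Nat.cast_eq_zero] at h4
      omega
  obtain ⟨Z, hZc, hzZ, hZS, hZ⟩ := h.exists_four
  have hzz : z * z = 1 := ((hZ z).1 hzZ).2
  have hord : ∀ u ∈ Z, u ≠ 1 → orderOf u = 2 := fun u hu hu1 =>
    orderOf_eq_prime (by rw [pow_two]; exact ((hZ u).1 hu).2) hu1
  have hchiZ : ∀ u ∈ Z, u ≠ 1 → ρ.character u = ρ.character z := fun u hu hu1 => by
    obtain ⟨g, hg⟩ := isConj_iff.1 (h.invol u (hord u hu hu1))
    rw [← hg, ρ.char_conj]
  have hSC : (S : Subgroup G) ≤ centralizer ({z} : Set G) := fun y hy =>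
    mem_centralizer_singleton_iff.2 (h.central z h.zmem hzz y hy).symm
  -- `t(z)` centralises `Z`
  have htZ : ∀ y ∈ oddPart z, ∀ u ∈ Z, u * y = y * u := by
    intro y hy u hu
    rcases eq_or_ne u 1 with rfl | hu1
    · rw [one_mul, mul_one]
    rcases eq_or_ne u z with rfl | huz
    · exact (mem_centralizer_singleton_iff.1 (oddPart_le_cent _ hy)).symm
    refine commute_of_char ρ hρ hzz ((hZ u).1 hu).2 (h.central z h.zmem hzz u (hZS hu)) ?_
      (fun w hw => (mem_centralizer_singleton_iff.1 (oddPart_le_cent _ hw)).symm)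
      (fun w hw => oddPart_conj (hSC (hZS hu)) hw) hconst hy
    have hzu1 : z * u ≠ 1 := fun e => huz (mul_left_cancel (e.trans hzz.symm))
    rw [hchiZ u hu hu1, hchiZ _ (mul_mem hzZ hu) hzu1]
    linear_combination hsum
  set M := normalizer ((Z : Subgroup G) : Set G) with hM
  have hnormS : ∀ g, (∀ y ∈ (S : Subgroup G), g * y * g⁻¹ ∈ (S : Subgroup G)) → g ∈ M := by
    intro g hg
    haveI := Fintype.ofFinite Z
    refine mem_normalizer_fintype ?_
    intro x hx
    exact (hZ _).2 ⟨hg x (hZS hx), by rw [conj_mul, ((hZ x).1 hx).2, mul_one, mul_inv_cancel]⟩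
  have hCz : centralizer ({z} : Set G) ≤ M := by
    intro g hg
    obtain ⟨c, -, -, hcS, -, -, hgen⟩ := h.five
    obtain ⟨o, ho, y, hy, i, rfl⟩ := hgen g (mem_centralizer_singleton_iff.1 hg)
    refine mul_mem (mul_mem ?_ (hnormS y fun a ha => mul_mem (mul_mem hy ha) (inv_mem hy))) (pow_mem (hnormS c hcS) i)
    refine mem_normalizer_iff.2 fun x => ⟨fun hx => ?_, fun hx => ?_⟩
    · rwa [← htZ o ho x hx, mul_inv_cancel_right]
    · have h1 := htZ o ho _ hx
      rw [inv_mul_cancel_right] at h1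
      have h2 : x = o * x * o⁻¹ := mul_left_cancel h1
      rwa [h2]
  -- fusion in `N(S)`
  have hfus : ∀ u ∈ Z, u ≠ 1 → ∃ n' ∈ M, n' * z * n'⁻¹ = u := by
    intro u hu hu1
    obtain ⟨g, hg⟩ := isConj_iff.1 (h.invol u (hord u hu hu1))
    have hcS : ∀ a ∈ Z, a ∈ centralizer ((S : Subgroup G) : Set G) := fun a ha =>
      mem_centralizer_iff.2 fun y hy => (h.central a (hZS ha) ((hZ a).1 ha).2 y hy).symm
    obtain ⟨m, hm, hmz⟩ := S.conj_eq_normalizer_conj_of_mem_centralizer z g⁻¹ (hcS z hzZ)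
      (by rw [inv_inv, hg]; exact hcS u hu)
    refine ⟨m⁻¹, inv_mem (hnormS m fun a ha => (mem_normalizer_iff.1 hm a).1 ha), ?_⟩
    rw [inv_inv, ← hmz, inv_inv, hg]
  have hCv : ∀ u ∈ Z, u ≠ 1 → centralizer ({u} : Set G) ≤ M := by
    intro u hu hu1 g hg
    obtain ⟨m, hm, rfl⟩ := hfus u hu hu1
    have h1 : m⁻¹ * g * m ∈ M := hCz (mem_centralizer_singleton_iff.2 (by
      have h2 := congrArg (fun w => m⁻¹ * w * m) (mem_centralizer_singleton_iff.1 hg)
      simp only [mul_assoc, inv_mul_cancel_left, mul_inv_cancel_left] at h2 ⊢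
      simpa [mul_assoc] using h2))
    simpa [mul_assoc] using mul_mem (mul_mem hm h1) (inv_mem hm)
  have hSM : (S : Subgroup G) ≤ M := fun y hy => hnormS y fun a ha => mul_mem (mul_mem hy ha) (inv_mem hy)
  -- an involution of `M` is conjugate into `Z`
  have hinto : ∀ v ∈ M, orderOf v = 2 → ∃ m ∈ M, m * v * m⁻¹ ∈ Z := by
    intro v hv hv2
    let S' : Sylow 2 M := S.subtype hSM
    have hp : IsPGroup 2 (zpowers (⟨v, hv⟩ : M)) := IsPGroup.of_card (n := 1) (by
      rw [Nat.card_zpowers, orderOf_mk, hv2, pow_one])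
    obtain ⟨Q, hQ⟩ := hp.exists_le_sylow
    obtain ⟨m, hm⟩ := MulAction.exists_smul_eq M Q S'
    refine ⟨m, m.2, (hZ _).2 ⟨?_, ?_⟩⟩
    · have h1 : m * ⟨v, hv⟩ * m⁻¹ ∈ ((m • Q : Sylow 2 M) : Subgroup M) := by
        rw [Sylow.coe_subgroup_smul, mem_smul_pointwise_iff_exists]
        exact ⟨_, hQ (mem_zpowers _), by rw [MulAut.smul_def, MulAut.conj_apply]⟩
      rw [hm] at h1
      exact h1
    · have : v * v = 1 := by rw [← pow_two, ← hv2, pow_orderOf_eq_one]
      rw [conj_mul, this, mul_one, mul_inv_cancel]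
  refine ⟨M, fun htop => ?_, ?_, fun g hg => ?_⟩
  · haveI : Z.Normal := normalizer_eq_top_iff.1 htop
    rcases Subgroup.Normal.eq_bot_or_eq_top ‹Z.Normal› with e | e
    · rw [e, card_bot] at hZc; omega
    · have := card_dvd_of_le (le_top : (S : Subgroup G) ≤ ⊤)
      rw [← e, hZc, h.card] at this
      omega
  · rw [even_iff_two_dvd, ← h.zord]
    exact orderOf_dvd_natCard M (hSM h.zmem)
  · rw [← Nat.not_even_iff_odd, even_iff_two_dvd]
    intro h2
    obtain ⟨⟨v, hv1, hv2⟩, hv⟩ := exists_prime_orderOf_dvd_card' 2 h2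
    replace hv : orderOf v = 2 := by rw [← hv, ← Subgroup.orderOf_coe]
    obtain ⟨b, hb, hbv⟩ := hv2
    replace hbv : g * b * g⁻¹ = v := hbv
    obtain ⟨m, hm, hma⟩ := hinto v hv1 hv
    obtain ⟨m', hm', hmb⟩ := hinto b hb (by
      rw [← hbv] at hv
      exact ((SemiconjBy.orderOf_eq g (show g * b = (g * b * g⁻¹) * g by group)).trans hv))
    have hne : ∀ {a c : G}, orderOf a = 2 → c * a * c⁻¹ ≠ 1 := fun {a c} ha e => by
      rw [conj_eq_one_iff] at e
      rw [e, orderOf_one] at ha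
      omega
    have hb2 : orderOf b = 2 := by
      rw [← hbv] at hv
      exact ((SemiconjBy.orderOf_eq g (show g * b = (g * b * g⁻¹) * g by group)).trans hv)
    obtain ⟨n₁, hn₁, e₁⟩ := hfus _ hma (hne hv)
    obtain ⟨n₂, hn₂, e₂⟩ := hfus _ hmb (hne hb2)
    have hk : n₁⁻¹ * m * g * m'⁻¹ * n₂ ∈ M := hCv z hzZ (fun e => by
      have := h.zord; rw [e, orderOf_one] at this; omega) (mem_centralizer_singleton_iff.2 (by
        have e1 : z = n₁⁻¹ * (m * v * m⁻¹) * n₁ := by rw [← e₁]; group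
        have e2 : z = n₂⁻¹ * (m' * b * m'⁻¹) * n₂ := by rw [← e₂]; group
        conv_lhs => rw [e2]
        conv_rhs => rw [e1, ← hbv]
        group))
    have := mul_mem (mul_mem (mul_mem (inv_mem (mul_mem (inv_mem hn₁) hm)) hk) (inv_mem hn₂)) hm'
    exact hg (by simpa [mul_assoc] using this)

end Cfsg.Agent.U34Block
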