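import Cfsg.Agent.Lib.U34Rec.BlockSetup

/-!
What the exclusion of the automiser of order 3 in the recognition of `U₃(4)` uses about the group.
-/

set_option autoImplicit false

namespace Cfsg.Agent.U34Three

open Cfsg.Agent.U34Block (oddPart)

universe u

variable {G : Type u} [Group G]

/-- A Sylow 2-subgroup of the type of `U₃(4)` whose fusion is that of `S⟨m⟩`, `m` fixed-point-free with cube
centralising `S`, and the centralisers of its non-trivial elements are 2-nilpotent. -/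
structure C3Cfg (S : Sylow 2 G) (m : G) : Prop where
  card : Nat.card (S : Subgroup G) = 64
  pow_four : ∀ x ∈ (S : Subgroup G), x ^ 4 = 1
  four : Nat.card {x : G // x ∈ (S : Subgroup G) ∧ x * x = 1} = 4
  central : ∀ x ∈ (S : Subgroup G), x * x = 1 → ∀ y ∈ (S : Subgroup G), x * y = y * x
  comm : ∀ x ∈ (S : Subgroup G), x * x ≠ 1 → ∀ w ∈ (S : Subgroup G), w * w = 1 →
    ∃ y ∈ (S : Subgroup G), y * x * y⁻¹ = x * w
  norm : ∀ y ∈ (S : Subgroup G), m * y * m⁻¹ ∈ (S : Subgroup G)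
  cube : ∀ y ∈ (S : Subgroup G), m ^ 3 * y = y * m ^ 3
  fpf : ∀ y ∈ (S : Subgroup G), m * y = y * m → y = 1
  fusion : ∀ x ∈ (S : Subgroup G), ∀ g : G, g * x * g⁻¹ ∈ (S : Subgroup G) →
    ∃ y ∈ (S : Subgroup G), ∃ i : ℕ, g * x * g⁻¹ = y * m ^ i * x * (y * m ^ i)⁻¹
  cen : ∀ x ∈ (S : Subgroup G), x ≠ 1 → ∀ g : G, g * x = x * g →
    ∃ o ∈ oddPart x, o⁻¹ * g ∈ (S : Subgroup G)

end Cfsg.Agent.U34Three
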