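import Cfsg.Agent.Lib.U34Rec.Automiser
import Cfsg.Agent.Lib.U34Rec.ThreeSetup

/-!
A simple group with a Sylow 2-subgroup of the type of `U₃(4)`: one class of involutions, and either the
configuration of the block half (automiser of order 15) or that of the automiser of order 3.
-/

set_option autoImplicit false
set_option linter.style.haveILetI false
set_option linter.unusedSectionVars false

namespace Cfsg.Agent.U34Group

open Subgroup
open Cfsg.Agent.U34Block (oddPart)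

universe u

variable {G : Type u} [Group G] [Finite G] {S : Sylow 2 G} (hS : Shape (S : Subgroup G))
include hS

theorem norm_Zs {n w : G} (hn : n ∈ normalizer ((S : Subgroup G) : Set G)) (hw : w ∈ Zs (S : Subgroup G)) :
    n * w * n⁻¹ ∈ Zs (S : Subgroup G) :=
  (mem_Zs hS).2 ⟨conj_mem_S hS hn (Zs_le hS hw), by
    rw [conj_mul, ((mem_Zs hS).1 hw).2, mul_one, mul_inv_cancel]⟩

theorem norm_le_norm_Zs {n : G} (hn : n ∈ normalizer ((S : Subgroup G) : Set G)) :
    n ∈ normalizer (Zs (S : Subgroup G) : Set G) :=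
  Subgroup.mem_normalizer_fintype fun _ hw => norm_Zs hS hn hw

/-- An involution is conjugate to one in `Z`. -/
theorem conj_into_Zs {t : G} (ht : t * t = 1) : ∃ g : G, g * t * g⁻¹ ∈ Zs (S : Subgroup G) := by
  have hp : IsPGroup 2 (zpowers t) := by
    rintro ⟨_, i, rfl⟩
    refine ⟨1, Subtype.ext ?_⟩
    show (t ^ i) ^ 2 ^ 1 = 1
    rw [pow_one, pow_two, ← zpow_add, ← two_mul, zpow_mul, zpow_two, ht, one_zpow]
  obtain ⟨g, hg⟩ := exists_conj_into hS hp
  exact ⟨g, (mem_Zs hS).2 ⟨hg t (mem_zpowers t), by rw [conj_mul, ht, mul_one, mul_inv_cancel]⟩⟩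

/-- An element of odd order of `N(S)` moves an element of `Z`, or an involution of `Z` is isolated. -/
theorem exists_mover_or_isolated :
    (∃ m ∈ normalizer ((S : Subgroup G) : Set G), Odd (orderOf m) ∧
      ∃ w ∈ Zs (S : Subgroup G), m * w * m⁻¹ ≠ w) ∨
      ∃ z ∈ Zs (S : Subgroup G), z ≠ 1 ∧ Cfsg.IsIsolated z := by
  classical
  haveI : Fact (Nat.Prime 2) := ⟨Nat.prime_two⟩
  by_cases hmove : ∃ n ∈ normalizer ((S : Subgroup G) : Set G), ∃ w ∈ Zs (S : Subgroup G), n * w * n⁻¹ ≠ w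
  · obtain ⟨n, hn, w, hw, hne⟩ := hmove
    obtain ⟨a, b, ⟨⟨k, hk⟩, hab⟩, ⟨i, hi⟩, ⟨j, hj⟩, hb⟩ := exists_two_split n
    have haN : a ∈ normalizer ((S : Subgroup G) : Set G) := hi ▸ pow_mem hn i
    have hbN : b ∈ normalizer ((S : Subgroup G) : Set G) := hj ▸ pow_mem hn j
    refine Or.inl ⟨b, hbN, hb, w, hw, fun e => hne ?_⟩
    rw [← hab, show a * b * w * (a * b)⁻¹ = a * (b * w * b⁻¹) * a⁻¹ by group, e,
      ← Zs_comm hS hw (two_part_mem hS hk haN), mul_inv_cancel_right]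
  simp only [not_exists, not_and, not_not] at hmove
  obtain ⟨x, hx, -, -, hx2, -, -⟩ := exists_two_sq hS
  have hzm := sq_mem_Zs hS hx
  set z := x * x with hzdef
  have hz2 : z * z = 1 := ((mem_Zs hS).1 hzm).2
  have hSz : ∀ y ∈ (S : Subgroup G), z * y = y * z := fun y hy => Zs_comm hS hzm hy
  have hiso : Cfsg.IsIsolated z := by
    intro g hc
    set t := g * z * g⁻¹ with ht
    have hle : (S : Subgroup G) ≤ centralizer ({z} : Set G) := fun y hy =>
      mem_centralizer_singleton_iff.2 (hSz y hy).symm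
    have ht2 : t * t = 1 := by rw [ht, conj_mul, hz2, mul_one, mul_inv_cancel]
    have htm : t ∈ centralizer ({z} : Set G) := mem_centralizer_singleton_iff.2 hc.eq.symm
    have hp : IsPGroup 2 (zpowers (⟨t, htm⟩ : centralizer ({z} : Set G))) := by
      rintro ⟨_, i, rfl⟩
      refine ⟨1, Subtype.ext ?_⟩
      show ((⟨t, htm⟩ : centralizer ({z} : Set G)) ^ i) ^ 2 ^ 1 = 1
      rw [pow_one, pow_two, ← zpow_add, ← two_mul, zpow_mul, zpow_two,
        show (⟨t, htm⟩ : centralizer ({z} : Set G)) * ⟨t, htm⟩ = 1 from Subtype.ext ht2, one_zpow]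
    obtain ⟨P, hP⟩ := hp.exists_le_sylow
    obtain ⟨k, hk⟩ := MulAction.exists_smul_eq (centralizer ({z} : Set G)) P (S.subtype hle)
    have htS : (k : G) * t * (k : G)⁻¹ ∈ (S : Subgroup G) := by
      have h' := Subgroup.smul_mem_pointwise_smul _ (MulAut.conj k) _ (hP (mem_zpowers _))
      rw [← Sylow.pointwise_smul_def, ← Sylow.smul_def, hk, Sylow.coe_subtype, mem_subgroupOf] at h'
      exact h'
    have htZ : (k : G) * t * (k : G)⁻¹ ∈ Zs (S : Subgroup G) :=
      (mem_Zs hS).2 ⟨htS, by rw [conj_mul, ht2, mul_one, mul_inv_cancel]⟩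
    obtain ⟨n, hn, hne⟩ := S.conj_eq_normalizer_conj_of_mem_centralizer z ((k : G) * g)⁻¹
      (mem_centralizer_iff.2 fun y hy => (hSz y hy).symm) (by
        rw [inv_inv, show (k : G) * g * z * ((k : G) * g)⁻¹ = (k : G) * t * (k : G)⁻¹ by rw [ht]; group]
        exact mem_centralizer_iff.2 fun y hy => (Zs_comm hS htZ hy).symm)
    rw [inv_inv, show (k : G) * g * z * ((k : G) * g)⁻¹ = (k : G) * t * (k : G)⁻¹ by rw [ht]; group] at hne
    have h1 : n⁻¹ * z * n⁻¹⁻¹ = z := hmove n⁻¹ (inv_mem hn) z hzm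
    rw [inv_inv] at h1
    rw [h1] at hne
    calc t = (k : G)⁻¹ * ((k : G) * t * (k : G)⁻¹) * k := by group
      _ = (k : G)⁻¹ * (z * k) := by rw [hne, mul_assoc]
      _ = z := by rw [← mem_centralizer_singleton_iff.1 k.2, inv_mul_cancel_left]
  exact Or.inr ⟨z, hzm, hx2, hiso⟩

/-- An element of odd order of `N(S)` moving an element of `Z`. -/
theorem exists_mover [IsSimpleGroup G] :
    ∃ m ∈ normalizer ((S : Subgroup G) : Set G), Odd (orderOf m) ∧
      ∃ w ∈ Zs (S : Subgroup G), m * w * m⁻¹ ≠ w := by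
  refine (exists_mover_or_isolated hS).resolve_right ?_
  rintro ⟨z, hzm, hz1, hiso⟩
  obtain ⟨x, hx, -, -, hx2, -, -⟩ := exists_two_sq hS
  haveI : Fact (Nat.Prime 2) := ⟨Nat.prime_two⟩
  have hz2 : z * z = 1 := ((mem_Zs hS).1 hzm).2
  have htop := McLTwoA8.sup_oddCore_of_isolated z (Invol.order_two_of_sq hz2 hz1) hiso
  haveI hOn := FittingCores.pPrimeCore_normal (G := G) 2
  rcases hOn.eq_bot_or_eq_top with hO | hO
  · rw [show Cfsg.oddCore G = ⊥ from hO, sup_bot_eq] at htop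
    have hzc : z ∈ center G := mem_center_iff.2 fun g =>
      mem_centralizer_singleton_iff.1 (htop ▸ mem_top g)
    rcases (inferInstance : (center G).Normal).eq_bot_or_eq_top with hc | hc
    · exact hz1 (mem_bot.1 (hc ▸ hzc))
    · obtain ⟨y, hy, hye⟩ := hS.comm x hx hx2 z (Zs_le hS hzm) hz2
      rw [mem_center_iff.1 (hc ▸ mem_top x : x ∈ center G) y, mul_inv_cancel_right] at hye
      exact hz1 (mul_eq_left.1 hye.symm)
  · have h1 := FittingCores.pPrimeCore_coprime (G := G) 2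
    rw [hO, card_top] at h1
    have h2 : Nat.card (S : Subgroup G) ∣ Nat.card G := card_subgroup_dvd_card _
    rw [hS.card] at h2
    exact absurd (Nat.eq_one_of_dvd_coprimes h1 ((show 2 ∣ 64 by norm_num).trans h2) dvd_rfl) (by norm_num)

section Mover

variable {m : G} (hmN : m ∈ normalizer ((S : Subgroup G) : Set G)) (hmo : Odd (orderOf m))
  (hmv : ∃ w ∈ Zs (S : Subgroup G), m * w * m⁻¹ ≠ w)
include hmN hmo hmv

/-- fixed-point-free on `Z` -/
theorem mover_free {u : G} (hu : u ∈ Zs (S : Subgroup G)) (hu1 : u ≠ 1) : m * u * m⁻¹ ≠ u := fun e => by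
  obtain ⟨w, hw, hne⟩ := hmv
  exact hne (fix_Zs hS hmo (norm_le_norm_Zs hS hmN) hu hu1 e w hw)

theorem mover_free_two {u : G} (hu : u ∈ Zs (S : Subgroup G)) (hu1 : u ≠ 1) :
    m * (m * u * m⁻¹) * m⁻¹ ≠ u := fun e => mover_free hS hmN hmo hmv hu hu1 (by
  obtain ⟨k, hk⟩ := hmo
  have h2 : Commute (m * m) u :=
    mul_inv_eq_iff_eq_mul.1 ((show m * m * u * (m * m)⁻¹ = m * (m * u * m⁻¹) * m⁻¹ by group).trans e)
  have h3 : (m * m) ^ k * m = 1 := by
    rw [← pow_two, ← pow_mul, ← pow_succ, ← hk, pow_orderOf_eq_one]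
  rw [eq_inv_of_mul_eq_one_right h3, ((h2.pow_left k).inv_left).eq, mul_inv_cancel_right])

theorem mover_ncard {u : G} (hu : u ∈ Zs (S : Subgroup G)) (hu1 : u ≠ 1) {v : G}
    (hv : v ∈ Zs (S : Subgroup G)) :
    v = 1 ∨ v = u ∨ v = m * u * m⁻¹ ∨ v = m * (m * u * m⁻¹) * m⁻¹ := by
  classical
  by_contra h
  simp only [not_or] at h
  obtain ⟨h0, h1, h2, h3⟩ := h
  have hne : ∀ w : G, w ≠ 1 → m * w * m⁻¹ ≠ 1 := fun w hw e => hw (by
    rw [mul_inv_eq_one, mul_eq_left] at e; exact e)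
  have hu2 := norm_Zs hS hmN hu
  have e1 := mover_free hS hmN hmo hmv hu hu1
  have e2 := mover_free_two hS hmN hmo hmv hu hu1
  have e3 : m * (m * u * m⁻¹) * m⁻¹ ≠ m * u * m⁻¹ := fun e => e1 (mul_left_cancel (mul_right_cancel e))
  have h6 : ({v, m * (m * u * m⁻¹) * m⁻¹, m * u * m⁻¹, u, 1} : Set G) ⊆ (Zs (S : Subgroup G) : Set G) := by
    intro y hy
    rcases hy with rfl | rfl | rfl | rfl | rfl
    exacts [hv, norm_Zs hS hmN hu2, hu2, hu, one_mem _]
  have h7 : ({v, m * (m * u * m⁻¹) * m⁻¹, m * u * m⁻¹, u, 1} : Set G).ncard = 5 := by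
    rw [Set.ncard_insert_of_notMem (by simp [h0, h1, h2, h3]),
      Set.ncard_insert_of_notMem (by simp [e2, e3, hne _ (hne u hu1)]),
      Set.ncard_insert_of_notMem (by simp [e1, hne u hu1]), Set.ncard_pair hu1]
  have h8 := Set.ncard_le_ncard h6 (Set.toFinite _)
  rw [h7, ← Nat.card_coe_set_eq] at h8
  have h9 : 5 ≤ Nat.card (Zs (S : Subgroup G)) := h8
  rw [card_Zs hS] at h9
  omega

theorem mover_trans {u v : G} (hu : u ∈ Zs (S : Subgroup G)) (hu1 : u ≠ 1) (hv : v ∈ Zs (S : Subgroup G))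
    (hv1 : v ≠ 1) : ∃ i : ℕ, m ^ i * u * (m ^ i)⁻¹ = v := by
  rcases mover_ncard hS hmN hmo hmv hu hu1 hv with h | h | h | h
  · exact absurd h hv1
  · exact ⟨0, by simp [h]⟩
  · exact ⟨1, by rw [pow_one, h]⟩
  · exact ⟨2, by rw [h, pow_two]; group⟩

theorem mover_cube {u : G} (hu : u ∈ Zs (S : Subgroup G)) :
    m * (m * (m * u * m⁻¹) * m⁻¹) * m⁻¹ = u := by
  by_cases hu1 : u = 1
  · simp [hu1]
  have hu2 := norm_Zs hS hmN hu
  have hne : ∀ w : G, w ≠ 1 → m * w * m⁻¹ ≠ 1 := fun w hw e => hw (by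
    rw [mul_inv_eq_one, mul_eq_left] at e; exact e)
  rcases mover_ncard hS hmN hmo hmv hu hu1 (norm_Zs hS hmN (norm_Zs hS hmN hu2)) with h | h | h | h
  · exact absurd h (hne _ (hne _ (hne u hu1)))
  · exact h
  · exact absurd h (mover_free_two hS hmN hmo hmv hu2 (hne u hu1))
  · exact absurd h (mover_free hS hmN hmo hmv (norm_Zs hS hmN hu2) (hne _ (hne u hu1)))

/-- All involutions are conjugate. -/
theorem mover_invol {z : G} (hz : z ∈ Zs (S : Subgroup G)) (hz1 : z ≠ 1) {t : G} (ht : orderOf t = 2) :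
    IsConj z t := by
  obtain ⟨g, hg⟩ := conj_into_Zs hS (Invol.mul_self ht)
  obtain ⟨i, hi⟩ := mover_trans hS hmN hmo hmv hz hz1 hg (fun e => Invol.ne_one ht (by
    rw [mul_inv_eq_one, mul_eq_left] at e; exact e))
  exact isConj_iff.2 ⟨g⁻¹ * m ^ i, by
    rw [show g⁻¹ * m ^ i * z * (g⁻¹ * m ^ i)⁻¹ = g⁻¹ * (m ^ i * z * (m ^ i)⁻¹) * g by group, hi]; group⟩

end Mover

/-- Splitting an element of `N(S) ∩ C(Z)` trivial on `S ⧸ Z`. -/
theorem triv_split {n : G} (hn : n ∈ NK (S : Subgroup G)) (ht : Triv (S : Subgroup G) n) :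
    ∃ b a : G, n = b * a ∧ a ∈ (S : Subgroup G) ∧
      ∀ z ∈ Zs (S : Subgroup G), z ≠ 1 → b ∈ oddPart z := by
  obtain ⟨a, b, ⟨⟨k, hk⟩, hab⟩, ⟨i, hi⟩, ⟨j, hj⟩, hb⟩ := exists_two_split n
  have haN : a ∈ normalizer ((S : Subgroup G) : Set G) := hi ▸ pow_mem hn.2 i
  have haS := two_part_mem hS hk haN
  have hbN : b ∈ NK (S : Subgroup G) := hj ▸ pow_mem hn j
  have hbt : Triv (S : Subgroup G) b := fun y hy => by
    have e : b * y * b⁻¹ * y⁻¹ = a⁻¹ * (n * y * n⁻¹ * y⁻¹) * a * (a⁻¹ * y * a⁻¹⁻¹ * y⁻¹) := by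
      rw [← hab]; group
    rw [e, mul_assoc a⁻¹, Zs_comm hS (ht y hy) haS, inv_mul_cancel_left]
    exact mul_mem (ht y hy) (comm_mem_Zs hS (inv_mem haS) hy)
  have hbc := cen_of_triv hS hbN hb hbt
  refine ⟨b, a, ?_, haS, fun z hz hz1 => cen_S_odd hS hb
    (fun y hy => mul_inv_eq_iff_eq_mul.1 (hbc y hy)) hz hz1⟩
  rw [← hab]
  exact (mul_inv_eq_iff_eq_mul.1 (hbc a haS)).symm

/-- The two configurations. -/
theorem dichotomy [IsSimpleGroup G] :
    (∃ z, U34Block.Cfg S z) ∨ ∃ m, U34Three.C3Cfg S m := by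
  classical
  haveI : Fact (Nat.Prime 2) := ⟨Nat.prime_two⟩
  obtain ⟨m, hmN, hmo, hmv⟩ := exists_mover hS
  obtain ⟨x0, hx0, -, -, hx02, -, -⟩ := exists_two_sq hS
  have hz := sq_mem_Zs hS hx0
  set z := x0 * x0 with hzdef
  have hzord : orderOf z = 2 := Invol.order_two_of_sq ((mem_Zs hS).1 hz).2 hx02
  have hconj : ∀ k : ℕ, ∀ y ∈ (S : Subgroup G), m ^ k * y * (m ^ k)⁻¹ ∈ (S : Subgroup G) :=
    fun k y hy => conj_mem_S hS (pow_mem hmN k) hy
  rcases automiser hS with htriv | ⟨c, hcN, hco, hc5, hcfree, hcgen⟩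
  · -- the automiser of order three
    have hcen : ∀ u ∈ Zs (S : Subgroup G), u ≠ 1 → ∀ g : G, g * u = u * g →
        ∃ o ∈ oddPart u, o⁻¹ * g ∈ (S : Subgroup G) := by
      intro u hu hu1 g hg
      obtain ⟨o, ho, hn⟩ := (cen_invol hS hu hu1).1 g hg
      obtain ⟨b, a, hba, haS, hb⟩ := triv_split hS hn (htriv _ hn)
      refine ⟨o * b, mul_mem ho (hb u hu hu1), ?_⟩
      rw [show (o * b)⁻¹ * g = b⁻¹ * (o⁻¹ * g) by group, hba, inv_mul_cancel_left]
      exact haS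
    have hfpf : ∀ y ∈ (S : Subgroup G), m * y = y * m → y = 1 := by
      intro y hy e
      by_contra hy1
      by_cases hy2 : y * y = 1
      · exact mover_free hS hmN hmo hmv ((mem_Zs hS).2 ⟨hy, hy2⟩) hy1 (by rw [e, mul_inv_cancel_right])
      · refine mover_free hS hmN hmo hmv (sq_mem_Zs hS hy) hy2 ?_
        rw [← mul_assoc m, e, mul_assoc y, e, ← mul_assoc, mul_inv_cancel_right]
    have hm3 : m ^ 3 ∈ NK (S : Subgroup G) := by
      refine ⟨mem_centralizer_iff.2 fun u hu => ?_, pow_mem hmN 3⟩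
      have h := mover_cube hS hmN hmo hmv hu
      rw [show m * (m * (m * u * m⁻¹) * m⁻¹) * m⁻¹ = m ^ 3 * u * (m ^ 3)⁻¹ by
        rw [pow_succ, pow_two]; group] at h
      exact (mul_inv_eq_iff_eq_mul.1 h).symm
    refine Or.inr ⟨m, hS.card, fun x hx => pow_four hS hx, hS.four, hS.central, hS.comm,
      fun y hy => conj_mem_S hS hmN hy, fun y hy => ?_, hfpf, fun x hx g hgx => ?_,
      fun x hx hx1 g hg => ?_⟩
    · exact mul_inv_eq_iff_eq_mul.1
        (cen_of_triv hS hm3 (hmo.of_dvd_nat (orderOf_pow_dvd 3)) (htriv _ hm3) y hy)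
    · by_cases hx1 : x = 1
      · exact ⟨1, one_mem _, 0, by simp [hx1]⟩
      have hgx1 : g * x * g⁻¹ ≠ 1 := fun e => hx1 (by rw [mul_inv_eq_one, mul_eq_left] at e; exact e)
      have hsq : g * x * g⁻¹ * (g * x * g⁻¹) = g * (x * x) * g⁻¹ := by group
      by_cases hx2 : x * x = 1
      · obtain ⟨i, hi⟩ := mover_trans hS hmN hmo hmv ((mem_Zs hS).2 ⟨hx, hx2⟩) hx1
          ((mem_Zs hS).2 ⟨hgx, by rw [hsq, hx2, mul_one, mul_inv_cancel]⟩) hgx1
        exact ⟨1, one_mem _, i, by rw [one_mul, hi]⟩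
      have hgx2 : g * (x * x) * g⁻¹ ≠ 1 := fun e => hx2 (by rw [mul_inv_eq_one, mul_eq_left] at e; exact e)
      obtain ⟨i, hi⟩ := mover_trans hS hmN hmo hmv (sq_mem_Zs hS hx) hx2
        (hsq ▸ sq_mem_Zs hS hgx) hgx2
      set x1 := m ^ i * x * (m ^ i)⁻¹ with hx1def
      have hx1S : x1 ∈ (S : Subgroup G) := hconj i x hx
      set v := g * (x * x) * g⁻¹ with hv
      set k := g * (m ^ i)⁻¹ with hk
      have hkx : k * x1 * k⁻¹ = g * x * g⁻¹ := by rw [hk, hx1def]; group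
      have hv1 : x1 * x1 = v := by rw [← hi, hx1def]; group
      have hkv : k * v = v * k := by
        refine mul_inv_eq_iff_eq_mul.1 ?_
        calc k * v * k⁻¹ = k * x1 * k⁻¹ * (k * x1 * k⁻¹) := by rw [← hv1]; group
          _ = v := by rw [hkx, hsq]
      have hvZ : v ∈ Zs (S : Subgroup G) := hv1 ▸ sq_mem_Zs hS hx1S
      obtain ⟨o, ho, hs⟩ := hcen v hvZ hgx2 k hkv
      refine ⟨o⁻¹ * k, hs, i, ?_⟩
      set s := o⁻¹ * k with hsdef
      set x2 := s * x1 * s⁻¹ with hx2def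
      have hx2S : x2 ∈ (S : Subgroup G) := mul_mem (mul_mem hs hx1S) (inv_mem hs)
      have hox : g * x * g⁻¹ = o * x2 * o⁻¹ := by rw [← hkx, hx2def, hsdef]; group
      have hx2v : x2 * v = v * x2 := (Zs_comm hS hvZ hx2S).symm
      have hd : x2⁻¹ * (o * x2 * o⁻¹) = 1 := by
        have hdS : x2⁻¹ * (o * x2 * o⁻¹) ∈ (S : Subgroup G) := mul_mem (inv_mem hx2S) (hox ▸ hgx)
        have hdO : x2⁻¹ * (o * x2 * o⁻¹) ∈ oddPart v := by
          rw [show x2⁻¹ * (o * x2 * o⁻¹) = x2⁻¹ * o * x2⁻¹⁻¹ * o⁻¹ by group]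
          refine mul_mem (oddPart_conj ?_ ho) (inv_mem ho)
          exact (Commute.inv_left hx2v).eq
        exact orderOf_eq_one_iff.1 (Nat.eq_one_of_dvd_coprimes
          ((Nat.coprime_two_left.2 (oddPart_odd hdO)).pow_left 2)
          (orderOf_dvd_of_pow_eq_one (pow_four hS hdS)) dvd_rfl)
      rw [hox, ← inv_mul_eq_one.1 hd, hx2def, hx1def]
      group
    · by_cases hx2 : x * x = 1
      · exact hcen x ((mem_Zs hS).2 ⟨hx, hx2⟩) hx1 g hg
      · exact cen_four hS hx hx2 hg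
  · -- the automiser of order fifteen
    have hcZ : ∀ w ∈ Zs (S : Subgroup G), c * w = w * c := fun w hw =>
      mul_inv_eq_iff_eq_mul.1 (NK_fix hS hcN hw)
    have hcS : ∀ k : ℕ, ∀ y ∈ (S : Subgroup G), c ^ k * y * (c ^ k)⁻¹ ∈ (S : Subgroup G) :=
      fun k y hy => conj_mem_S hS (pow_mem hcN.2 k) hy
    -- elements outside `Z` with the same square lie in one orbit
    have hfib : ∀ x ∈ (S : Subgroup G), ∀ y ∈ (S : Subgroup G), x * x ≠ 1 → y * y = x * x →
        ∃ i : ℕ, ∃ w ∈ Zs (S : Subgroup G), c ^ i * x * (c ^ i)⁻¹ * w = y := by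
      intro x hx y hy hx2 hxy
      by_contra hcon
      simp only [not_exists, not_and] at hcon
      let F : (Fin 3 × Fin 5) × ↥(Zs (S : Subgroup G)) → G := fun p =>
        c ^ (p.1.2 : ℕ) * (m ^ (p.1.1 : ℕ) * x * (m ^ (p.1.1 : ℕ))⁻¹) * (c ^ (p.1.2 : ℕ))⁻¹ * p.2
      have hFS : ∀ p, F p ∈ (S : Subgroup G) := fun p =>
        mul_mem (hcS _ _ (hconj _ _ hx)) (Zs_le hS p.2.2)
      have hFsq : ∀ p, F p * F p = m ^ (p.1.1 : ℕ) * (x * x) * (m ^ (p.1.1 : ℕ))⁻¹ := by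
        intro p
        set a := c ^ (p.1.2 : ℕ) * (m ^ (p.1.1 : ℕ) * x * (m ^ (p.1.1 : ℕ))⁻¹) * (c ^ (p.1.2 : ℕ))⁻¹ with ha
        show a * p.2 * (a * p.2) = _
        rw [show a * (p.2 : G) * (a * p.2) = a * ((p.2 : G) * a) * p.2 by group,
          Zs_comm hS p.2.2 (hcS _ _ (hconj _ _ hx)), ← ha, ← mul_assoc a a, mul_assoc (a * a),
          ((mem_Zs hS).1 p.2.2).2, mul_one, ha, conj_mul,
          NK_fix hS (pow_mem hcN _) (sq_mem_Zs hS (hconj _ _ hx))]
        group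
      have hxk : ∀ k : ℕ, m ^ k * (x * x) * (m ^ k)⁻¹ ≠ 1 := fun k e => hx2 (by
        rw [mul_inv_eq_one, mul_eq_left] at e; exact e)
      have hFne : ∀ p, F p * F p ≠ 1 := fun p e => hxk _ ((hFsq p).symm.trans e)
      have hk3 : ∀ i j : Fin 3, m ^ (i : ℕ) * (x * x) * (m ^ (i : ℕ))⁻¹ =
          m ^ (j : ℕ) * (x * x) * (m ^ (j : ℕ))⁻¹ → i = j := by
        have hu := sq_mem_Zs hS hx
        have hu2 := norm_Zs hS hmN hu
        have hne1 : m * (x * x) * m⁻¹ ≠ 1 := by simpa using hxk 1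
        have e0 : m ^ 0 * (x * x) * (m ^ 0)⁻¹ = x * x := by simp
        have e1 : m ^ 1 * (x * x) * (m ^ 1)⁻¹ = m * (x * x) * m⁻¹ := by simp
        have e2 : m ^ 2 * (x * x) * (m ^ 2)⁻¹ = m * (m * (x * x) * m⁻¹) * m⁻¹ := by rw [pow_two]; group
        have f1 := mover_free hS hmN hmo hmv hu hx2
        have f2 := mover_free_two hS hmN hmo hmv hu hx2
        have f3 := mover_free hS hmN hmo hmv hu2 hne1
        intro i j h
        fin_cases i <;> fin_cases j <;> simp only at h ⊢ <;>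
          simp only [e0, e1, e2] at h <;>
          first | rfl | exact absurd h f1 | exact absurd h.symm f1 | exact absurd h f2 | exact absurd h.symm f2 | exact absurd h f3 | exact absurd h.symm f3
      have horb : ∀ k i j : ℕ, i ≤ j → j < 5 → ∀ w w' : ↥(Zs (S : Subgroup G)),
          c ^ i * (m ^ k * x * (m ^ k)⁻¹) * (c ^ i)⁻¹ * w = c ^ j * (m ^ k * x * (m ^ k)⁻¹) * (c ^ j)⁻¹ * w' →
            i = j := by
        intro k i j hij hj5 w w' e
        obtain ⟨d, rfl⟩ := Nat.exists_eq_add_of_le hij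
        by_contra hne
        have hxkS := hconj k x hx
        refine hcfree d (fun h => by omega) _ hxkS (fun e' => hxk k ?_) ?_
        · rwa [conj_mul] at e'
        set a := m ^ k * x * (m ^ k)⁻¹ with ha
        set q := (w : G) * (w' : G)⁻¹ with hq
        have hqZ : q ∈ Zs (S : Subgroup G) := mul_mem w.2 (inv_mem w'.2)
        have h2 : c ^ d * a * (c ^ d)⁻¹ = a * q := by
          calc c ^ d * a * (c ^ d)⁻¹
              = (c ^ i)⁻¹ * (c ^ (i + d) * a * (c ^ (i + d))⁻¹ * w') * (w' : G)⁻¹ * c ^ i := by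
                rw [pow_add]; group
            _ = a * ((c ^ i)⁻¹ * q * c ^ i) := by rw [← e, hq]; group
            _ = a * q := by
              rw [show (c ^ i)⁻¹ * q * c ^ i = (c ^ i)⁻¹ * q * (c ^ i)⁻¹⁻¹ by group,
                NK_fix hS (inv_mem (pow_mem hcN i)) hqZ]
        rw [h2, mul_assoc, Zs_comm hS hqZ (inv_mem hxkS), ← mul_assoc, mul_inv_cancel, one_mul]
        exact hqZ
      have hFinj : Function.Injective F := by
        rintro ⟨⟨k, i⟩, w⟩ ⟨⟨k', i'⟩, w'⟩ e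
        have hkk : k = k' := hk3 k k' (by
          have h := congrArg (fun t => t * t) e
          simp only [hFsq] at h
          exact h)
        subst hkk
        have hii : i = i' := by
          rcases le_total (i : ℕ) i' with h | h
          · exact Fin.ext (horb k i i' h i'.2 w w' e)
          · exact (Fin.ext (horb k i' i h i.2 w' w e.symm)).symm
        subst hii
        exact Prod.ext rfl (Subtype.ext (mul_left_cancel e))
      have hyF : ∀ p, F p ≠ y := by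
        rintro ⟨⟨k, i⟩, w⟩ e
        have hk0 : k = (0 : Fin 3) := hk3 k 0 (by
          have h := hFsq ((k, i), w)
          rw [e, hxy] at h
          simpa using h.symm)
        subst hk0
        exact hcon (i : ℕ) w w.2 (by simpa [F] using e)
      let J : ((Fin 3 × Fin 5) × ↥(Zs (S : Subgroup G)) ⊕ ↥(Zs (S : Subgroup G))) ⊕ Unit → ↥(S : Subgroup G) :=
        Sum.elim (Sum.elim (fun p => ⟨F p, hFS p⟩) fun w => ⟨w, Zs_le hS w.2⟩) fun _ => ⟨y, hy⟩
      have hJ : Function.Injective J := by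
        intro p q e
        have e' := congrArg Subtype.val e
        rcases p with (p | p) | p <;> rcases q with (q | q) | q <;>
          simp only [J, Sum.elim_inl, Sum.elim_inr] at e'
        · rw [hFinj e']
        · exact absurd (by rw [e']; exact ((mem_Zs hS).1 q.2).2) (hFne p)
        · exact absurd e' (hyF p)
        · exact absurd (by rw [← e']; exact ((mem_Zs hS).1 p.2).2) (hFne q)
        · rw [Subtype.ext e']
        · exact absurd (by rw [← hxy, ← e']; exact ((mem_Zs hS).1 p.2).2) hx2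
        · exact absurd e'.symm (hyF q)
        · exact absurd (by rw [← hxy, e']; exact ((mem_Zs hS).1 q.2).2) hx2
        · rfl
      have h1 := Nat.card_le_card_of_injective J hJ
      rw [Nat.card_sum, Nat.card_sum, Nat.card_prod, Nat.card_prod, card_Zs hS, hS.card, Nat.card_fin,
        Nat.card_fin, Nat.card_unique] at h1
      omega
    have horder : ∀ u : G, orderOf u = 4 → ∃ g : G, g * u * g⁻¹ ∈ (S : Subgroup G) ∧
        g * u * g⁻¹ * (g * u * g⁻¹) ≠ 1 := by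
      intro u hu
      obtain ⟨g, hg⟩ := exists_conj_into hS (R := zpowers u)
        (IsPGroup.of_card (n := 2) (by rw [Nat.card_zpowers, hu]; norm_num))
      refine ⟨g, hg u (mem_zpowers u), fun e => ?_⟩
      have h2 : u ^ 2 = 1 := by
        rw [conj_mul, mul_inv_eq_one, mul_eq_left] at e
        rw [pow_two]; exact e
      have := Nat.le_of_dvd (by norm_num) (orderOf_dvd_of_pow_eq_one h2)
      omega
    refine Or.inl ⟨z, hS.card, fun x hx => pow_four hS hx, hS.four, hS.central, Zs_le hS hz, hzord,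
      fun t ht => mover_invol hS hmN hmo hmv hz hx02 ht, fun u v hu hv => ?_, hS.comm,
      fun x hx hx2 g hg => cen_four hS hx hx2 hg, c, hco, hcZ z hz,
      fun y hy => conj_mem_S hS hcN.2 hy, ?_, fun y hy => ⟨fun e => ?_, fun e => hcZ y ((mem_Zs hS).2 ⟨hy, e⟩)⟩,
      fun g hg => ?_⟩
    · obtain ⟨g, hgS, hg2⟩ := horder u hu
      obtain ⟨g', hg'S, hg'2⟩ := horder v hv
      set a := g * u * g⁻¹ with ha
      set b := g' * v * g'⁻¹ with hb
      obtain ⟨i, hi⟩ := mover_trans hS hmN hmo hmv (sq_mem_Zs hS hgS) hg2 (sq_mem_Zs hS hg'S) hg'2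
      obtain ⟨j, w, hw, hj⟩ := hfib (m ^ i * a * (m ^ i)⁻¹) (hconj i a hgS) b hg'S
        (by rw [conj_mul, hi]; exact hg'2) (by rw [← hi]; group)
      obtain ⟨y, hy, hye⟩ := hS.comm b hg'S hg'2 w⁻¹ (Zs_le hS (inv_mem hw)) ((mem_Zs hS).1 (inv_mem hw)).2
      have h1 : c ^ j * (m ^ i * a * (m ^ i)⁻¹) * (c ^ j)⁻¹ = y * b * y⁻¹ := by
        rw [hye, ← hj, mul_inv_cancel_right]
      refine isConj_iff.2 ⟨g'⁻¹ * y⁻¹ * c ^ j * m ^ i * g, ?_⟩
      calc g'⁻¹ * y⁻¹ * c ^ j * m ^ i * g * u * (g'⁻¹ * y⁻¹ * c ^ j * m ^ i * g)⁻¹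
          = g'⁻¹ * y⁻¹ * (c ^ j * (m ^ i * a * (m ^ i)⁻¹) * (c ^ j)⁻¹) * y * g' := by rw [ha]; group
        _ = v := by rw [h1, hb]; group
    · exact cen_S_odd hS (hco.of_dvd_nat (orderOf_pow_dvd 5))
        (fun y hy => mul_inv_eq_iff_eq_mul.1
          (cen_of_triv hS (pow_mem hcN 5) (hco.of_dvd_nat (orderOf_pow_dvd 5)) hc5 y hy)) hz hx02
    · by_contra hy2
      refine hcfree 1 (by norm_num) y hy hy2 ?_
      rw [pow_one, e, mul_inv_cancel_right, mul_inv_cancel]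
      exact one_mem _
    · obtain ⟨o, ho, hn⟩ := (cen_invol hS hz hx02).1 g hg
      obtain ⟨i, hi⟩ := hcgen _ hn
      obtain ⟨b, a, hba, haS, hb⟩ := triv_split hS (mul_mem hn (inv_mem (pow_mem hcN i))) hi
      refine ⟨o * b, mul_mem ho (hb z hz hx02), a, haS, i, ?_⟩
      rw [mul_assoc o, ← hba]
      group

end Cfsg.Agent.U34Group
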