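import Cfsg.Agent.Lib.U34Rec.Recognition

/-!
Recognition of `U₃(4)` from the type of its Sylow 2-subgroup: the reduced form.
-/

set_option autoImplicit false
set_option linter.style.haveILetI false
set_option linter.unusedSectionVars false

namespace Cfsg.Agent.U34Group

open Subgroup

universe u

variable {G : Type u} [Group G] [Finite G] {S : Sylow 2 G} (hS : Shape (S : Subgroup G))
include hS

theorem zs_invol {z : G} (hz : z ∈ Zs (S : Subgroup G)) (hz1 : z ≠ 1) : orderOf z = 2 :=
  Invol.order_two_of_sq ((mem_Zs hS).1 hz).2 hz1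

/-- A central involution: the Sylow subgroup is everything. -/
theorem top_of_central (hO : Cfsg.oddCore G = ⊥) (hO' : ∀ N : Subgroup G, N.Normal → Odd N.index → N = ⊤)
    {z : G} (hz : z ∈ Zs (S : Subgroup G)) (hz1 : z ≠ 1) (hc : z ∈ center G) : (S : Subgroup G) = ⊤ := by
  haveI : Fact (Nat.Prime 2) := ⟨Nat.prime_two⟩
  have hall : ∀ w ∈ Zs (S : Subgroup G), w ∈ center G := by
    intro w hw
    by_cases h1 : w = 1
    · rw [h1]; exact one_mem _
    by_cases h2 : w = z
    · rwa [h2]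
    have hiso : Cfsg.IsIsolated w := fun g hg =>
      isolated_in_cen hS hz hz1 hw h1 h2 (mem_center_iff.1 hc g) hg.eq
    have htop := McLTwoA8.sup_oddCore_of_isolated w (zs_invol hS hw h1) hiso
    rw [hO, sup_bot_eq] at htop
    exact mem_center_iff.2 fun g => mem_centralizer_singleton_iff.1 (htop ▸ mem_top g)
  set K := centralizer (Zs (S : Subgroup G) : Set G) with hK
  have hKtop : ∀ g : G, g ∈ K := fun g =>
    mem_centralizer_iff.2 fun w hw => (mem_center_iff.1 (hall w hw) g).symm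
  have hKn : K.Normal := ⟨fun a _ g => hKtop _⟩
  have hnorm : normalizer ((S : Subgroup G) : Set G) = ⊤ := eq_top_iff.2 fun g _ => by
    obtain ⟨o, ho, hn⟩ := cenZ hS (hKtop g)
    have h1 : o ∈ Cfsg.pPrimeCore 2 G := PBasic.map_pPrimeCore_le_of_normal K ho
    rw [show Cfsg.pPrimeCore 2 G = ⊥ from hO, mem_bot] at h1
    rwa [h1, inv_one, one_mul] at hn
  refine hO' _ (normalizer_eq_top_iff.1 hnorm) ?_
  rw [← Nat.not_even_iff_odd, even_iff_two_dvd]
  exact S.not_dvd_index

/-- The recognition of the reduced group. -/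
theorem reduced (hO : Cfsg.oddCore G = ⊥) (hO' : ∀ N : Subgroup G, N.Normal → Odd N.index → N = ⊤)
    {F : Type*} [Field F] [Fintype F] (hF : Fintype.card F = 16) (P : Sylow 2 (Cfsg.PSU 3 F 4)) :
    Nonempty (G ≃* Cfsg.PSU 3 F 4) ∨ (S : Subgroup G) = ⊤ := by
  classical
  haveI : Fact (Nat.Prime 2) := ⟨Nat.prime_two⟩
  rcases exists_mover_or_isolated hS with ⟨m, hmN, hmo, hmv⟩ | ⟨z, hz, hz1, hiso⟩
  swap
  · right
    have htop := McLTwoA8.sup_oddCore_of_isolated z (zs_invol hS hz hz1) hiso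
    rw [hO, sup_bot_eq] at htop
    exact top_of_central hS hO hO' hz hz1
      (mem_center_iff.2 fun g => mem_centralizer_singleton_iff.1 (htop ▸ mem_top g))
  left
  obtain ⟨x, hx, -, -, hx2, -, -⟩ := exists_two_sq hS
  set z := x * x with hzdef
  have hz : z ∈ Zs (S : Subgroup G) := sq_mem_Zs hS hx
  have hzo := zs_invol hS hz hx2
  have hconj : ∀ t : G, orderOf t = 2 → IsConj z t := fun t ht => mover_invol hS hmN hmo hmv hz hx2 ht
  have hevenmem : ∀ M : Subgroup G, M.Normal → M ≠ ⊥ → ∀ t : G, orderOf t = 2 → t ∈ M := by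
    intro M hM hM0 t ht
    have h2 : Even (Nat.card M) := by
      rw [← Nat.not_odd_iff_even]
      intro hodd
      exact hM0 (le_bot_iff.1 (hO ▸ SEBrick.le_oddCore hM hodd))
    obtain ⟨u, huM, hu⟩ := Invol.exists_invol h2
    obtain ⟨g, hg⟩ := isConj_iff.1 ((hconj u hu).symm.trans (hconj t ht))
    exact hg ▸ hM.conj_mem u huM g
  have hZle : ∀ M : Subgroup G, M.Normal → M ≠ ⊥ → Zs (S : Subgroup G) ≤ M := fun M hM hM0 w hw => by
    by_cases h : w = 1
    · rw [h]; exact one_mem _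
    · exact hevenmem M hM hM0 w (zs_invol hS hw h)
  have hO2 : Cfsg.pCore 2 G = ⊥ := by
    by_contra h
    have hVn : (Cfsg.pCore 2 G).Normal := Cfsg.pCore_normal 2 G
    have hVS : Cfsg.pCore 2 G ≤ (S : Subgroup G) := by
      obtain ⟨g, hg⟩ := exists_conj_into hS (PBasic.pCore_isPGroup 2 G)
      intro v hv
      have h1 := hg _ (hVn.conj_mem v hv g⁻¹)
      rwa [show g * (g⁻¹ * v * g⁻¹⁻¹) * g⁻¹ = v by group] at h1
    have hn : ∀ g : G, ∀ w ∈ Zs (S : Subgroup G), g * w * g⁻¹ ∈ Zs (S : Subgroup G) := fun g w hw =>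
      (mem_Zs hS).2 ⟨hVS (hVn.conj_mem w (hZle _ hVn h hw) g),
        by rw [conj_mul, ((mem_Zs hS).1 hw).2, mul_one, mul_inv_cancel]⟩
    have hKn : (centralizer (Zs (S : Subgroup G) : Set G)).Normal := ⟨fun a ha g => mem_centralizer_iff.2 fun w hw => by
      have h1 := mem_centralizer_iff.1 ha _ (hn g⁻¹ w hw)
      calc w * (g * a * g⁻¹) = g * (g⁻¹ * w * g⁻¹⁻¹ * a) * g⁻¹ := by group
        _ = g * (a * (g⁻¹ * w * g⁻¹⁻¹)) * g⁻¹ := by rw [h1]
        _ = _ := by group⟩
    have hodd : Odd (centralizer (Zs (S : Subgroup G) : Set G)).index := by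
      rw [← Nat.not_even_iff_odd, even_iff_two_dvd]
      exact fun h => S.not_dvd_index (h.trans (index_dvd_of_le (S_le_cenZs hS)))
    obtain ⟨w, hw, hne⟩ := hmv
    have h1 : m ∈ centralizer (Zs (S : Subgroup G) : Set G) := hO' _ hKn hodd ▸ mem_top m
    exact hne (by rw [← mem_centralizer_iff.1 h1 w hw, mul_inv_cancel_right])
  -- the unique minimal normal subgroup
  set N := normalClosure ({z} : Set G) with hN
  have hzN : z ∈ N := subset_normalClosure rfl
  have hN0 : N ≠ ⊥ := fun h => hx2 (mem_bot.1 (h ▸ hzN))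
  obtain ⟨T, ⟨hT0, hTN, hTn⟩, hTmin⟩ := Set.exists_min_image
    {T : Subgroup G | T ≠ ⊥ ∧ T ≤ N ∧ N ≤ normalizer (T : Set G)} (fun T => Nat.card T) (Set.toFinite _)
    ⟨N, hN0, le_rfl, le_normalizer⟩
  have hmin : ∀ U : Subgroup G, U ≤ T → N ≤ normalizer (U : Set G) → U = ⊥ ∨ U = T := fun U hU hn => by
    by_cases h : U = ⊥
    · exact Or.inl h
    · exact Or.inr (eq_of_le_of_card_ge hU (hTmin U ⟨h, hU.trans hTN, hn⟩))
  -- normal subgroups of `N` of odd or 2-power order are trivial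
  set T' := T.subgroupOf N with hT'
  haveI hT'n : T'.Normal := ⟨fun a ha c => (mem_normalizer_iff.1 (hTn c.2) (a : G)).1 ha⟩
  have hToc : Cfsg.pPrimeCore 2 T' = ⊥ := by
    have h1 : ((Cfsg.pPrimeCore 2 T').map T'.subtype).map N.subtype ≤ ⊥ :=
      (map_mono (PBasic.map_pPrimeCore_le_of_normal T')).trans
        ((PBasic.map_pPrimeCore_le_of_normal N).trans hO.le)
    rwa [le_bot_iff, map_eq_bot_iff_of_injective _ N.subtype_injective,
      map_eq_bot_iff_of_injective _ T'.subtype_injective] at h1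
  have hTnp : ¬ IsPGroup 2 T := fun h => hT0 (by
    have h1 : T' ≤ Cfsg.pCore 2 N := PBasic.le_pCore hT'n h.comap_subtype
    have h2 : T'.map N.subtype ≤ ⊥ := (map_mono h1).trans
      ((PBasic.map_pCore_le_of_normal N).trans hO2.le)
    rw [hT', subgroupOf_map_subtype, inf_eq_left.2 hTN] at h2
    exact le_bot_iff.1 h2)
  have hTeven : Even (Nat.card T) := by
    rw [← Nat.not_odd_iff_even]
    intro hodd
    have h1 : (Nat.card T').Coprime 2 := by
      rw [Nat.card_congr (subgroupOfEquivOfLe hTN).toEquiv]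
      exact (Nat.coprime_two_left.2 hodd).symm
    have h2 : T'.map N.subtype ≤ ⊥ := (map_mono (PBasic.le_pPrimeCore hT'n h1)).trans
      ((PBasic.map_pPrimeCore_le_of_normal N).trans hO.le)
    rw [hT', subgroupOf_map_subtype, inf_eq_left.2 hTN] at h2
    exact hT0 (le_bot_iff.1 h2)
  have hTc : ∀ t ∈ T, t ≠ 1 → ∃ s ∈ T, s * t ≠ t * s := by
    intro t ht ht1
    by_contra hcon
    push Not at hcon
    have hW : T ⊓ centralizer (T : Set G) = T := by
      refine (hmin _ inf_le_left ?_).resolve_left fun h => ht1 (mem_bot.1 (h ▸ mem_inf.2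
        ⟨ht, mem_centralizer_iff.2 fun s hs => hcon s hs⟩))
      intro c hc
      refine Subgroup.mem_normalizer_fintype fun a ha => ?_
      refine ⟨(mem_normalizer_iff.1 (hTn hc) a).1 ha.1, mem_centralizer_iff.2 fun s hs => ?_⟩
      have h1 := mem_centralizer_iff.1 ha.2 (c⁻¹ * s * c⁻¹⁻¹)
        ((mem_normalizer_iff.1 (inv_mem (hTn hc)) s).1 hs)
      calc s * (c * a * c⁻¹) = c * (c⁻¹ * s * c⁻¹⁻¹ * a) * c⁻¹ := by group
        _ = c * (a * (c⁻¹ * s * c⁻¹⁻¹)) * c⁻¹ := by rw [h1]
        _ = _ := by group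
    have hab : ∀ a ∈ T, ∀ b ∈ T, a * b = b * a := fun a ha b hb =>
      mem_centralizer_iff.1 (hW.ge hb).2 a ha
    let U : Subgroup G :=
      { carrier := {a | a ∈ T ∧ a * a = 1}
        one_mem' := ⟨one_mem _, one_mul 1⟩
        mul_mem' := fun {a b} ha hb => ⟨mul_mem ha.1 hb.1, by
          rw [show a * b * (a * b) = a * (b * a) * b by group, hab b hb.1 a ha.1,
            show a * (a * b) * b = a * a * (b * b) by group, ha.2, hb.2, one_mul]⟩
        inv_mem' := fun {a} ha => ⟨inv_mem ha.1, by rw [← mul_inv_rev, ha.2, inv_one]⟩ }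
    obtain ⟨u, huT, hu⟩ := Invol.exists_invol hTeven
    have hUT : U = T := (hmin U (fun a ha => ha.1) fun c hc => Subgroup.mem_normalizer_fintype fun a ha =>
      (⟨(mem_normalizer_iff.1 (hTn hc) a).1 ha.1, by
        rw [conj_mul, ha.2, mul_one, mul_inv_cancel]⟩ : c * a * c⁻¹ ∈ U)).resolve_left fun h =>
          Invol.ne_one hu (mem_bot.1 (h ▸ (⟨huT, Invol.mul_self hu⟩ : u ∈ U)))
    exact hTnp fun a => ⟨1, Subtype.ext (by
      rw [SubgroupClass.coe_pow, Subgroup.coe_one, pow_one, pow_two]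
      exact (hUT.ge a.2).2)⟩
  -- two commuting involutions in `T`
  obtain ⟨t, s, htT, hsT, ht, hs, hst, hne⟩ :
      ∃ t s : G, t ∈ T ∧ s ∈ T ∧ orderOf t = 2 ∧ orderOf s = 2 ∧ t * s = s * t ∧ s ≠ t := by
    obtain ⟨t, htT, ht⟩ := Invol.exists_invol hTeven
    set t' : T' := ⟨⟨t, hTN htT⟩, htT⟩ with ht'
    have hniso : ¬ Cfsg.IsIsolated t' := fun h => by
      have htop := McLTwoA8.sup_oddCore_of_isolated t'
        ((Subgroup.orderOf_coe t').symm.trans ((Subgroup.orderOf_coe (t' : N)).symm.trans ht)) h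
      rw [show Cfsg.oddCore T' = ⊥ from hToc, sup_bot_eq] at htop
      obtain ⟨s, hs, hne⟩ := hTc t htT (Invol.ne_one ht)
      exact hne (congrArg (fun a : T' => ((a : N) : G))
        (mem_centralizer_singleton_iff.1 (htop ▸ mem_top (⟨⟨s, hTN hs⟩, hs⟩ : T'))))
    simp only [Cfsg.IsIsolated, not_forall] at hniso
    obtain ⟨c, hc, hcne⟩ := hniso
    refine ⟨t, ((c : N) : G) * t * ((c : N) : G)⁻¹, htT, mul_mem (mul_mem c.2 htT) (inv_mem c.2), ht,
      by rw [Invol.order_conj, ht], congrArg (fun a : T' => ((a : N) : G)) hc.eq, fun e => hcne ?_⟩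
    exact Subtype.ext (Subtype.ext e)
  -- `T` is normal in `G`
  have hTG : ∀ g : G, ∀ a ∈ T, g * a * g⁻¹ ∈ T := by
    intro g
    set U := T.map (MulAut.conj g).toMonoidHom with hU
    have hNn : N.Normal := normalClosure_normal
    have hUn : N ≤ normalizer (U : Set G) := fun c hc => Subgroup.mem_normalizer_fintype fun a ha => by
      obtain ⟨b, hb, rfl⟩ := ha
      exact ⟨g⁻¹ * c * g * b * (g⁻¹ * c * g)⁻¹, (mem_normalizer_iff.1 (hTn (by
        simpa using hNn.conj_mem c hc g⁻¹)) b).1 hb, by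
          show g * (g⁻¹ * c * g * b * (g⁻¹ * c * g)⁻¹) * g⁻¹ = c * (g * b * g⁻¹) * c⁻¹
          group⟩
    rcases hmin (T ⊓ U) inf_le_left ((le_inf hTn hUn).trans inf_normalizer_le_normalizer_inf) with h | h
    · exfalso
      have hUN : U ≤ N := by rintro _ ⟨b, hb, rfl⟩; exact hNn.conj_mem b (hTN hb) g
      have hcomm : ∀ a ∈ T, ∀ b ∈ U, a * b = b * a := fun a ha b hb => by
        have h1 : a * b * a⁻¹ * b⁻¹ ∈ T ⊓ U := mem_inf.2 ⟨by
          rw [show a * b * a⁻¹ * b⁻¹ = a * (b * a⁻¹ * b⁻¹) by group]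
          exact mul_mem ha ((mem_normalizer_iff.1 (hTn (hUN hb)) _).1 (inv_mem ha)),
          mul_mem ((mem_normalizer_iff.1 (hUn (hTN ha)) _).1 hb) (inv_mem hb)⟩
        rw [h, mem_bot, mul_inv_eq_one, mul_inv_eq_iff_eq_mul] at h1
        exact h1
      set u := g * t * g⁻¹ with hu
      have huU : u ∈ U := ⟨t, htT, rfl⟩
      have hu2 : u * u = 1 := Invol.mul_self (by rw [hu, Invol.order_conj, ht])
      have huT : u ∉ T := fun hh => Invol.ne_one ht (by
        have h1 : u ∈ T ⊓ U := ⟨hh, huU⟩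
        rw [h, mem_bot, hu, mul_inv_eq_one, mul_eq_left] at h1
        exact h1)
      have ht2 := Invol.mul_self ht
      have hs2 := Invol.mul_self hs
      set R := Subgroup.closure ({t, s, u} : Set G) with hR
      have hpair : ∀ a ∈ ({t, s, u} : Set G), ∀ b ∈ ({t, s, u} : Set G), a * b = b * a := by
        intro a ha b hb
        rcases ha with rfl | rfl | rfl <;> rcases hb with rfl | rfl | rfl <;>
          first | rfl | exact hst | exact hst.symm | exact hcomm _ htT _ huU | exact hcomm _ hsT _ huU | exact (hcomm _ htT _ huU).symm | exact (hcomm _ hsT _ huU).symm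
      haveI := isMulCommutative_closure hpair
      have hRsq : ∀ r ∈ R, r * r = 1 := by
        intro r hr
        induction hr using Subgroup.closure_induction with
        | mem a ha => rcases ha with rfl | rfl | rfl <;> assumption
        | one => exact one_mul 1
        | mul a b ha hb iha ihb =>
          have hab : b * a = a * b := congrArg Subtype.val
            (mul_comm' (⟨b, hb⟩ : Subgroup.closure ({t, s, u} : Set G)) ⟨a, ha⟩)
          rw [show a * b * (a * b) = a * (b * a) * b by group, hab,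
            show a * (a * b) * b = a * a * (b * b) by group, iha, ihb, one_mul]
        | inv a _ iha => rw [← mul_inv_rev, iha, inv_one]
      have h4 := card_le_four hS hRsq
      have h6 : ({u, t * s, s, t, 1} : Set G) ⊆ (R : Set G) := by
        intro v hv
        rcases hv with rfl | rfl | rfl | rfl | rfl
        exacts [subset_closure (by simp), mul_mem (subset_closure (by simp)) (subset_closure (by simp)),
          subset_closure (by simp), subset_closure (by simp), one_mem _]
      have ne1 : ∀ a ∈ T, u ≠ a := fun a ha e => huT (e ▸ ha)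
      have e1 : t * s ≠ 1 := fun e => hne (by
        rw [eq_inv_of_mul_eq_one_right e, inv_eq_of_mul_eq_one_right ht2])
      have e2 : t * s ≠ s := fun e => Invol.ne_one ht (mul_eq_right.1 e)
      have e3 : t * s ≠ t := fun e => Invol.ne_one hs (mul_eq_left.1 e)
      have h7 : ({u, t * s, s, t, 1} : Set G).ncard = 5 := by
        rw [Set.ncard_insert_of_notMem (by simp [ne1 _ (mul_mem htT hsT), ne1 _ hsT, ne1 _ htT, ne1 _ (one_mem T)]),
          Set.ncard_insert_of_notMem (by simp [e1, e2, e3]),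
          Set.ncard_insert_of_notMem (by simp [hne, Invol.ne_one hs]), Set.ncard_pair (Invol.ne_one ht)]
      have h8 := Set.ncard_le_ncard h6 (Set.toFinite _)
      rw [h7, ← Nat.card_coe_set_eq] at h8
      have h9 : 5 ≤ Nat.card R := h8
      omega
    · have hUeq : T = U := eq_of_le_of_card_ge (fun a ha => (h.ge ha).2)
        (le_of_eq (card_map_of_injective (MulAut.conj g).injective))
      intro a ha
      rw [hUeq]
      exact ⟨a, ha, rfl⟩
  have hTeq : T = N := le_antisymm hTN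
    (by
      haveI : T.Normal := ⟨fun a ha g => hTG g a ha⟩
      exact normalClosure_le_normal
        (Set.singleton_subset_iff.2 (hevenmem T inferInstance hT0 z hzo)))
  subst hTeq
  have hNn : N.Normal := normalClosure_normal
  haveI hsimple : IsSimpleGroup N := by
    haveI : Nontrivial N := N.nontrivial_iff_ne_bot.2 hN0
    refine ⟨fun M hM => ?_⟩
    have h1 := hmin (M.map N.subtype) (map_subtype_le _) fun c hc => Subgroup.mem_normalizer_fintype fun a ha => by
      obtain ⟨b, hb, rfl⟩ := ha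
      exact ⟨⟨c, hc⟩ * b * ⟨c, hc⟩⁻¹, hM.conj_mem b hb _, rfl⟩
    rcases h1 with h | h
    · exact Or.inl ((map_eq_bot_iff_of_injective _ N.subtype_injective).1 h)
    · exact Or.inr (map_injective N.subtype_injective (by rw [h, ← MonoidHom.range_eq_map, range_subtype]))
  have hZN : Zs (S : Subgroup G) ≤ N := hZle N hNn hN0
  obtain ⟨PN, hPN⟩ := exists_sylow_of_bound (P := ((S : Subgroup G) ⊓ N).subgroupOf N)
    ((S.isPGroup'.to_le inf_le_left).comap_subtype) fun R hR => by
      obtain ⟨g, hg⟩ := exists_conj_into hS (hR.map N.subtype)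
      rw [Nat.card_congr (subgroupOfEquivOfLe (inf_le_right : (S : Subgroup G) ⊓ N ≤ N)).toEquiv]
      exact Nat.card_le_card_of_injective (fun r : R => (⟨g * ((r : N) : G) * g⁻¹,
          hg _ ⟨r, r.2, rfl⟩, hNn.conj_mem _ (r : N).2 g⟩ : ↥((S : Subgroup G) ⊓ N)))
        fun a b e => Subtype.ext (Subtype.ext (mul_left_cancel (mul_right_cancel (congrArg Subtype.val e))))
  have hPm : ∀ a : N, a ∈ (PN : Subgroup N) ↔ (a : G) ∈ (S : Subgroup G) := fun a => by
    rw [hPN, mem_subgroupOf, mem_inf, and_iff_left a.2]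
  have hE4 : Nat.card ((Zs (S : Subgroup G)).subgroupOf N) = 4 := by
    rw [Nat.card_congr (subgroupOfEquivOfLe hZN).toEquiv, card_Zs hS]
  have hzc : ∃ a ∈ (PN : Subgroup N), ∃ b : N, a * b ≠ b * a := by
    obtain ⟨b, hb, hne⟩ := hTc z hzN hx2
    exact ⟨⟨z, hzN⟩, (hPm _).2 (Zs_le hS hz), ⟨b, hb⟩, fun e => hne (congrArg Subtype.val e).symm⟩
  rcases type_of_four PN (E := (Zs (S : Subgroup G)).subgroupOf N)
      (fun a ha => (hPm a).2 (Zs_le hS ha)) hE4 (fun a ha => Subtype.ext ((mem_Zs hS).1 ha).2)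
      (fun a ha ha2 => (mem_Zs hS).2 ⟨(hPm a).1 ha, congrArg Subtype.val ha2⟩) hzc hF P with
    ⟨-, h4⟩ | ⟨⟨e⟩⟩
  · exfalso
    -- the trace of `S` in `N` is `Z`
    have hPZ : ∀ a : N, a ∈ (PN : Subgroup N) → (a : G) ∈ Zs (S : Subgroup G) := fun a ha => by
      have h5 : (Zs (S : Subgroup G)).subgroupOf N = (PN : Subgroup N) :=
        eq_of_le_of_card_ge (fun c hc => (hPm c).2 (Zs_le hS hc)) (by rw [hE4]; exact h4.le)
      exact (h5.ge ha : a ∈ (Zs (S : Subgroup G)).subgroupOf N)
    -- an element of `N` normalising `Z` and moving `z`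
    obtain ⟨b, hbN, hbZ, hbz⟩ : ∃ b ∈ N, (∀ w ∈ Zs (S : Subgroup G), b * w * b⁻¹ ∈ Zs (S : Subgroup G)) ∧
        b * z * b⁻¹ ≠ z := by
      set z' : N := ⟨z, hzN⟩ with hz'
      have hPc : (PN : Subgroup N) ≤ centralizer ({z'} : Set N) := fun a ha =>
        mem_centralizer_singleton_iff.2 (Subtype.ext (Zs_comm hS hz ((hPm a).1 ha)).symm)
      have hniso : ¬ Cfsg.IsIsolated z' := fun h => by
        obtain ⟨a, -, c, hac⟩ := hzc
        haveI := FittingCores.pPrimeCore_normal (G := N) 2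
        have htop := McLTwoA8.sup_oddCore_of_isolated z' (by rw [hz', Subgroup.orderOf_mk, hzo]) h
        rw [show Cfsg.oddCore N = ⊥ from ?_, sup_bot_eq] at htop
        · obtain ⟨s, hs, hne⟩ := hTc z hzN hx2
          exact hne (congrArg (fun a : N => (a : G))
            (mem_centralizer_singleton_iff.1 (htop ▸ mem_top (⟨s, hs⟩ : N))))
        · have h1 := (PBasic.map_pPrimeCore_le_of_normal (p := 2) N).trans hO.le
          rwa [le_bot_iff, map_eq_bot_iff_of_injective _ N.subtype_injective] at h1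
      simp only [Cfsg.IsIsolated, not_forall] at hniso
      obtain ⟨c, hc, hcne⟩ := hniso
      set t1 := c * z' * c⁻¹ with ht1
      have hz2' : z' * z' = 1 := Subtype.ext ((mem_Zs hS).1 hz).2
      have ht12 : t1 * t1 = 1 := by rw [ht1, conj_mul, hz2', mul_one, mul_inv_cancel]
      have htm : t1 ∈ centralizer ({z'} : Set N) := mem_centralizer_singleton_iff.2 hc.eq.symm
      have hp : IsPGroup 2 (zpowers (⟨t1, htm⟩ : centralizer ({z'} : Set N))) :=
        IsPGroup.of_card (n := 1) (by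
          rw [Nat.card_zpowers, Subgroup.orderOf_mk, pow_one]
          exact Invol.order_two_of_sq ht12 fun e => hx2 (congrArg Subtype.val (by
            rw [ht1, mul_inv_eq_one, mul_eq_left] at e; exact e : z' = 1)))
      obtain ⟨Q, hQ⟩ := hp.exists_le_sylow
      obtain ⟨k, hk⟩ := MulAction.exists_smul_eq (centralizer ({z'} : Set N)) Q (PN.subtype hPc)
      have hkS : (k : N) * t1 * (k : N)⁻¹ ∈ (PN : Subgroup N) := by
        have h' := Subgroup.smul_mem_pointwise_smul _ (MulAut.conj k) _ (hQ (mem_zpowers _))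
        rw [← Sylow.pointwise_smul_def, ← Sylow.smul_def, hk, Sylow.coe_subtype, mem_subgroupOf] at h'
        exact h'
      obtain ⟨n, hn, hne⟩ := PN.conj_eq_normalizer_conj_of_mem_centralizer z' ((k : N) * c)⁻¹
        (mem_centralizer_iff.2 fun y hy => (Subtype.ext (Zs_comm hS hz ((hPm y).1 hy))).symm) (by
          rw [inv_inv, show (k : N) * c * z' * ((k : N) * c)⁻¹ = (k : N) * t1 * (k : N)⁻¹ by rw [ht1]; group]
          exact mem_centralizer_iff.2 fun y hy =>
            (Subtype.ext (Zs_comm hS (hPZ _ hkS) ((hPm y).1 hy))).symm)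
      rw [inv_inv, show (k : N) * c * z' * ((k : N) * c)⁻¹ = (k : N) * t1 * (k : N)⁻¹ by rw [ht1]; group] at hne
      refine ⟨((n⁻¹ : N) : G), (n⁻¹).2, fun w hw => ?_, fun e => hcne ?_⟩
      · exact hPZ (n⁻¹ * ⟨w, hZN hw⟩ * n⁻¹⁻¹)
          ((mem_normalizer_iff.1 (inv_mem hn) ⟨w, hZN hw⟩).1 ((hPm _).2 (Zs_le hS hw)))
      · have e' : n⁻¹ * z' * n⁻¹⁻¹ = z' := Subtype.ext e
        rw [inv_inv] at e'
        rw [e'] at hne
        calc t1 = (k : N)⁻¹ * ((k : N) * t1 * (k : N)⁻¹) * k := by group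
          _ = (k : N)⁻¹ * (z' * k) := by rw [hne, mul_assoc]
          _ = z' := by rw [← mem_centralizer_singleton_iff.1 k.2, inv_mul_cancel_left]
    -- the centraliser of `Z` in `N` has a central Sylow subgroup
    set C := centralizer (Zs (S : Subgroup G) : Set G) ⊓ N with hC
    set Zn := (Zs (S : Subgroup G)).subgroupOf C with hZn
    have hZc : Zn ≤ center C := fun w hw => mem_center_iff.2 fun y =>
      Subtype.ext (mem_centralizer_iff.1 y.2.1 _ hw).symm
    have hZC : Zs (S : Subgroup G) ≤ C := le_inf ((Zs_le hS).trans (S_le_cenZs hS)) hZN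
    have hZp : IsPGroup 2 Zn := (S.isPGroup'.to_le (Zs_le hS)).comap_subtype
    have hi : ¬ 2 ∣ Zn.index := by
      obtain ⟨Q, hQ⟩ := exists_sylow_of_bound (P := Zn) hZp fun R hR => by
        rw [Nat.card_congr (subgroupOfEquivOfLe hZC).toEquiv, card_Zs hS]
        obtain ⟨g, hg⟩ := exists_conj_into hS (hR.map C.subtype)
        refine le_trans (Nat.card_le_card_of_injective (fun r : R => (⟨⟨g * ((r : C) : G) * g⁻¹,
          hNn.conj_mem _ (r : C).2.2 g⟩, (hPm _).2 (hg _ ⟨r, r.2, rfl⟩)⟩ : (PN : Subgroup N))) ?_) h4.le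
        exact fun a c e => Subtype.ext (Subtype.ext (mul_left_cancel (mul_right_cancel
          (congrArg (fun v : (PN : Subgroup N) => ((v : N) : G)) e))))
      rw [← hQ]; exact Q.not_dvd_index
    obtain ⟨hodd, hdec⟩ := of_central_sylow Zn hZc hZp hi
    have hxb : b * x * b⁻¹ * x⁻¹ ∈ C := by
      have h1 : b * x * b⁻¹ ∈ centralizer (Zs (S : Subgroup G) : Set G) := mem_centralizer_iff.2 fun w hw => by
        have hbn : b ∈ normalizer (Zs (S : Subgroup G) : Set G) := Subgroup.mem_normalizer_fintype hbZ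
        have h2 := mem_centralizer_iff.1 (S_le_cenZs hS hx) _ ((mem_normalizer_iff.1 (inv_mem hbn) w).1 hw)
        calc w * (b * x * b⁻¹) = b * (b⁻¹ * w * b⁻¹⁻¹ * x) * b⁻¹ := by group
          _ = b * (x * (b⁻¹ * w * b⁻¹⁻¹)) * b⁻¹ := by rw [h2]
          _ = _ := by group
      refine mem_inf.2 ⟨mul_mem h1 (inv_mem (S_le_cenZs hS hx)), ?_⟩
      rw [show b * x * b⁻¹ * x⁻¹ = b * (x * b⁻¹ * x⁻¹) by group]
      exact mul_mem hbN (hNn.conj_mem _ (inv_mem hbN) x)
    obtain ⟨o, ho, how⟩ := hdec ⟨_, hxb⟩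
    set w : G := (o : G)⁻¹ * (b * x * b⁻¹ * x⁻¹) with hw
    have hwZ : w ∈ Zs (S : Subgroup G) := how
    have hcx : ∀ a ∈ C, x * a * x⁻¹ ∈ C := fun a ha => mem_inf.2 ⟨mul_mem (mul_mem (S_le_cenZs hS hx) ha.1)
      (inv_mem (S_le_cenZs hS hx)), hNn.conj_mem _ ha.2 x⟩
    set o2 : C := o * ⟨x * o * x⁻¹, hcx _ o.2⟩ with ho2
    have ho2m : o2 ∈ Cfsg.pPrimeCore 2 C := mul_mem ho (hodd _ (by
      rw [← Subgroup.orderOf_coe]
      show Odd (orderOf (x * (o : G) * x⁻¹))
      rw [Invol.order_conj, Subgroup.orderOf_coe, ← Subgroup.orderOf_mk (H := Cfsg.pPrimeCore 2 C) o ho]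
      exact (Nat.coprime_two_right.1 (PBasic.pPrimeCore_coprime 2 C)).of_dvd_nat (orderOf_dvd_natCard _)))
    have hsq : b * z * b⁻¹ = (o2 : G) * z := by
      have hwo : ∀ a : G, a ∈ C → w * a = a * w := fun a ha => mem_centralizer_iff.1 ha.1 w hwZ
      have hwx : w * x = x * w := Zs_comm hS hwZ hx
      have e1 : b * x * b⁻¹ = (o : G) * w * x := by rw [hw]; group
      calc b * z * b⁻¹ = b * x * b⁻¹ * (b * x * b⁻¹) := by rw [hzdef]; group
        _ = (o : G) * (w * x) * ((o : G) * (w * x)) := by rw [e1]; group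
        _ = (o : G) * x * (w * o) * x * w := by rw [hwx]; group
        _ = (o : G) * x * o * (w * x) * w := by rw [hwo o o.2]; group
        _ = (o : G) * x * o * x * (w * w) := by rw [hwx]; group
        _ = (o : G) * (x * o * x⁻¹) * (x * x) := by rw [((mem_Zs hS).1 hwZ).2]; group
        _ = _ := rfl
    have ho2Z : (o2 : G) ∈ Zs (S : Subgroup G) := by
      rw [show (o2 : G) = b * z * b⁻¹ * z⁻¹ by rw [hsq, mul_inv_cancel_right]]
      exact mul_mem (hbZ z hz) (inv_mem hz)
    have ho21 : (o2 : G) = 1 := by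
      rw [← orderOf_eq_one_iff, Subgroup.orderOf_coe]
      refine Nat.eq_one_of_dvd_coprimes (PBasic.pPrimeCore_coprime 2 C) ?_ ?_
      · exact Subgroup.orderOf_dvd_natCard (Cfsg.pPrimeCore 2 C) ho2m
      · rw [← Subgroup.orderOf_coe]
        exact orderOf_dvd_of_pow_eq_one (by rw [pow_two]; exact ((mem_Zs hS).1 ho2Z).2)
    exact hbz (by rw [hsq, ho21, one_mul])
  · -- the trace of `S` in `N` is `S`
    have hP64 : Nat.card (PN : Subgroup N) = 64 := by
      rw [Nat.card_congr e.toEquiv]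
      exact ((S1141.result (F := F) (n := 2) le_rfl (by rw [hF]; norm_num) P).1).trans (by norm_num)
    have hSN : (S : Subgroup G) ≤ N := by
      have h1 : (S : Subgroup G) ⊓ N = (S : Subgroup G) := by
        refine eq_of_le_of_card_ge inf_le_left ?_
        rw [hS.card, ← Nat.card_congr (subgroupOfEquivOfLe (inf_le_right : (S : Subgroup G) ⊓ N ≤ N)).toEquiv,
          ← hPN, hP64]
      exact inf_eq_left.1 h1
    have hNtop : N = ⊤ := hO' N hNn (by
      rw [← Nat.not_even_iff_odd, even_iff_two_dvd]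
      exact fun h => S.not_dvd_index (h.trans (index_dvd_of_le hSN)))
    haveI : IsSimpleGroup G :=
      isSimpleGroup_of_surjective_congr ((MulEquiv.subgroupCongr hNtop).trans Subgroup.topEquiv) hsimple
    exact recognition hS hF
where
  isSimpleGroup_of_surjective_congr {A B : Type u} [Group A] [Group B] (e : A ≃* B) (h : IsSimpleGroup A) :
      IsSimpleGroup B := by
    haveI := h
    haveI : Nontrivial B := e.symm.toEquiv.nontrivial
    exact IsSimpleGroup.isSimpleGroup_of_surjective e.toMonoidHom e.surjective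

end Cfsg.Agent.U34Group
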