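import Cfsg.Agent.Lib.LocalEven.U34Uniq
import Cfsg.Agent.Lib.PiTwo.RankTwo
import Cfsg.Agent.S1141

/-!
The facts used about a 2-group of the type of the Sylow 2-subgroup of `U₃(4)`: its involutions are the three
of a central four-group `Z`, squares and commutators lie in `Z`, an element outside `Z` is moved to its whole
coset, and no three elements of a plane have the same non-trivial square.
-/

set_option autoImplicit false
set_option linter.style.haveILetI false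
set_option linter.unusedSectionVars false

namespace Cfsg.Agent.U34Group

open Subgroup

universe u

variable {G : Type u} [Group G]

/-- The facts used. -/
structure Shape (S : Subgroup G) : Prop where
  card : Nat.card S = 64
  sq : ∀ x ∈ S, x * x * (x * x) = 1
  four : Nat.card {x : G // x ∈ S ∧ x * x = 1} = 4
  central : ∀ x ∈ S, x * x = 1 → ∀ y ∈ S, x * y = y * x
  commV : ∀ x ∈ S, ∀ y ∈ S, x * y * x⁻¹ * y⁻¹ * (x * y * x⁻¹ * y⁻¹) = 1
  comm : ∀ x ∈ S, x * x ≠ 1 → ∀ w ∈ S, w * w = 1 → ∃ y ∈ S, y * x * y⁻¹ = x * w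
  noQ : ∀ x ∈ S, ∀ y ∈ S, x * x ≠ 1 → x * x = y * y → x * y * (x * y) ≠ x * x

theorem form_comm : ∀ u : U34Uniq.B × U34Uniq.B × U34Uniq.B × U34Uniq.B, u ≠ 1 → ∀ t, ∃ v,
    U34Uniq.NF.form (u * v) * U34Uniq.NF.form u * U34Uniq.NF.form v = t := by
  decide +kernel

theorem form_noQ : ∀ u v : U34Uniq.B × U34Uniq.B × U34Uniq.B × U34Uniq.B, u ≠ 1 →
    U34Uniq.NF.form u = U34Uniq.NF.form v → U34Uniq.NF.form (u * v) ≠ U34Uniq.NF.form u := by
  decide +kernel

theorem bits_sq : ∀ i : U34Uniq.B × U34Uniq.B, i * i = 1 := by decide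

/-- From the relations. -/
theorem shape_of_NF {S : Subgroup G} [Finite G] (N : U34Uniq.NF ↥S) (hcard : Nat.card S = 64) : Shape S := by
  classical
  obtain ⟨π, hπs, hπk, hπ⟩ := N.exists_proj hcard
  have hiff : ∀ p : S, p * p = 1 ↔ π p = 1 := fun p => by
    rw [hπ]
    constructor
    · intro h
      exact U34Uniq.NF.form_eq_one _ (N.iV_injective (h.trans (map_one _).symm))
    · intro h
      rw [h, ← map_one N.iV]
      congr 1
  have hrange : ∀ p : S, π p = 1 → ∃ i, N.iV i = p := fun p hp => by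
    have h : p ∈ N.iV.range := hπk ▸ hp
    exact h
  have hcen : ∀ i (y : S), y * N.iV i = N.iV i * y := fun i y => N.iV_central i y
  have hii : ∀ i, N.iV i * N.iV i = 1 := fun i => by rw [← map_mul, bits_sq, map_one]
  refine ⟨hcard, fun x hx => ?_, ?_, fun x hx hx2 y hy => ?_, fun x hx y hy => ?_,
    fun x hx hx2 w hw hw2 => ?_, fun x hx y hy hx2 e h => ?_⟩
  · show ((⟨x, hx⟩ * ⟨x, hx⟩ * (⟨x, hx⟩ * ⟨x, hx⟩) : S) : G) = 1
    have h := hii (U34Uniq.NF.form (π ⟨x, hx⟩))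
    rw [← hπ] at h
    rw [h, Subgroup.coe_one]
  · have e : Nat.card {x : G // x ∈ S ∧ x * x = 1} = Nat.card π.ker := Nat.card_congr
      { toFun := fun x => ⟨⟨x.1, x.2.1⟩, (hiff _).1 (Subtype.ext x.2.2)⟩
        invFun := fun p => ⟨p.1.1, p.1.2, congrArg Subtype.val ((hiff _).2 p.2)⟩
        left_inv := fun x => rfl
        right_inv := fun p => rfl }
    rw [e, hπk, MonoidHom.range_eq_map, card_map_of_injective N.iV_injective, Subgroup.card_top]
    simp
  · obtain ⟨i, hi⟩ := hrange ⟨x, hx⟩ ((hiff _).1 (Subtype.ext hx2))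
    have := congrArg Subtype.val (hcen i ⟨y, hy⟩)
    rw [hi] at this
    exact this.symm
  · have h1 : π (⟨x, hx⟩ * ⟨y, hy⟩ * ⟨x, hx⟩⁻¹ * ⟨y, hy⟩⁻¹) = 1 := by
      rw [map_mul, map_mul, map_mul, map_inv, map_inv, mul_comm (π ⟨x, hx⟩), mul_inv_cancel_right,
        mul_inv_cancel]
    exact congrArg Subtype.val ((hiff _).2 h1)
  · have hu : π ⟨x, hx⟩ ≠ 1 := fun e => hx2 (congrArg Subtype.val ((hiff _).2 e))
    obtain ⟨i, hi⟩ := hrange ⟨w, hw⟩ ((hiff _).1 (Subtype.ext hw2))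
    obtain ⟨v, hv⟩ := form_comm _ hu i
    obtain ⟨y, rfl⟩ := hπs v
    refine ⟨y, y.2, ?_⟩
    set x' : S := ⟨x, hx⟩
    have h1 : x' * x' * (x'⁻¹ * y * x' * y⁻¹) * (y * y) = x' * y * (x' * y) := by group
    rw [hπ, hπ, hπ, map_mul] at h1
    have h2 : x'⁻¹ * y * x' * y⁻¹ = N.iV i := by
      calc x'⁻¹ * y * x' * y⁻¹ = (N.iV (U34Uniq.NF.form (π x')))⁻¹ *
            (N.iV (U34Uniq.NF.form (π x' * π y))) * (N.iV (U34Uniq.NF.form (π y)))⁻¹ := by rw [← h1]; group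
        _ = N.iV i := by
          rw [← hv, map_mul, map_mul, inv_eq_of_mul_eq_one_right (hii _), inv_eq_of_mul_eq_one_right (hii _),
            hcen (U34Uniq.NF.form (π x' * π y))]
    have h3 : ((x'⁻¹ * y * x' * y⁻¹ : S) : G) = w := by rw [h2, hi]
    rw [← h3]
    show (y : G) * x * (y : G)⁻¹ = x * (x⁻¹ * y * x * (y : G)⁻¹)
    group
  · have hu : π ⟨x, hx⟩ ≠ 1 := fun e => hx2 (congrArg Subtype.val ((hiff _).2 e))
    have e1 : (⟨x, hx⟩ : S) * ⟨x, hx⟩ = ⟨y, hy⟩ * ⟨y, hy⟩ := Subtype.ext e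
    have h1 : (⟨x, hx⟩ : S) * ⟨y, hy⟩ * (⟨x, hx⟩ * ⟨y, hy⟩) = ⟨x, hx⟩ * ⟨x, hx⟩ := Subtype.ext h
    rw [hπ, hπ] at e1
    rw [hπ, hπ, map_mul] at h1
    exact form_noQ _ _ hu (N.iV_injective e1) (N.iV_injective h1)

/-- The Sylow 2-subgroups of the type of `U₃(4)`. -/
theorem shape_of_equiv [Finite G] {S : Subgroup G} {F : Type*} [Field F] [Fintype F] (hF : Fintype.card F = 16)
    (P : Sylow 2 (Cfsg.PSU 3 F 4)) (e : ↥S ≃* ↥(P : Subgroup (Cfsg.PSU 3 F 4))) : Shape S := by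
  obtain ⟨hP1, hP2, hP3⟩ := S1141.result (F := F) (n := 2) le_rfl (by rw [hF]; norm_num) P
  have hSz : Cfsg.IsSuzukiTwoGroup ↥S := SU3Sylow.suzuki_of_equiv e.symm hP3
  have hcard : Nat.card S = 64 := by rw [Nat.card_congr e.toEquiv]; exact hP1.trans (by norm_num)
  have hZ : Nat.card (Subgroup.center ↥S) = 4 := by
    rw [Nat.card_congr (Subgroup.centerCongr e).toEquiv]; exact hP2.trans (by norm_num)
  have hna := hSz.2.2.1
  obtain ⟨D, -⟩ := Suzuki2.exists_datum hSz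
  have hV4 : Nat.card ↥D.V = 4 := by rw [← D.center_eq_V hna]; exact hZ
  obtain ⟨N⟩ := U34Uniq.exists_NF D hna hV4 hcard
  exact shape_of_NF N hcard

end Cfsg.Agent.U34Group
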