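import Cfsg.Agent.Lib.U34Rec.ThreeDensity
import Cfsg.Agent.Lib.Char.Induction
import Cfsg.Agent.Lib.Char.CoprimeConstituent
import Cfsg.Agent.Lib.Blocks.BlockOrth
import Cfsg.Agent.Lib.Blocks.Center
import Cfsg.Agent.Lib.Char.Degree

/-!
The invariant virtual characters of a Sylow 2-subgroup in the configuration with automiser of order 3.
-/

set_option autoImplicit false
set_option linter.unusedSectionVars false
set_option linter.style.haveILetI false

namespace Cfsg.Agent.U34Three

open Cfsg Cfsg.Agent.Char Cfsg.Agent.SylowSplit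
open scoped ComplexConjugate

universe u

variable {G : Type u} [Group G] [Finite G] {S : Sylow 2 G} {m : G}

/-- The six functions: `psi` is the sum of the non-linear characters, the `o i` are the sums over the orbits of
the non-trivial linear characters. -/
structure Fam (S : Sylow 2 G) (m : G) [Fintype (S : Subgroup G)] (o : Fin 5 → ↥(S : Subgroup G) → ℂ) : Prop where
  gen : ∀ i, IsGeneralizedCharacter (S : Subgroup G) (o i)
  real : ∀ i x, conj (o i x) = o i x
  inner : ∀ i (x y : (S : Subgroup G)), o i (y * x * y⁻¹) = o i x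
  outer : ∀ i (x x' : (S : Subgroup G)), (x' : G) = m * (x : G) * m⁻¹ → o i x' = o i x
  onZ : ∀ i (x : (S : Subgroup G)), x * x = 1 → o i x = 3
  total : ∀ x : (S : Subgroup G), x * x ≠ 1 → ∑ i, o i x = -1
  sum : ∀ i, ∑ x, o i x = 0
  orth : ∀ i j, ∑ x, o i x * o j x = if i = j then 192 else 0

/-- The values of the sum of the non-linear characters. -/
noncomputable def psi (S : Sylow 2 G) : ↥(S : Subgroup G) → ℂ := fun x =>
  open scoped Classical in if x = 1 then 12 else if x * x = 1 then -4 else 0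

namespace C3Cfg

variable [Fintype (S : Subgroup G)] (h : C3Cfg S m)
include h

theorem psi_gen : IsGeneralizedCharacter (S : Subgroup G) (psi S) := by
  classical
  refine isGeneralizedCharacter_of_classInner ?_ fun ψ => ?_
  · intro x y
    have h1 : y * x * y⁻¹ = 1 ↔ x = 1 := conj_eq_one_iff
    have h2 : y * x * y⁻¹ * (y * x * y⁻¹) = 1 ↔ x * x = 1 := by rw [conj_mul, conj_eq_one_iff]
    simp only [psi, h1, h2]
  have hd : (ψ : ↥(S : Subgroup G) → ℂ) 1 = (charDegree (ψ : ↥(S : Subgroup G) → ℂ) : ℂ) := CharX.irr_deg ψ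
  set d := charDegree (ψ : ↥(S : Subgroup G) → ℂ) with hddef
  have hd0 : (d : ℂ) ≠ 0 := hd ▸ IsIrrCharacter.one_ne_zero ψ.2
  have hS : (Nat.card (S : Subgroup G) : ℂ) = 64 := by rw [h.card]; norm_num
  set A := Finset.univ.filter fun x : (S : Subgroup G) => x * x = 1 with hA
  have hAcard : A.card = 4 := by
    rw [← h.four, ← Nat.card_eq_finsetCard]
    exact Nat.card_congr
      { toFun := fun x => ⟨x.1, x.1.2, congrArg Subtype.val (Finset.mem_filter.1 x.2).2⟩
        invFun := fun x => ⟨⟨x.1, x.2.1⟩, Finset.mem_filter.2 ⟨Finset.mem_univ _, Subtype.ext x.2.2⟩⟩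
        left_inv := fun x => rfl
        right_inv := fun x => rfl }
  have hinv : ∀ x : (S : Subgroup G), x * x = 1 → x⁻¹ = x := fun x hx => inv_eq_of_mul_eq_one_right hx
  have hcen : ∀ z : (S : Subgroup G), z * z = 1 → ∀ y : (S : Subgroup G), z * y = y * z := fun z hz y =>
    Subtype.ext (h.central z z.2 (congrArg Subtype.val hz) y y.2)
  have hmul : ∀ z : (S : Subgroup G), z * z = 1 → ∀ y : (S : Subgroup G), (ψ : ↥(S : Subgroup G) → ℂ) (z * y) =
      (ψ : ↥(S : Subgroup G) → ℂ) z * (ψ : ↥(S : Subgroup G) → ℂ) y / d := by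
    intro z hz y
    have h1 := Blocks.irr_sum_conj_mul ψ z y
    have h2 : ∀ j : (S : Subgroup G), j⁻¹ * z * j * y = z * y := fun j => by
      rw [mul_assoc j⁻¹, hcen z hz j, inv_mul_cancel_left]
    rw [Finset.sum_congr rfl fun j _ => by rw [h2 j], Finset.sum_const, Finset.card_univ, nsmul_eq_mul,
      ← Nat.card_eq_fintype_card, hd, mul_assoc, mul_div_assoc] at h1
    exact mul_left_cancel₀ (by rw [hS]; norm_num) h1
  have hreal : ∀ z ∈ A, conj ((ψ : ↥(S : Subgroup G) → ℂ) z) = (ψ : ↥(S : Subgroup G) → ℂ) z := fun z hz => by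
    rw [← IsCharacter.inv (IsIrrCharacter.isCharacter ψ.2) z, hinv z (Finset.mem_filter.1 hz).2]
  have key : classInner (psi S) (ψ : ↥(S : Subgroup G) → ℂ) =
      (64 : ℂ)⁻¹ * (16 * d - 4 * ∑ z ∈ A, (ψ : ↥(S : Subgroup G) → ℂ) z) := by
    unfold classInner
    rw [hS]
    congr 1
    rw [← Finset.sum_subset (Finset.subset_univ A) fun x _ hx => by
      have hx' : ¬ x * x = 1 := fun e => hx (Finset.mem_filter.2 ⟨Finset.mem_univ _, e⟩)
      simp [psi, hx', show x ≠ 1 from fun e => hx' (by rw [e, one_mul])]]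
    have h1A : (1 : (S : Subgroup G)) ∈ A := Finset.mem_filter.2 ⟨Finset.mem_univ _, one_mul 1⟩
    rw [← Finset.add_sum_erase _ _ h1A, ← Finset.add_sum_erase _ _ h1A,
      Finset.sum_congr rfl fun z hz => by
        obtain ⟨hz1, hzA⟩ := Finset.mem_erase.1 hz
        rw [hreal z hzA, show psi S z = -4 by simp [psi, hz1, (Finset.mem_filter.1 hzA).2]],
      ← Finset.mul_sum, show psi S 1 = 12 by simp [psi], hd, map_natCast]
    ring
  by_cases htriv : ∀ z ∈ A, (ψ : ↥(S : Subgroup G) → ℂ) z = d
  · refine ⟨0, ?_⟩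
    rw [key, Finset.sum_congr rfl htriv, Finset.sum_const, hAcard, nsmul_eq_mul]
    push_cast
    ring
  simp only [not_forall] at htriv
  obtain ⟨w, hwA, hw⟩ := htriv
  have hw2 := (Finset.mem_filter.1 hwA).2
  have hsum0 : ∑ z ∈ A, (ψ : ↥(S : Subgroup G) → ℂ) z = 0 := by
    have e : ∑ z ∈ A, (ψ : ↥(S : Subgroup G) → ℂ) (w * z) = ∑ z ∈ A, (ψ : ↥(S : Subgroup G) → ℂ) z := by
      have hm : ∀ z ∈ A, w * z ∈ A := fun z hz => Finset.mem_filter.2 ⟨Finset.mem_univ _, by
        rw [(show Commute w z from hcen w hw2 z).symm.mul_mul_mul_comm, hw2, (Finset.mem_filter.1 hz).2, one_mul]⟩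
      exact Finset.sum_bij' (fun z _ => w * z) (fun z _ => w * z) hm hm
        (fun z _ => by rw [← mul_assoc, hw2, one_mul]) (fun z _ => by rw [← mul_assoc, hw2, one_mul])
        fun z _ => rfl
    rw [Finset.sum_congr rfl fun z _ => hmul w hw2 z, ← Finset.sum_div, ← Finset.mul_sum,
      div_eq_iff hd0] at e
    have e' : ((ψ : ↥(S : Subgroup G) → ℂ) w - d) * ∑ z ∈ A, (ψ : ↥(S : Subgroup G) → ℂ) z = 0 := by
      linear_combination e
    exact (mul_eq_zero.1 e').resolve_left (sub_ne_zero.2 hw)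
  have hsq : ∀ z ∈ A, (ψ : ↥(S : Subgroup G) → ℂ) z * (ψ : ↥(S : Subgroup G) → ℂ) z = (d : ℂ) * d := by
    intro z hz
    have h1 := hmul z (Finset.mem_filter.1 hz).2 z
    rw [(Finset.mem_filter.1 hz).2, hd, eq_div_iff hd0] at h1
    exact h1.symm
  have hout : ∀ x ∉ A, (ψ : ↥(S : Subgroup G) → ℂ) x = 0 := by
    intro x hx
    obtain ⟨y, hy, hyx⟩ := h.comm x x.2
      (fun e => hx (Finset.mem_filter.2 ⟨Finset.mem_univ _, Subtype.ext e⟩)) w w.2 (congrArg Subtype.val hw2)
    have e : (⟨y, hy⟩ : (S : Subgroup G)) * x * (⟨y, hy⟩)⁻¹ = w * x := by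
      rw [hcen w hw2 x]; exact Subtype.ext hyx
    have e1 := IsCharacter.isClassFunction (IsIrrCharacter.isCharacter ψ.2) x (⟨y, hy⟩ : (S : Subgroup G))
    rw [e, hmul w hw2 x, div_eq_iff hd0] at e1
    have e' : ((ψ : ↥(S : Subgroup G) → ℂ) w - d) * (ψ : ↥(S : Subgroup G) → ℂ) x = 0 := by linear_combination e1
    exact (mul_eq_zero.1 e').resolve_left (sub_ne_zero.2 hw)
  have hnorm := classInner_self_irr ψ.2
  unfold classInner at hnorm
  rw [hS, ← Finset.sum_subset (Finset.subset_univ A) (fun x _ hx => by rw [hout x hx, zero_mul]),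
    Finset.sum_congr rfl fun z hz => by rw [hreal z hz, hsq z hz], Finset.sum_const, hAcard, nsmul_eq_mul] at hnorm
  have hd4 : d = 4 := by
    have h16 : ((d * d : ℕ) : ℂ) = ((16 : ℕ) : ℂ) := by push_cast at hnorm ⊢; linear_combination 16 * hnorm
    have h16' : d * d = 16 := by exact_mod_cast h16
    nlinarith
  refine ⟨1, ?_⟩
  rw [key, hsum0, hd4]
  norm_num

theorem exists_fam : ∃ o : Fin 5 → ↥(S : Subgroup G) → ℂ, Fam S m o := by
  classical
  let Z' : Subgroup (S : Subgroup G) := h.Z.subgroupOf (S : Subgroup G)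
  have hmem : ∀ {x : (S : Subgroup G)}, x ∈ Z' ↔ x * x = 1 := fun {x} =>
    ⟨fun hx => Subtype.ext hx.2, fun hx => ⟨x.2, congrArg Subtype.val hx⟩⟩
  haveI : Z'.Normal := ⟨fun x hx y => by
    have e : y * x = x * y := (Subtype.ext (h.central x x.2 (congrArg Subtype.val (hmem.1 hx)) y y.2)).symm
    rw [e, mul_inv_cancel_right]; exact hx⟩
  have hq2 : ∀ q : (S : Subgroup G) ⧸ Z', q * q = 1 := fun q => by
    induction q using QuotientGroup.induction_on with
    | _ x => exact (QuotientGroup.eq_one_iff _).2 (hmem.2 (Subtype.ext (h.sq_mem x.2)))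
  have hqi : ∀ q : (S : Subgroup G) ⧸ Z', q⁻¹ = q := fun q => inv_eq_of_mul_eq_one_right (hq2 q)
  letI cg : CommGroup ((S : Subgroup G) ⧸ Z') :=
    { (inferInstance : Group ((S : Subgroup G) ⧸ Z')) with
      mul_comm := fun a b => by rw [← hqi (a * b), mul_inv_rev, hqi a, hqi b] }
  haveI : Fintype ((S : Subgroup G) ⧸ Z') := Fintype.ofFinite _
  haveI : Fintype (((S : Subgroup G) ⧸ Z') →* ℂˣ) := Fintype.ofFinite _
  have hZ' : Nat.card Z' = 4 := by
    rw [← h.card_Z]
    exact Nat.card_congr (Subgroup.subgroupOfEquivOfLe (fun x hx => (h.mem_Z.1 hx).1)).toEquiv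
  have hQ : Nat.card ((S : Subgroup G) ⧸ Z') = 16 := by
    have h1 := Subgroup.card_eq_card_quotient_mul_card_subgroup Z'
    rw [h.card, hZ'] at h1
    omega
  -- the action of `m`
  let c : (S : Subgroup G) →* (S : Subgroup G) :=
    ((MulAut.conj m).toMonoidHom.comp (S : Subgroup G).subtype).codRestrict _ fun x => h.norm x x.2
  have hc : ∀ x, (c x : G) = m * (x : G) * m⁻¹ := fun _ => rfl
  let φ : (S : Subgroup G) ⧸ Z' →* (S : Subgroup G) ⧸ Z' := QuotientGroup.map Z' Z' c fun x hx => hmem.2 (by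
    show c x * c x = 1
    rw [← map_mul, hmem.1 hx, map_one])
  have hφ : ∀ x : (S : Subgroup G), φ (QuotientGroup.mk' Z' x) = QuotientGroup.mk' Z' (c x) := fun _ => rfl
  have hφ3 : ∀ q, φ (φ (φ q)) = q := fun q => by
    induction q using QuotientGroup.induction_on with
    | _ x =>
      show QuotientGroup.mk' Z' (c (c (c x))) = QuotientGroup.mk' Z' x
      congr 1
      refine Subtype.ext ?_
      rw [hc, hc, hc, show m * (m * (m * (x : G) * m⁻¹) * m⁻¹) * m⁻¹ = m ^ 3 * (x : G) * (m ^ 3)⁻¹ by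
        simp [pow_succ, mul_assoc], h.cube _ x.2, mul_inv_cancel_right]
  have hfixq : ∀ q, φ q = q → q = 1 := fun q => by
    induction q using QuotientGroup.induction_on with
    | _ y =>
      intro hy
      have hw : y⁻¹ * c y ∈ Z' := QuotientGroup.eq.1 hy.symm
      let e : Z' → Z' := fun z => ⟨z * (c z)⁻¹, mul_mem z.2 (inv_mem (hmem.2 (by
        rw [← map_mul, hmem.1 z.2, map_one])))⟩
      have hinj : Function.Injective e := fun a b hab => by
        have hab' : (a : (S : Subgroup G)) * (c a)⁻¹ = b * (c b)⁻¹ := congrArg Subtype.val hab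
        have hfix : c ((b : (S : Subgroup G))⁻¹ * a) = (b : (S : Subgroup G))⁻¹ * a := by
          rw [map_mul, map_inv]
          calc (c b)⁻¹ * c a = (b : (S : Subgroup G))⁻¹ * (b * (c b)⁻¹) * c a := by group
            _ = _ := by rw [← hab']; group
        have h1 := h.fpf _ ((b : (S : Subgroup G))⁻¹ * a).2 (by
          have h2 := congrArg Subtype.val hfix
          rw [hc] at h2
          exact mul_inv_eq_iff_eq_mul.1 h2)
        exact Subtype.ext (inv_mul_eq_one.1 (Subtype.ext h1)).symm
      obtain ⟨z, hz⟩ := (Finite.injective_iff_surjective.1 hinj) ⟨_, hw⟩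
      have hz' : (z : (S : Subgroup G)) * (c z)⁻¹ = y⁻¹ * c y := congrArg Subtype.val hz
      have h1 := h.fpf _ (y * (z : (S : Subgroup G))).2 (by
        have h2 : c (y * z) = y * z := by
          rw [map_mul, show c y = y * (z * (c z)⁻¹) by rw [hz', mul_inv_cancel_left]]
          group
        have h3 := congrArg Subtype.val h2
        rw [hc] at h3
        exact mul_inv_eq_iff_eq_mul.1 h3)
      refine (QuotientGroup.eq_one_iff y).2 ?_
      rw [show y = (z : (S : Subgroup G))⁻¹ from eq_inv_of_mul_eq_one_left (Subtype.ext h1)]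
      exact inv_mem z.2
  -- the orbits on the linear characters
  obtain ⟨R, hR⟩ : ∃ R : (((S : Subgroup G) ⧸ Z') →* ℂˣ) → (((S : Subgroup G) ⧸ Z') →* ℂˣ),
      ∀ f q, R f q = f (φ q) := ⟨fun f => f.comp φ, fun _ _ => rfl⟩
  have hR3 : ∀ f, R (R (R f)) = f := fun f => MonoidHom.ext fun q => by rw [hR, hR, hR, hφ3]
  have hff : ∀ (f : ((S : Subgroup G) ⧸ Z') →* ℂˣ) q, f q * f q = 1 := fun f q => by
    rw [← map_mul, hq2, map_one]
  have hfix : ∀ f, R f = f → f = 1 := fun f hf => MonoidHom.ext fun q => by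
    have h1 : ∀ r, f (φ r) = f r := fun r => by rw [← hR, hf]
    have h2 : f (q * φ q * φ (φ q)) = 1 := by
      rw [hfixq (q * φ q * φ (φ q)) (by rw [map_mul, map_mul, hφ3, mul_comm]; exact (mul_assoc _ _ _).symm),
        map_one]
    rw [map_mul, map_mul, h1 (φ q), h1 q, hff, one_mul] at h2
    exact h2
  have hR1 : R 1 = 1 := MonoidHom.ext fun q => by rw [hR]; simp
  let rot : ℕ → (((S : Subgroup G) ⧸ Z') →* ℂˣ) → (((S : Subgroup G) ⧸ Z') →* ℂˣ) := fun a f => R^[a] f
  have hrot : ∀ a f, rot (a % 3) f = rot a f := fun a f => by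
    have hper : ∀ k, R^[3 * k] f = f := fun k => by
      induction k with
      | zero => rfl
      | succ k ih =>
        rw [Nat.mul_succ, Function.iterate_add_apply]
        show R^[3 * k] (R (R (R f))) = f
        rw [hR3, ih]
    conv_rhs => rw [← Nat.mod_add_div a 3]
    show R^[a % 3] f = R^[a % 3 + 3 * (a / 3)] f
    rw [Function.iterate_add_apply, hper]
  have hinj3 : ∀ f, f ≠ 1 → ∀ a b : Fin 3, rot a f = rot b f → a = b := fun f hf a b e => by
    have hne1 : R f ≠ f := fun e => hf (hfix f e)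
    have hne2 : R (R f) ≠ f := fun e => hne1 ((congrArg R e).symm.trans (hR3 f))
    have hne3 : R (R f) ≠ R f := fun e =>
      hne1 ((hR3 (R f)).symm.trans ((congrArg (fun g => R (R g)) e).trans (hR3 f)))
    fin_cases a <;> fin_cases b <;> simp only [rot, Function.iterate_succ', Function.iterate_zero,
      Function.comp_apply, id_eq] at e ⊢ <;>
      first | exact (hne1 e).elim | exact (hne1 e.symm).elim | exact (hne2 e).elim | exact (hne2 e.symm).elim |
        exact (hne3 e).elim | exact (hne3 e.symm).elim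
  have hrot1 : ∀ a : ℕ, rot a 1 = 1 := fun a => Function.iterate_fixed hR1 a
  have hnot1 : ∀ f, f ≠ 1 → ∀ a : ℕ, rot a f ≠ 1 := fun f hf a e => by
    apply hf
    rw [← hrot] at e
    have h3 : rot (3 - a % 3) (rot (a % 3) f) = f := by
      show R^[3 - a % 3] (R^[a % 3] f) = f
      rw [← Function.iterate_add_apply, show 3 - a % 3 + a % 3 = 3 by omega]
      exact hR3 f
    rw [← h3, e, hrot1]
  have hpick : ∀ k, k ≤ 5 → ∃ g : Fin k → (((S : Subgroup G) ⧸ Z') →* ℂˣ), (∀ i, g i ≠ 1) ∧
      Function.Injective fun p : Fin k × Fin 3 => rot p.2 (g p.1) := by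
    intro k hk
    induction k with
    | zero => exact ⟨Fin.elim0, fun i => i.elim0, fun p => p.1.elim0⟩
    | succ k ih =>
      obtain ⟨g, hg1, hg⟩ := ih (by omega)
      obtain ⟨f, hf⟩ : ∃ f, f ∉ insert (1 : ((S : Subgroup G) ⧸ Z') →* ℂˣ)
          (Finset.univ.image fun p : Fin k × Fin 3 => rot p.2 (g p.1)) := by
        by_contra hall
        simp only [not_exists, not_not] at hall
        have h0 := Finset.card_le_card (s := (Finset.univ : Finset (((S : Subgroup G) ⧸ Z') →* ℂˣ)))
          (t := insert 1 (Finset.univ.image fun p : Fin k × Fin 3 => rot p.2 (g p.1))) fun f _ => hall f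
        rw [Finset.card_univ, ← Nat.card_eq_fintype_card,
          CommGroup.card_monoidHom_of_hasEnoughRootsOfUnity ((S : Subgroup G) ⧸ Z') ℂ, hQ] at h0
        have h1 := Finset.card_insert_le (1 : ((S : Subgroup G) ⧸ Z') →* ℂˣ)
          (Finset.univ.image fun p : Fin k × Fin 3 => rot p.2 (g p.1))
        have h2 := Finset.card_image_le (s := (Finset.univ : Finset (Fin k × Fin 3)))
          (f := fun p => rot p.2 (g p.1))
        rw [Finset.card_univ, Fintype.card_prod, Fintype.card_fin, Fintype.card_fin] at h2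
        omega
      simp only [Finset.mem_insert, Finset.mem_image, Finset.mem_univ, true_and, not_or, not_exists] at hf
      refine ⟨Fin.cons f g, fun i => Fin.cases (by simpa using hf.1) (fun j => by simpa using hg1 j) i, ?_⟩
      rintro ⟨i, a⟩ ⟨j, b⟩ e
      have hmix : ∀ (j : Fin k) (a b : Fin 3), rot a f ≠ rot b (g j) := fun j a b e => by
        refine hf.2 (j, ⟨((b : ℕ) + 3 - a) % 3, Nat.mod_lt _ (by norm_num)⟩) ?_
        show rot (((b : ℕ) + 3 - a) % 3) (g j) = f
        rw [hrot]
        show R^[(b : ℕ) + 3 - a] (g j) = f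
        rw [show (b : ℕ) + 3 - a = (3 - a) + b by omega, Function.iterate_add_apply]
        show R^[3 - (a : ℕ)] (rot b (g j)) = f
        rw [← e]
        show R^[3 - (a : ℕ)] (R^[(a : ℕ)] f) = f
        rw [← Function.iterate_add_apply, show 3 - (a : ℕ) + a = 3 by omega]
        exact hR3 f
      induction i using Fin.cases with
      | zero =>
        induction j using Fin.cases with
        | zero =>
          simp only [Fin.cons_zero] at e
          rw [hinj3 f hf.1 a b e]
        | succ j => simp only [Fin.cons_zero, Fin.cons_succ] at e; exact (hmix j a b e).elim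
      | succ i =>
        induction j using Fin.cases with
        | zero => simp only [Fin.cons_zero, Fin.cons_succ] at e; exact (hmix i b a e.symm).elim
        | succ j =>
          simp only [Fin.cons_succ] at e
          have := @hg (i, a) (j, b) e
          simp only [Prod.mk.injEq] at this
          rw [this.1, this.2]
  obtain ⟨g, hg1, hg⟩ := hpick 5 le_rfl
  let mk : ↥(S : Subgroup G) → ↥(S : Subgroup G) ⧸ Z' := fun x => QuotientGroup.mk' Z' x
  have hmk1 : ∀ x : (S : Subgroup G), x * x = 1 → mk x = 1 := fun x hx => (QuotientGroup.eq_one_iff x).2 (hmem.2 hx)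
  have hsumS : ∀ F : (S : Subgroup G) ⧸ Z' → ℂ, ∑ x : (S : Subgroup G), F (mk x) = 4 * ∑ q, F q := fun F => by
    rw [← Finset.sum_fiberwise_of_maps_to (s := Finset.univ) (t := Finset.univ) (g := mk)
      (fun _ _ => Finset.mem_univ _), Finset.mul_sum]
    refine Finset.sum_congr rfl fun q _ => ?_
    rw [Finset.sum_congr rfl fun x hx => by rw [(Finset.mem_filter.1 hx).2], Finset.sum_const, nsmul_eq_mul]
    congr 1
    obtain ⟨x0, rfl⟩ := QuotientGroup.mk'_surjective Z' q
    rw [← Nat.card_eq_finsetCard, show (4 : ℂ) = ((Nat.card Z' : ℕ) : ℂ) by rw [hZ']; norm_num]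
    refine congrArg Nat.cast (Nat.card_congr
      { toFun := fun x => ⟨x0⁻¹ * x.1, QuotientGroup.eq.1 (Finset.mem_filter.1 x.2).2.symm⟩
        invFun := fun z => ⟨x0 * z.1, Finset.mem_filter.2 ⟨Finset.mem_univ _, by
          show QuotientGroup.mk' Z' (x0 * z.1) = _
          rw [map_mul, show QuotientGroup.mk' Z' (z.1 : (S : Subgroup G)) = 1 from
            (QuotientGroup.eq_one_iff _).2 z.2, mul_one]⟩⟩
        left_inv := fun x => Subtype.ext (mul_inv_cancel_left _ _)
        right_inv := fun z => Subtype.ext (inv_mul_cancel_left _ _) })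
  have hsumQ : ∀ f : ((S : Subgroup G) ⧸ Z') →* ℂˣ,
      ∑ q, (f q : ℂ) = if f = 1 then (16 : ℂ) else 0 := fun f => by
    split_ifs with hf
    · simp [hf, ← Nat.card_eq_fintype_card, hQ]
    · exact sum_hom_units_eq_zero ((Units.coeHom ℂ).comp f)
        fun e => hf (MonoidHom.ext fun q => Units.ext (DFunLike.congr_fun e q))
  refine ⟨fun i x => ∑ a : Fin 3, (rot a (g i) (mk x) : ℂ), fun i => ?_, fun i x => ?_, fun i x y => ?_,
    fun i x x' e => ?_, fun i x hx => ?_, fun x hx => ?_, fun i => ?_, fun i j => ?_⟩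
  · have e : (fun x : (S : Subgroup G) => ∑ a : Fin 3, (rot a (g i) (mk x) : ℂ)) =
        ∑ a : Fin 3, fun x => (((rot a (g i)).comp (QuotientGroup.mk' Z')) x : ℂ) := by
      funext x; simp [Finset.sum_apply, mk]
    rw [e]
    exact isGeneralizedCharacter_sum _ fun a _ => IsGeneralizedCharacter.of_isCharacter
      (IsIrrCharacter.isCharacter (isIrrCharacter_linear _))
  · rw [map_sum]
    refine Finset.sum_congr rfl fun a _ => ?_
    rcases mul_self_eq_one_iff.1 (show (rot a (g i) (mk x) : ℂ) * (rot a (g i) (mk x) : ℂ) = 1 by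
      rw [← Units.val_mul, hff, Units.val_one]) with e | e <;> rw [e] <;> simp
  · have e : mk (y * x * y⁻¹) = mk x := by
      show QuotientGroup.mk' Z' (y * x * y⁻¹) = QuotientGroup.mk' Z' x
      rw [map_mul, map_mul, map_inv, mul_comm, inv_mul_cancel_left]
    simp only [e]
  · have e' : mk x' = φ (mk x) := by
      show QuotientGroup.mk' Z' x' = φ (QuotientGroup.mk' Z' x)
      rw [hφ, show x' = c x from Subtype.ext (by rw [hc, e])]
    simp only [e', Fin.sum_univ_three, rot, Fin.val_zero, Fin.val_one, Fin.val_two, Function.iterate_succ',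
      Function.iterate_zero, Function.comp_apply, id_eq, ← hR, hR3]
    ring
  · simp [hmk1 x hx]
  · have hne : mk x ≠ 1 := fun e => hx (hmem.1 ((QuotientGroup.eq_one_iff x).1 e))
    have hall := Cfsg.Agent.CoprimeConst.sum_hom_apply (mk x)
    rw [if_neg hne, ← Finset.add_sum_erase _ _ (Finset.mem_univ (1 : ((S : Subgroup G) ⧸ Z') →* ℂˣ))] at hall
    have himg : Finset.univ.image (fun p : Fin 5 × Fin 3 => rot p.2 (g p.1)) =
        Finset.univ.erase (1 : ((S : Subgroup G) ⧸ Z') →* ℂˣ) := by
      refine Finset.eq_of_subset_of_card_le (fun f hf => ?_) ?_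
      · obtain ⟨p, -, rfl⟩ := Finset.mem_image.1 hf
        exact Finset.mem_erase.2 ⟨hnot1 _ (hg1 _) _, Finset.mem_univ _⟩
      · rw [Finset.card_image_of_injective _ hg, Finset.card_erase_of_mem (Finset.mem_univ _), Finset.card_univ,
          ← Nat.card_eq_fintype_card, CommGroup.card_monoidHom_of_hasEnoughRootsOfUnity ((S : Subgroup G) ⧸ Z') ℂ, hQ]
        simp
    rw [← himg, Finset.sum_image fun a _ b _ e => hg e, Fintype.sum_prod_type] at hall
    simp only [MonoidHom.one_apply, Units.val_one] at hall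
    linear_combination hall
  · rw [Finset.sum_comm]
    refine Finset.sum_eq_zero fun a _ => ?_
    rw [hsumS (fun q => (rot a (g i) q : ℂ)), hsumQ, if_neg (hnot1 _ (hg1 i) _), mul_zero]
  · have hterm : ∀ a b : Fin 3, ∑ x, (rot a (g i) (mk x) : ℂ) * (rot b (g j) (mk x) : ℂ) =
        if (i, a) = (j, b) then 64 else 0 := fun a b => by
      have e : ∀ x, (rot a (g i) (mk x) : ℂ) * (rot b (g j) (mk x) : ℂ) =
          ((rot a (g i) * rot b (g j)) (mk x) : ℂ) := fun x => by rw [MonoidHom.mul_apply, Units.val_mul]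
      rw [Finset.sum_congr rfl fun x _ => e x,
        hsumS (fun q => ((rot a (g i) * rot b (g j)) q : ℂ)), hsumQ]
      have hiff : rot a (g i) * rot b (g j) = 1 ↔ (i, a) = (j, b) := by
        constructor
        · intro e1
          refine hg (MonoidHom.ext fun q => ?_)
          have e2 := DFunLike.congr_fun e1 q
          simp only [MonoidHom.mul_apply, MonoidHom.one_apply] at e2
          exact mul_right_cancel (e2.trans (hff (rot b (g j)) q).symm)
        · rintro ⟨⟩
          exact MonoidHom.ext fun q => by simp only [MonoidHom.mul_apply, MonoidHom.one_apply]; exact hff _ q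
      simp only [hiff]
      split_ifs <;> norm_num
    rw [Finset.sum_congr rfl fun x _ => Finset.sum_mul_sum _ _ _ _, Finset.sum_comm]
    rw [Finset.sum_congr rfl fun a _ => Finset.sum_comm,
      Finset.sum_congr rfl fun a _ => Finset.sum_congr rfl fun b _ => hterm a b]
    split_ifs with hij
    · subst hij
      simp
      norm_num
    · simp [hij]

end C3Cfg

end Cfsg.Agent.U34Three
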