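import Cfsg.Agent.Lib.U34Rec.ThreeSetup
import Cfsg.Agent.Lib.SylowSplit.Basic
import Cfsg.Agent.Lib.SylowSplit.Sections
import Cfsg.Agent.Lib.Solvable.Fitting

/-!
The sums over the group of functions of the 2-part, and the 2-parts of products of two involutions, in the
configuration with automiser of order 3.
-/

set_option autoImplicit false
set_option linter.unusedSectionVars false
set_option linter.style.haveILetI false

namespace Cfsg.Agent.U34Three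

open Cfsg Cfsg.Agent.SylowSplit Subgroup
open Cfsg.Agent.U34Block (oddPart)

universe u

variable {G : Type u} [Group G] [Finite G] {S : Sylow 2 G} {m : G}

theorem oddPart_comm {y o : G} (ho : o ∈ oddPart y) : Commute o y := by
  obtain ⟨o', -, rfl⟩ := ho
  exact mem_centralizer_singleton_iff.1 o'.2

theorem oddPart_conj {y g o : G} (hg : Commute g y) (ho : o ∈ oddPart y) : g * o * g⁻¹ ∈ oddPart y := by
  haveI : Fact (Nat.Prime 2) := ⟨Nat.prime_two⟩
  obtain ⟨o', ho', rfl⟩ := ho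
  haveI := Cfsg.Agent.FittingCores.pPrimeCore_normal (G := centralizer ({y} : Set G)) 2
  exact ⟨⟨g, mem_centralizer_singleton_iff.2 hg.eq⟩ * o' * (⟨g, mem_centralizer_singleton_iff.2 hg.eq⟩)⁻¹,
    Subgroup.Normal.conj_mem inferInstance _ ho' _, rfl⟩

theorem oddPart_odd {y o : G} (ho : o ∈ oddPart y) : ¬ 2 ∣ orderOf o := by
  haveI : Fact (Nat.Prime 2) := ⟨Nat.prime_two⟩
  obtain ⟨o', ho', rfl⟩ := ho
  intro h
  rw [show (Subgroup.centralizer ({y} : Set G)).subtype o' = (o' : G) from rfl, Subgroup.orderOf_coe] at h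
  exact Nat.prime_two.coprime_iff_not_dvd.1
    (Cfsg.Agent.FittingCores.pPrimeCore_coprime (G := centralizer ({y} : Set G)) 2).symm
    (h.trans (Subgroup.orderOf_dvd_natCard _ ho'))

theorem eq_one_of_two_odd {s : G} (h2 : ∃ k, orderOf s = 2 ^ k) (hodd : ¬ 2 ∣ orderOf s) : s = 1 := by
  obtain ⟨k, hk⟩ := h2
  rcases Nat.eq_zero_or_pos k with rfl | hpos
  · exact orderOf_eq_one_iff.1 (by simpa using hk)
  · exact absurd (hk ▸ dvd_pow_self 2 hpos.ne') hodd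

/-- The elements of odd order centralising `x`. -/
def regSetS (x : G) : Set G := {g | Commute g x ∧ ¬ 2 ∣ orderOf g}

namespace C3Cfg

variable (h : C3Cfg S m)
include h

theorem m_pow_mem (i : ℕ) {y : G} (hy : y ∈ (S : Subgroup G)) : m ^ i * y * (m ^ i)⁻¹ ∈ (S : Subgroup G) := by
  induction i with
  | zero => simpa using hy
  | succ i ih =>
    rw [pow_succ', show m * m ^ i * y * (m * m ^ i)⁻¹ = m * (m ^ i * y * (m ^ i)⁻¹) * m⁻¹ by group]
    exact h.norm _ ih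

theorem m_inv_mem {y : G} (hy : y ∈ (S : Subgroup G)) : m⁻¹ * y * m ∈ (S : Subgroup G) := by
  have e : m⁻¹ * y * m = m ^ 2 * y * (m ^ 2)⁻¹ := by
    calc m⁻¹ * y * m = m⁻¹ * (y * m ^ 3) * (m ^ 2)⁻¹ := by group
      _ = m⁻¹ * (m ^ 3 * y) * (m ^ 2)⁻¹ := by rw [h.cube y hy]
      _ = m ^ 2 * y * (m ^ 2)⁻¹ := by group
  exact e ▸ h.m_pow_mem 2 hy

theorem conj_mod (i : ℕ) {x : G} (hx : x ∈ (S : Subgroup G)) :
    m ^ i * x * (m ^ i)⁻¹ = m ^ (i % 3) * x * (m ^ (i % 3))⁻¹ := by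
  have key : ∀ k : ℕ, (m ^ 3) ^ k * x * ((m ^ 3) ^ k)⁻¹ = x := fun k => by
    rw [(Commute.pow_left (h.cube x hx : Commute (m ^ 3) x) k).eq, mul_inv_cancel_right]
  have e : m ^ i = m ^ (i % 3) * (m ^ 3) ^ (i / 3) := by
    rw [← pow_mul, ← pow_add]; congr 1; omega
  calc m ^ i * x * (m ^ i)⁻¹
      = m ^ (i % 3) * ((m ^ 3) ^ (i / 3) * x * ((m ^ 3) ^ (i / 3))⁻¹) * (m ^ (i % 3))⁻¹ := by rw [e]; group
    _ = _ := by rw [key]

/-- The involutions of `S`, with 1. -/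
def Z : Subgroup G where
  carrier := {x | x ∈ (S : Subgroup G) ∧ x * x = 1}
  one_mem' := ⟨one_mem _, one_mul 1⟩
  mul_mem' := fun {a b} ha hb => ⟨mul_mem ha.1 hb.1, by
    rw [(show Commute a b from h.central a ha.1 ha.2 b hb.1).symm.mul_mul_mul_comm, ha.2, hb.2, one_mul]⟩
  inv_mem' := fun {a} ha => ⟨inv_mem ha.1, by rw [← mul_inv_rev, ha.2, inv_one]⟩

theorem mem_Z {x : G} : x ∈ h.Z ↔ x ∈ (S : Subgroup G) ∧ x * x = 1 := Iff.rfl

theorem card_Z : Nat.card h.Z = 4 := h.four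

theorem sq_mem {x : G} (hx : x ∈ (S : Subgroup G)) : x * x * (x * x) = 1 := by
  rw [← h.pow_four x hx]; simp only [pow_succ, pow_zero, one_mul, mul_assoc]

/-- `m` moves every class of `S`. -/
theorem no_fix_class {x t : G} (hx : x ∈ (S : Subgroup G)) (ht : t ∈ (S : Subgroup G)) {d : ℕ} (hd : d % 3 ≠ 0)
    (e : t * m ^ d * x * (t * m ^ d)⁻¹ = x) : x = 1 := by
  -- reduce to the exponent one
  obtain ⟨s, hs, es⟩ : ∃ s ∈ (S : Subgroup G), m * x * m⁻¹ = s * x * s⁻¹ := by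
    have e' : m ^ (d % 3) * x * (m ^ (d % 3))⁻¹ = t⁻¹ * x * t⁻¹⁻¹ := by
      rw [← h.conj_mod d hx]
      conv_rhs => rw [← e]
      group
    rcases (show d % 3 = 1 ∨ d % 3 = 2 by omega) with h1 | h1 <;> rw [h1] at e'
    · exact ⟨t⁻¹, inv_mem ht, by simpa using e'⟩
    · refine ⟨m ^ 2 * t⁻¹ * (m ^ 2)⁻¹ * t⁻¹, mul_mem (h.m_pow_mem 2 (inv_mem ht)) (inv_mem ht), ?_⟩
      rw [show m ^ 2 * t⁻¹ * (m ^ 2)⁻¹ * t⁻¹ * x * (m ^ 2 * t⁻¹ * (m ^ 2)⁻¹ * t⁻¹)⁻¹ =
          m ^ 2 * (t⁻¹ * ((m ^ 2)⁻¹ * (t⁻¹ * x * t⁻¹⁻¹) * m ^ 2) * t⁻¹⁻¹) * (m ^ 2)⁻¹ by group, ← e',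
        show (m ^ 2)⁻¹ * (m ^ 2 * x * (m ^ 2)⁻¹) * m ^ 2 = x by group, ← e',
        show m ^ 2 * (m ^ 2 * x * (m ^ 2)⁻¹) * (m ^ 2)⁻¹ = m ^ 4 * x * (m ^ 4)⁻¹ by group, h.conj_mod 4 hx]
      simp
  -- a fixed point on the class
  classical
  let C : Type u := {y : G // y ∈ (S : Subgroup G) ∧ ∃ r ∈ (S : Subgroup G), r * x * r⁻¹ = y}
  haveI : Fintype C := Fintype.ofFinite C
  let f : C → C := fun y => ⟨m * y.1 * m⁻¹, h.norm _ y.2.1, by
    obtain ⟨r, hr, e'⟩ := y.2.2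
    refine ⟨m * r * m⁻¹ * s, mul_mem (h.norm r hr) hs, ?_⟩
    rw [← e', show m * r * m⁻¹ * s * x * (m * r * m⁻¹ * s)⁻¹ = m * r * m⁻¹ * (s * x * s⁻¹) * (m * r * m⁻¹)⁻¹ by
      group, ← es]
    group⟩
  have hf : ∀ y : C, f (f (f y)) = y := fun y => Subtype.ext (by
    show m * (m * (m * y.1 * m⁻¹) * m⁻¹) * m⁻¹ = y.1
    rw [show m * (m * (m * y.1 * m⁻¹) * m⁻¹) * m⁻¹ = m ^ 3 * y.1 * (m ^ 3)⁻¹ by
      simp [pow_succ, mul_assoc], h.cube _ y.2.1,
      mul_inv_cancel_right])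
  let σ : Equiv.Perm C := ⟨f, fun y => f (f y), hf, hf⟩
  obtain ⟨k, hk⟩ : ∃ k, Fintype.card C = 2 ^ k := by
    let xS : (S : Subgroup G) := ⟨x, hx⟩
    let e0 : C ≃ MulAction.orbit (ConjAct (S : Subgroup G)) xS :=
      { toFun := fun y => ⟨⟨y.1, y.2.1⟩, by
          obtain ⟨r, hr, e'⟩ := y.2.2
          exact ⟨ConjAct.toConjAct ⟨r, hr⟩, Subtype.ext e'⟩⟩
        invFun := fun y => ⟨y.1.1, y.1.2, by
          obtain ⟨r, hr⟩ := y.2
          exact ⟨(ConjAct.ofConjAct r).1, (ConjAct.ofConjAct r).2, congrArg Subtype.val hr⟩⟩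
        left_inv := fun y => rfl
        right_inv := fun y => rfl }
    have hdvd : Nat.card C ∣ Nat.card (ConjAct (S : Subgroup G)) := by
      rw [Nat.card_congr (e0.trans (MulAction.orbitEquivQuotientStabilizer _ _))]
      exact Subgroup.card_quotient_dvd_card _
    rw [show Nat.card (ConjAct (S : Subgroup G)) = 2 ^ 6 from h.card.trans (by norm_num)] at hdvd
    obtain ⟨k, -, hk⟩ := (Nat.dvd_prime_pow Nat.prime_two).1 hdvd
    exact ⟨k, by rw [← Nat.card_eq_fintype_card, hk]⟩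
  haveI : Fact (Nat.Prime 3) := ⟨Nat.prime_three⟩
  obtain ⟨y, hy⟩ := Equiv.Perm.exists_fixed_point_of_prime (p := 3) (n := 1) (by
    rw [hk]; exact fun hc => by have := Nat.prime_three.dvd_of_dvd_pow hc; norm_num at this)
    (σ := σ) (by
      refine Equiv.ext fun y => ?_
      simp only [pow_succ, pow_zero, one_mul, Equiv.Perm.mul_apply, Equiv.Perm.one_apply]
      exact hf y)
  have hy' : m * y.1 * m⁻¹ = y.1 := congrArg Subtype.val hy
  have h1 := h.fpf _ y.2.1 (mul_inv_eq_iff_eq_mul.1 hy')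
  obtain ⟨r, -, e'⟩ := y.2.2
  rw [h1] at e'
  exact conj_eq_one_iff.1 e'

/-- `m` permutes the involutions transitively. -/
theorem exists_pow {w w' : G} (hw : w ∈ h.Z) (hw1 : w ≠ 1) (hw' : w' ∈ h.Z) (hw'1 : w' ≠ 1) :
    ∃ i : ℕ, m ^ i * w * (m ^ i)⁻¹ = w' := by
  classical
  haveI : Fintype h.Z := Fintype.ofFinite _
  have hmZ : ∀ {v : G}, v ∈ h.Z → ∀ i : ℕ, m ^ i * v * (m ^ i)⁻¹ ∈ h.Z := fun hv i =>
    ⟨h.m_pow_mem i hv.1, by rw [conj_mul, hv.2, mul_one, mul_inv_cancel]⟩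
  have hinj : Function.Injective (fun i : Fin 3 => (⟨m ^ (i : ℕ) * w * (m ^ (i : ℕ))⁻¹, hmZ hw i⟩ : h.Z)) := by
    intro i j e
    have e' : m ^ (i : ℕ) * w * (m ^ (i : ℕ))⁻¹ = m ^ (j : ℕ) * w * (m ^ (j : ℕ))⁻¹ := congrArg Subtype.val e
    by_contra hij
    have aux : ∀ a b : Fin 3, a < b →
        m ^ (a : ℕ) * w * (m ^ (a : ℕ))⁻¹ = m ^ (b : ℕ) * w * (m ^ (b : ℕ))⁻¹ → False := fun a b hab e' => by
      refine hw1 (h.no_fix_class hw.1 (one_mem _) (d := (b : ℕ) - a) (by omega) ?_)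
      have e'' : m ^ (b : ℕ) = m ^ (a : ℕ) * m ^ ((b : ℕ) - a) := by rw [← pow_add]; congr 1; omega
      rw [e''] at e'
      rw [one_mul]
      calc m ^ ((b : ℕ) - a) * w * (m ^ ((b : ℕ) - a))⁻¹
          = (m ^ (a : ℕ))⁻¹ * (m ^ (a : ℕ) * m ^ ((b : ℕ) - a) * w * (m ^ (a : ℕ) * m ^ ((b : ℕ) - a))⁻¹) *
            m ^ (a : ℕ) := by group
        _ = w := by rw [← e']; group
    rcases lt_or_gt_of_ne hij with hlt | hlt
    exacts [aux i j hlt e', aux j i hlt e'.symm]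
  by_contra hno
  simp only [not_exists] at hno
  have hsub : Finset.univ.image (fun i : Fin 3 => (⟨m ^ (i : ℕ) * w * (m ^ (i : ℕ))⁻¹, hmZ hw i⟩ : h.Z)) ⊆
      (Finset.univ.erase (⟨1, one_mem _⟩ : h.Z)).erase ⟨w', hw'⟩ := by
    intro v hv
    obtain ⟨i, -, rfl⟩ := Finset.mem_image.1 hv
    exact Finset.mem_erase.2 ⟨fun e => hno i (congrArg Subtype.val e), Finset.mem_erase.2
      ⟨fun e => hw1 (conj_eq_one_iff.1 (congrArg Subtype.val e)), Finset.mem_univ _⟩⟩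
  have hc := Finset.card_le_card hsub
  rw [Finset.card_image_of_injective _ hinj, Finset.card_erase_of_mem (Finset.mem_erase.2
    ⟨fun e => hw'1 (congrArg Subtype.val e), Finset.mem_univ _⟩), Finset.card_erase_of_mem (Finset.mem_univ _),
    Finset.card_univ, Finset.card_univ, Fintype.card_fin, ← Nat.card_eq_fintype_card, h.card_Z] at hc
  omega

theorem closed : Closed S h.Z where
  le := fun _ hx => hx.1
  central := fun x hx y hy => h.central x hx.1 hx.2 y hy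
  closed := fun x hx g hg => ⟨hg, by rw [conj_mul, hx.2, mul_one, mul_inv_cancel]⟩

theorem exists_invol : ∃ z ∈ h.Z, z ≠ 1 := by
  by_contra hall
  simp only [not_exists, not_and, not_not] at hall
  have h4 := h.card_Z
  rw [show h.Z = ⊥ from (Subgroup.eq_bot_iff_forall _).2 hall, Subgroup.card_bot] at h4
  omega

/-- Two involutions have a product whose 2-part squares to 1. -/
theorem tp_product {u v : G} (hu : orderOf u = 2) (hv : orderOf v = 2) : tp (u * v) * tp (u * v) = 1 := by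
  have hR : InR h.Z v := by
    obtain ⟨k, hk⟩ := exists_conj_mem S ⟨1, hv.trans (pow_one 2).symm⟩
    exact ⟨k, hk, by rw [conj_mul, mul_self_of_two hv, mul_one, mul_inv_cancel]⟩
  obtain ⟨y, w, b, -, hpp, hy, hb, hc, -, -, -⟩ := h.closed.product_form hu hv hR
  obtain ⟨g, hg⟩ := isConj_iff.1 hb
  rw [tp_eq hpp, hy, hc.symm.mul_mul_mul_comm, mul_self_of_two hu, one_mul, ← hg, conj_mul,
    mul_self_of_two hv, mul_one, mul_inv_cancel]

theorem cen_iff {x : G} (hx : x ∈ (S : Subgroup G)) (hx1 : x ≠ 1) {g : G} :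
    g ∈ regSetS x ↔ g ∈ oddPart x := by
  refine ⟨fun hg => ?_, fun hg => ⟨oddPart_comm hg, oddPart_odd hg⟩⟩
  obtain ⟨o, ho, hs⟩ := h.cen x hx hx1 g hg.1
  obtain ⟨o', ho', rfl⟩ := ho
  obtain ⟨s, hsdef⟩ : ∃ s, s = o'⁻¹ * ⟨g, mem_centralizer_singleton_iff.2 hg.1.eq⟩ := ⟨_, rfl⟩
  haveI : Fact (Nat.Prime 2) := ⟨Nat.prime_two⟩
  haveI hN := Cfsg.Agent.FittingCores.pPrimeCore_normal (G := centralizer ({x} : Set G)) 2
  have h2 : ∃ k, orderOf (s : G) = 2 ^ k := two_elt_of_mem S.2 (by rw [hsdef]; exact hs)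
  obtain ⟨k, hk⟩ := h2
  -- modulo the core, `s` is the image of `g`
  have e : QuotientGroup.mk' (pPrimeCore 2 (centralizer ({x} : Set G))) s =
      QuotientGroup.mk' _ ⟨g, mem_centralizer_singleton_iff.2 hg.1.eq⟩ := by
    rw [hsdef, map_mul, map_inv,
      show QuotientGroup.mk' (pPrimeCore 2 (centralizer ({x} : Set G))) o' = 1 from
        (QuotientGroup.eq_one_iff _).2 ho', inv_one, one_mul]
  have d1 := orderOf_map_dvd (QuotientGroup.mk' (pPrimeCore 2 (centralizer ({x} : Set G)))) s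
  have d2 := orderOf_map_dvd (QuotientGroup.mk' (pPrimeCore 2 (centralizer ({x} : Set G))))
    (⟨g, mem_centralizer_singleton_iff.2 hg.1.eq⟩ : centralizer ({x} : Set G))
  rw [← Subgroup.orderOf_coe s, hk] at d1
  rw [← e, ← Subgroup.orderOf_coe] at d2
  have hone : orderOf (QuotientGroup.mk' (pPrimeCore 2 (centralizer ({x} : Set G))) s) = 1 :=
    Nat.eq_one_of_dvd_coprimes (Nat.Coprime.pow_left k (Nat.prime_two.coprime_iff_not_dvd.2 hg.2)) d1 d2
  have hmem : s ∈ pPrimeCore 2 (centralizer ({x} : Set G)) :=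
    (QuotientGroup.eq_one_iff s).1 (orderOf_eq_one_iff.1 hone)
  refine ⟨o' * s, mul_mem ho' hmem, ?_⟩
  show ((o' * s : centralizer ({x} : Set G)) : G) = g
  rw [hsdef, mul_inv_cancel_left]

/-- The elements carrying `x` into `S`. -/
theorem card_fibre {x : G} (hx : x ∈ (S : Subgroup G)) (hx1 : x ≠ 1) :
    Nat.card {k : G // k * x * k⁻¹ ∈ (S : Subgroup G)} = 192 * Nat.card (oddPart x) := by
  let f : (Fin 3 × (S : Subgroup G)) × oddPart x → {k : G // k * x * k⁻¹ ∈ (S : Subgroup G)} :=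
    fun p => ⟨(p.1.2 : G) * m ^ (p.1.1 : ℕ) * p.2, by
      have e : (p.2 : G) * x * (p.2 : G)⁻¹ = x := by
        rw [(oddPart_comm p.2.2).eq, mul_inv_cancel_right]
      rw [show (p.1.2 : G) * m ^ (p.1.1 : ℕ) * p.2 * x * ((p.1.2 : G) * m ^ (p.1.1 : ℕ) * p.2)⁻¹ =
        (p.1.2 : G) * (m ^ (p.1.1 : ℕ) * (p.2 * x * (p.2 : G)⁻¹) * (m ^ (p.1.1 : ℕ))⁻¹) * (p.1.2 : G)⁻¹ by group, e]
      exact mul_mem (mul_mem p.1.2.2 (h.m_pow_mem _ hx)) (inv_mem p.1.2.2)⟩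
  have hf : Function.Bijective f := by
    constructor
    · rintro ⟨⟨i, s⟩, o⟩ ⟨⟨j, t⟩, o'⟩ e
      have e' : (s : G) * m ^ (i : ℕ) * o = (t : G) * m ^ (j : ℕ) * o' := congrArg Subtype.val e
      have aux : ∀ (i j : Fin 3) (s t : (S : Subgroup G)) (o o' : oddPart x), i < j →
          (s : G) * m ^ (i : ℕ) * o = (t : G) * m ^ (j : ℕ) * o' → False := by
        intro i j s t o o' hij e'
        have ej : m ^ (j : ℕ) = m ^ (i : ℕ) * m ^ ((j : ℕ) - i) := by rw [← pow_add]; congr 1; omega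
        obtain ⟨t', ht', et⟩ : ∃ t' ∈ (S : Subgroup G), m ^ (i : ℕ) * t' * (m ^ (i : ℕ))⁻¹ = (s : G)⁻¹ * t := by
          have h1 : (i : ℕ) = 0 ∨ (i : ℕ) = 1 := by omega
          rcases h1 with h1 | h1
          · exact ⟨(s : G)⁻¹ * t, mul_mem (inv_mem s.2) t.2, by rw [h1]; group⟩
          · exact ⟨m⁻¹ * ((s : G)⁻¹ * t) * m, h.m_inv_mem (mul_mem (inv_mem s.2) t.2), by rw [h1]; group⟩
        have e2 : t' * m ^ ((j : ℕ) - i) = (o : G) * (o' : G)⁻¹ := by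
          apply mul_left_cancel (a := (s : G) * m ^ (i : ℕ))
          calc (s : G) * m ^ (i : ℕ) * (t' * m ^ ((j : ℕ) - i))
              = (s : G) * (m ^ (i : ℕ) * t' * (m ^ (i : ℕ))⁻¹) * (m ^ (i : ℕ) * m ^ ((j : ℕ) - i)) := by group
            _ = (t : G) * m ^ (j : ℕ) * o' * (o' : G)⁻¹ := by rw [et, ← ej]; group
            _ = (s : G) * m ^ (i : ℕ) * ((o : G) * (o' : G)⁻¹) := by rw [← e']; group
        refine hx1 (h.no_fix_class hx ht' (d := (j : ℕ) - i) (by omega) ?_)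
        rw [e2, ((oddPart_comm o.2).mul_left (oddPart_comm o'.2).inv_left).eq, mul_inv_cancel_right]
      rcases lt_trichotomy i j with hij | rfl | hij
      · exact (aux i j s t o o' hij e').elim
      · have e2 : (t : G)⁻¹ * s = m ^ (i : ℕ) * ((o' : G) * (o : G)⁻¹) * (m ^ (i : ℕ))⁻¹ := by
          calc (t : G)⁻¹ * s = (t : G)⁻¹ * ((s : G) * m ^ (i : ℕ) * o) * (o : G)⁻¹ * (m ^ (i : ℕ))⁻¹ := by group
            _ = _ := by rw [e']; group
        have h1 := eq_one_of_two_odd (two_elt_of_mem S.2 (mul_mem (inv_mem t.2) s.2)) (by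
          rw [e2, BrauerSuzuki.orderOf_conj_eq]
          exact oddPart_odd (mul_mem o'.2 (inv_mem o.2)))
        obtain rfl : t = s := Subtype.ext (inv_mul_eq_one.1 h1)
        obtain rfl : o = o' := Subtype.ext (mul_left_cancel e')
        rfl
      · exact (aux j i t s o' o hij e'.symm).elim
    · rintro ⟨k, hk⟩
      obtain ⟨y, hy, i, e⟩ := h.fusion x hx k hk
      have hc : Commute ((y * m ^ (i % 3))⁻¹ * k) x := by
        refine mul_inv_eq_iff_eq_mul.1 ?_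
        rw [show (y * m ^ (i % 3))⁻¹ * k * x * ((y * m ^ (i % 3))⁻¹ * k)⁻¹ =
          (y * m ^ (i % 3))⁻¹ * (k * x * k⁻¹) * (y * m ^ (i % 3)) by group, e,
          show y * m ^ i * x * (y * m ^ i)⁻¹ = y * (m ^ i * x * (m ^ i)⁻¹) * y⁻¹ by group, h.conj_mod i hx]
        group
      obtain ⟨o, ho, hs⟩ := h.cen x hx hx1 _ hc
      obtain ⟨c, hcdef⟩ : ∃ c, c = o⁻¹ * ((y * m ^ (i % 3))⁻¹ * k) := ⟨_, rfl⟩
      rw [← hcdef] at hs
      have hcx : Commute c x := hcdef ▸ ((oddPart_comm ho).inv_left.mul_left hc)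
      have ho' : c⁻¹ * o * c ∈ oddPart x := by simpa using oddPart_conj hcx.inv_left ho
      refine ⟨((⟨i % 3, Nat.mod_lt _ (by norm_num)⟩, ⟨y * (m ^ (i % 3) * c * (m ^ (i % 3))⁻¹),
        mul_mem hy (h.m_pow_mem _ hs)⟩), ⟨c⁻¹ * o * c, ho'⟩), Subtype.ext ?_⟩
      show y * (m ^ (i % 3) * c * (m ^ (i % 3))⁻¹) * m ^ (i % 3) * (c⁻¹ * o * c) = k
      rw [hcdef]; group
  rw [← Nat.card_eq_of_bijective f hf, Nat.card_prod, Nat.card_prod, Nat.card_fin, h.card]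

/-- A function of the 2-part vanishing at 1 has on `G` the average it has on `S⟨m⟩`. -/
theorem sum_tp [Fintype G] [Fintype (S : Subgroup G)] (F : G → ℂ) (hcls : ∀ g k : G, F (k * g * k⁻¹) = F g)
    (h1 : F 1 = 0) :
    192 * ∑ g : G, F (tp g) = (Nat.card G : ℂ) * ∑ x : (S : Subgroup G), F x := by
  classical
  have e1 : ∑ g : G, F (tp g) = ∑ y ∈ twoElts G, ((regSet y).card : ℂ) * F y := by
    rw [sum_sections]
    refine Finset.sum_congr rfl fun y hy => ?_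
    rw [Finset.sum_congr rfl fun s hs => by
      rw [tp_eq (isPPart_mul (mem_twoElts.1 hy) (mem_regSet.1 hs).1 (mem_regSet.1 hs).2)],
      Finset.sum_const, nsmul_eq_mul]
  have e2 : ∀ x : (S : Subgroup G), ∀ k : G, k * (x : G) * k⁻¹ ∈ twoElts G := fun x k =>
    mem_twoElts.2 (two_elt_conj (two_elt_of_mem S.2 x.2) k)
  have e3 : (Nat.card G : ℂ) * ∑ x : (S : Subgroup G), F x =
      ∑ y ∈ twoElts G, (Nat.card {k : G // k⁻¹ * y * k ∈ (S : Subgroup G)} : ℂ) * F y := by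
    calc (Nat.card G : ℂ) * ∑ x : (S : Subgroup G), F x
        = ∑ k : G, ∑ x : (S : Subgroup G), F x := by
          rw [Finset.sum_const, Finset.card_univ, nsmul_eq_mul, Nat.card_eq_fintype_card]
      _ = ∑ k : G, ∑ y ∈ twoElts G, if k⁻¹ * y * k ∈ (S : Subgroup G) then F y else 0 := by
          refine Finset.sum_congr rfl fun k _ => ?_
          rw [← Finset.sum_filter]
          refine Finset.sum_bij (fun x _ => k * (x : G) * k⁻¹) (fun x _ => Finset.mem_filter.2 ⟨e2 x k, by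
              rw [show k⁻¹ * (k * (x : G) * k⁻¹) * k = x by group]; exact x.2⟩)
            (fun a _ b _ e => Subtype.ext (mul_left_cancel (mul_right_cancel e))) (fun y hy => ?_)
            fun x _ => (hcls _ k).symm
          exact ⟨⟨k⁻¹ * y * k, (Finset.mem_filter.1 hy).2⟩, Finset.mem_univ _, by group⟩
      _ = _ := by
          rw [Finset.sum_comm]
          refine Finset.sum_congr rfl fun y _ => ?_
          rw [← Finset.sum_filter, Finset.sum_const, nsmul_eq_mul, Nat.card_eq_fintype_card,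
            Fintype.card_subtype]
  rw [e1, e3, Finset.mul_sum]
  refine Finset.sum_congr rfl fun y hy => ?_
  by_cases hy1 : y = 1
  · rw [hy1, h1, mul_zero, mul_zero, mul_zero]
  obtain ⟨g, hg⟩ := exists_conj_mem S (mem_twoElts.1 hy)
  have hx1 : g * y * g⁻¹ ≠ 1 := fun e => hy1 (conj_eq_one_iff.1 e)
  have c1 : Nat.card {k : G // k⁻¹ * y * k ∈ (S : Subgroup G)} =
      Nat.card {k : G // k * (g * y * g⁻¹) * k⁻¹ ∈ (S : Subgroup G)} :=
    Nat.card_congr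
      { toFun := fun k => ⟨k.1⁻¹ * g⁻¹, by
          rw [show k.1⁻¹ * g⁻¹ * (g * y * g⁻¹) * (k.1⁻¹ * g⁻¹)⁻¹ = k.1⁻¹ * y * k.1 by group]; exact k.2⟩
        invFun := fun k => ⟨(k.1 * g)⁻¹, by
          rw [show (k.1 * g)⁻¹⁻¹ * y * (k.1 * g)⁻¹ = k.1 * (g * y * g⁻¹) * k.1⁻¹ by group]; exact k.2⟩
        left_inv := fun k => Subtype.ext (show (k.1⁻¹ * g⁻¹ * g)⁻¹ = k.1 by group)
        right_inv := fun k => Subtype.ext (show (k.1 * g)⁻¹⁻¹ * g⁻¹ = k.1 by group) }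
  have c2 : (regSet y).card = Nat.card (oddPart (g * y * g⁻¹)) := by
    rw [← Nat.card_eq_finsetCard]
    have e : ∀ s : G, s ∈ regSet y ↔ g * s * g⁻¹ ∈ oddPart (g * y * g⁻¹) := fun s => by
      rw [← h.cen_iff hg hx1, mem_regSet]
      show _ ↔ Commute _ _ ∧ ¬ 2 ∣ orderOf _
      rw [BrauerSuzuki.orderOf_conj_eq]
      exact and_congr_left' ⟨fun hc => hc.map (MulAut.conj g).toMonoidHom, fun hc => by
        simpa [mul_assoc] using hc.map (MulAut.conj g⁻¹).toMonoidHom⟩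
    exact Nat.card_congr (Equiv.subtypeEquiv (MulAut.conj g).toEquiv e)
  rw [c1, c2, h.card_fibre hg hx1]
  push_cast
  ring

end C3Cfg

end Cfsg.Agent.U34Three
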